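import Cfsg.Agent.H910.L2Form

/-!
`SL₂(K)`, `K` finite of characteristic 2, in `Sp_4(F)` (helper910): an absolutely irreducible image preserves a
non-degenerate quadratic form (`sl2_quad`).
-/

set_option autoImplicit false
set_option linter.unusedSectionVars false
open Cfsg
open scoped Matrix MatrixGroups

namespace Cfsg.Agent.H910

open Cfsg.Agent.ClassicalGeometry.SympBasic Cfsg.Agent.H876 Cfsg.Agent.S5652

variable {F : Type*} [Field F] [Finite F] [CharP F 2] {K : Type*} [Field K] [Finite K] [CharP K 2]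

local notation "I4" => Fin 2 ⊕ Fin 2
local notation "V4" => Fin 2 ⊕ Fin 2 → F
local notation "M4" => Matrix (Fin 2 ⊕ Fin 2) (Fin 2 ⊕ Fin 2) F
local notation "B" => sympForm 2 F

variable {f : Matrix.SpecialLinearGroup (Fin 2) K →* GL (Fin 2 ⊕ Fin 2) F}

/-- Case A: a totally isotropic plane is fixed pointwise by the root group. -/
theorem caseA (hfs : ∀ g, f g ∈ spGL 2 F)
    (hirr : ∀ W : Submodule F V4, (∀ g, ∀ v ∈ W, ac f g v ∈ W) → W = ⊥ ∨ W = ⊤)
    (hschur : ∀ M : M4, (∀ g, M * (f g : M4) = (f g : M4) * M) → ∃ c : F, M = c • (1 : M4))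
    {v z : V4} (hv0 : v ≠ 0) (hz : z ∉ Submodule.span F {v}) (hvz : B v z = 0)
    (Hv : ∀ t, ac f (sT t) v = v) (Hz : ∀ t, ac f (sT t) z = z) : False := by
  classical
  have h2' : (2 : F) = 0 := CharTwo.two_eq_zero
  have sym : ∀ x y : V4, B x y = B y x := form_comm
  have alt : ∀ x : V4, B x x = 0 := sympForm_self
  have hw2 : ∀ x, ac f (wT K) (ac f (wT K) x) = x := fun x => by rw [← ac_mul, wT_sq, ac_one]
  have form : ∀ g x y, B (ac f g x) (ac f g y) = B x y := ac_form hfs
  have two : ∀ x : V4, x + x = 0 := fun x => by rw [← two_smul F x, h2', zero_smul]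
  -- fixed vectors
  have hfix : ∀ x, (∀ t, ac f (sT t) x = x) → (∀ t, ac f (sT t) (ac f (wT K) x) = ac f (wT K) x) → x = 0 := by
    intro x h1 h2
    by_contra hx
    refine no_plane (w := ac f (wT K) x) hirr hx (fun t => ?_) (fun t => ?_) ?_ ?_
    · rw [h1]; exact Submodule.subset_span (by simp)
    · rw [h2]; exact Submodule.subset_span (by simp)
    · exact Submodule.subset_span (by simp)
    · rw [hw2]; exact Submodule.subset_span (by simp)
  obtain ⟨L, hL⟩ : ∃ L : Submodule F V4, L = Submodule.span F {v, z} := ⟨_, rfl⟩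
  have hvL : v ∈ L := by rw [hL]; exact Submodule.subset_span (by simp)
  have hLs : ∀ x ∈ L, ∀ t, ac f (sT t) x = x := by
    intro x hx t
    rw [hL] at hx
    obtain ⟨a, b, rfl⟩ := Submodule.mem_span_pair.1 hx
    rw [ac_add, ac_smul, ac_smul, Hv, Hz]
  have hLL : ∀ x ∈ L, ∀ y ∈ L, B x y = 0 := by
    intro x hx y hy
    rw [hL] at hx hy
    obtain ⟨a, b, rfl⟩ := Submodule.mem_span_pair.1 hx
    obtain ⟨c, d, rfl⟩ := Submodule.mem_span_pair.1 hy
    simp only [sympForm_add_left, sympForm_add_right, sympForm_smul_left, sympForm_smul_right, alt, hvz, sym z v]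
    ring
  have hLdim : Module.finrank F L = 2 := by
    rw [hL, show ({v, z} : Set V4) = Set.range ![v, z] by simp [Set.pair_comm]]
    rw [finrank_span_eq_card]
    · rfl
    · rw [LinearIndependent.pair_iff' hv0]
      intro a ha
      exact hz (Submodule.mem_span_singleton.2 ⟨a, ha⟩)
  let W := L.map (Matrix.mulVecLin (f (wT K) : M4))
  have hWmem : ∀ x, x ∈ W ↔ ∃ l ∈ L, ac f (wT K) l = x := fun x => Iff.rfl
  have hWdim : Module.finrank F W = 2 := by
    refine Eq.trans (LinearEquiv.finrank_eq (Submodule.equivMapOfInjective _ ?_ L)).symm hLdim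
    intro x y hxy
    rw [← hw2 x, ← hw2 y]
    exact congrArg _ hxy
  have hinf : L ⊓ W = ⊥ := by
    rw [eq_bot_iff]
    rintro x ⟨h1, h2⟩
    obtain ⟨l, hl, rfl⟩ := (hWmem x).1 h2
    rw [Submodule.mem_bot]
    apply hfix _ (hLs _ h1)
    rw [hw2]
    exact hLs _ hl
  have hsup : L ⊔ W = ⊤ := by
    apply Submodule.eq_top_of_finrank_eq
    have h1 := Submodule.finrank_sup_add_finrank_inf_eq L W
    rw [hinf, finrank_bot, hLdim, hWdim] at h1
    have h4 : Module.finrank F (Fin 2 ⊕ Fin 2 → F) = 4 := by simp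
    omega
  have hdec : ∀ x : V4, ∃ l ∈ L, ∃ l' ∈ L, x = l + ac f (wT K) l' := by
    intro x
    have hx : x ∈ L ⊔ W := by rw [hsup]; trivial
    obtain ⟨l, hl, y, hy, rfl⟩ := Submodule.mem_sup.1 hx
    obtain ⟨l', hl', rfl⟩ := (hWmem y).1 hy
    exact ⟨l, hl, l', hl', rfl⟩
  have hL0 : ∀ l ∈ L, ac f (wT K) l ∈ L → l = 0 := by
    intro l hl hl'
    exact hfix _ (hLs _ hl) (hLs _ hl')
  have hperp : ∀ y, (∀ l ∈ L, B y l = 0) → y ∈ L := by
    intro y hy
    obtain ⟨l, hl, l', hl', rfl⟩ := hdec y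
    have h1 : ac f (wT K) l' = 0 := by
      apply eq_zero_of_forall_sympForm_right
      intro x
      obtain ⟨m, hm, m', hm', rfl⟩ := hdec x
      have h2 := hy m hm
      rw [sympForm_add_left, hLL _ hl _ hm, zero_add] at h2
      rw [sympForm_add_right, form, hLL _ hl' _ hm', h2, add_zero]
    rw [h1, add_zero]
    exact hl
  obtain ⟨A, hA⟩ : ∃ A : K → V4 → V4, ∀ t x, A t x = ac f (sT t) (ac f (wT K) x) - ac f (wT K) x := ⟨_, fun _ _ => rfl⟩
  have hsw : ∀ t x, ac f (sT t) (ac f (wT K) x) = ac f (wT K) x + A t x := by intro t x; rw [hA]; abel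
  have hAL : ∀ t x, A t x ∈ L := by
    intro t x
    apply hperp
    intro l hl
    have h1 := form (sT t) (ac f (wT K) x) l
    rw [hLs l hl] at h1
    rw [hA, sympForm_sub_left, h1, sub_self]
  have hAadd : ∀ t x y, A t (x + y) = A t x + A t y := by
    intro t x y
    rw [hA, hA, hA, ac_add, ac_add]; abel
  have hAzero : ∀ t, A t 0 = 0 := by
    intro t
    rw [hA, ac_zero, ac_zero, sub_self]
  have hA0 : ∀ x, A 0 x = 0 := by
    intro x
    rw [hA, sT_zero, ac_one, sub_self]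
  have hAt : ∀ t r x, A (t + r) x = A t x + A r x := by
    intro t r x
    rw [hA (t + r), ← sT_add, ac_mul, hsw, ac_add, hsw, hLs _ (hAL r x)]; abel
  have hCS : ∀ x, (∀ t, ac f (sT t) x = x) → x ∈ L := by
    intro x hx
    obtain ⟨l, hl, l', hl', rfl⟩ := hdec x
    have h1 : ∀ t, ac f (sT t) (ac f (wT K) l') = ac f (wT K) l' := by
      intro t
      have := hx t
      rw [ac_add, hLs l hl] at this
      exact add_left_cancel this
    rw [hfix l' (hLs l' hl') h1, ac_zero, add_zero]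
    exact hl
  have hxL : ∀ (a : Kˣ), ∀ l ∈ L, ac f (xT a) l ∈ L := by
    intro a l hl
    apply hCS
    intro t
    rw [← ac_mul, sT_xT, ac_mul, hLs l hl]
  have hrel : ∀ (a : Kˣ), ∀ l ∈ L, ac f (xT a) l = A a l ∧ A ((a⁻¹ : Kˣ) : K) (A a l) = l := by
    intro a l hl
    have h := congrArg (fun g => ac f g (ac f (wT K) l)) (xT_rel a)
    simp only [ac_mul] at h
    rw [hw2, hsw (a : K) l] at h
    simp only [ac_add, hw2] at h
    rw [hLs l hl, hsw ((a⁻¹ : Kˣ) : K) (A (a : K) l)] at h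
    simp only [ac_add, hw2] at h
    rw [hsw (a : K) l, hLs _ (hAL _ l), hsw (a : K) (A ((a⁻¹ : Kˣ) : K) (A (a : K) l))] at h
    have e : ac f (xT a) l - A a (A ((a⁻¹ : Kˣ) : K) (A a l)) = ac f (wT K) (l + A ((a⁻¹ : Kˣ) : K) (A a l)) := by
      have h5 := two (A (a : K) l)
      rw [h, ac_add]
      calc _ = ac f (wT K) l + ac f (wT K) (A ((a⁻¹ : Kˣ) : K) (A (a : K) l)) + (A (a : K) l + A (a : K) l) := by abel
        _ = _ := by rw [h5, add_zero]
    have h1 : l + A ((a⁻¹ : Kˣ) : K) (A a l) = 0 := by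
      apply hL0 _ (add_mem hl (hAL _ _))
      rw [← e]
      exact sub_mem (hxL a l hl) (hAL _ _)
    have h3 : A ((a⁻¹ : Kˣ) : K) (A a l) = l := by
      have h4 := two (A ((a⁻¹ : Kˣ) : K) (A a l))
      rw [← h4] at h1
      exact (add_right_cancel h1).symm
    rw [h1, ac_zero, h3] at e
    exact ⟨sub_eq_zero.1 e, h3⟩
  have hconj : ∀ (a : Kˣ) (r : K), ∀ l ∈ L, A ((a : K) ^ 2 * r) l = A a (A r (A a l)) := by
    intro a r l hl
    have h := congrArg (fun g => ac f g (ac f (wT K) (A a l))) (xT_sT a r)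
    simp only [ac_mul] at h
    have e1 : ac f (xT a) (ac f (wT K) (A a l)) = ac f (wT K) l := by
      rw [← ac_mul, xT_wT, ac_mul, (hrel a⁻¹ _ (hAL _ _)).1, (hrel a l hl).2]
    rw [hsw r (A a l), ac_add, e1, hsw, (hrel a _ (hAL _ _)).1] at h
    exact (add_left_cancel h).symm
  have hA1 : ∀ l ∈ L, A 1 l = l := by
    intro l hl
    have := (hrel 1 l hl).1
    rw [xT_one, ac_one] at this
    exact this.symm
  have hsq : ∀ (a : K), ∀ l ∈ L, A (a ^ 2) l = A a (A a l) := by
    intro a l hl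
    by_cases ha : a = 0
    · rw [ha, zero_pow two_ne_zero, hA0, hA0]
    · have := hconj (Units.mk0 a ha) 1 l hl
      rw [mul_one, hA1 _ (hAL _ _)] at this
      exact this
  have hcomm : ∀ (a b : K), ∀ l ∈ L, A a (A b l) = A b (A a l) := by
    intro a b l hl
    have h := hsq (a + b) l hl
    rw [CharTwo.add_sq, hAt, hsq a l hl, hsq b l hl] at h
    simp only [hAt, hAadd] at h
    have h1 : A a (A b l) + A b (A a l) = 0 := by
      have h6 : A a (A b l) + A b (A a l) = (A a (A a l) + A b (A a l) + (A a (A b l) + A b (A b l))) - (A a (A a l) + A b (A b l)) := by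
        abel
      rw [h6]
      rw [h]
      abel
    have h3 := two (A b (A a l))
    rw [← h3] at h1
    exact add_right_cancel h1
  -- the commuting maps
  obtain ⟨D, hD⟩ : ∃ D : K → V4 → V4, ∀ t x, D t x = A t x + ac f (wT K) (A t (ac f (wT K) x)) := ⟨_, fun _ _ => rfl⟩
  have hAw : ∀ t, ∀ l ∈ L, A t (ac f (wT K) l) = 0 := by
    intro t l hl
    rw [hA, hw2, hLs l hl, sub_self]
  have hDd : ∀ t, ∀ l ∈ L, ∀ l' ∈ L, D t (l + ac f (wT K) l') = A t l + ac f (wT K) (A t l') := by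
    intro t l hl l' hl'
    rw [hD, hAadd, hAw t l' hl', ac_add, hw2, hAadd, hAw t l hl, zero_add, add_zero]
  have hDw : ∀ t x, D t (ac f (wT K) x) = ac f (wT K) (D t x) := by
    intro t x
    rw [hD, hD, hw2, ac_add, hw2, add_comm]
  have hDs : ∀ t r x, D t (ac f (sT r) x) = ac f (sT r) (D t x) := by
    intro t r x
    obtain ⟨l, hl, l', hl', rfl⟩ := hdec x
    rw [hDd t l hl l' hl', ac_add, hLs l hl, hsw, ac_add, hLs _ (hAL _ _), hsw, hcomm r t l' hl']
    rw [show l + (ac f (wT K) l' + A r l') = (l + A r l') + ac f (wT K) l' by abel,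
      hDd t _ (add_mem hl (hAL _ _)) l' hl', hAadd]
    abel
  have hDg : ∀ t g x, D t (ac f g x) = ac f g (D t x) := by
    intro t g
    induction g using sl2_induction with
    | hs r => exact hDs t r
    | hw => exact hDw t
    | hmul a b ha hb =>
      intro x
      rw [ac_mul, ha, hb, ac_mul]
  have hDm : ∀ t, ∃ c : F, ∀ x, D t x = c • x := by
    intro t
    let M : M4 := ((f (sT t) : M4) - 1) * (f (wT K) : M4) + (f (wT K) : M4) * (((f (sT t) : M4) - 1) * ((f (wT K) : M4) * (f (wT K) : M4)))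
    have hM : ∀ x, M *ᵥ x = D t x := by
      intro x
      rw [hD, hA, hA]
      simp only [M, Matrix.add_mulVec, ← Matrix.mulVec_mulVec, Matrix.sub_mulVec, Matrix.one_mulVec]
      rfl
    obtain ⟨c, hc⟩ := hschur M (by
      intro g
      apply Matrix.mulVec_injective
      funext x
      rw [← Matrix.mulVec_mulVec, ← Matrix.mulVec_mulVec, hM, hM]
      exact hDg t g x)
    refine ⟨c, fun x => ?_⟩
    rw [← hM, hc, Matrix.smul_mulVec, Matrix.one_mulVec]
  refine no_plane (v := v) (w := ac f (wT K) v) hirr hv0 (fun t => ?_) (fun t => ?_) ?_ ?_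
  · rw [Hv]; exact Submodule.subset_span (by simp)
  · obtain ⟨c, hc⟩ := hDm t
    have h1 : D t v = A t v := by
      have := hDd t v hvL 0 (Submodule.zero_mem _)
      rwa [ac_zero, add_zero, hAzero, ac_zero, add_zero] at this
    rw [hsw, ← h1, hc]
    exact add_mem (Submodule.subset_span (by simp)) (Submodule.smul_mem _ _ (Submodule.subset_span (by simp)))
  · exact Submodule.subset_span (by simp)
  · rw [hw2]; exact Submodule.subset_span (by simp)

theorem IsU.c_eq {g : GL I4 F} {a b c e : F} (h : IsU g a b c e) : c = B ((g : M4) *ᵥ (ed : V4)) ec := by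
  rw [h.d']
  simp [form4]

/-- **an absolutely irreducible image of `SL₂(K)` in `Sp_4(F)`, characteristic 2, preserves a non-degenerate quadratic
form.** -/
theorem sl2_quad (hfs : ∀ g, f g ∈ spGL 2 F)
    (hirr : ∀ W : Submodule F V4, (∀ g, ∀ v ∈ W, ac f g v ∈ W) → W = ⊥ ∨ W = ⊤)
    (hschur : ∀ M : M4, (∀ g, M * (f g : M4) = (f g : M4) * M) → ∃ c : F, M = c • (1 : M4)) :
    ∃ Q : V4 → F, Cfsg.Geo.IsNondegenerateQuadraticForm Q ∧ ∀ g x, Q (ac f g x) = Q x := by
  classical
  have h2' : (2 : F) = 0 := CharTwo.two_eq_zero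
  have sym : ∀ x y : V4, B x y = B y x := form_comm
  have alt : ∀ x : V4, B x x = 0 := sympForm_self
  have hw2 : ∀ x, ac f (wT K) (ac f (wT K) x) = x := fun x => by rw [← ac_mul, wT_sq, ac_one]
  have form : ∀ g x y, B (ac f g x) (ac f g y) = B x y := ac_form hfs
  let S : Subgroup (GL I4 F) :=
    { carrier := Set.range (fun t : K => f (sT t))
      mul_mem' := by
        rintro _ _ ⟨t, rfl⟩ ⟨r, rfl⟩
        exact ⟨t + r, by simp only [← sT_add, map_mul]⟩
      one_mem' := ⟨0, by simp only [sT_zero, map_one]⟩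
      inv_mem' := by
        rintro _ ⟨t, rfl⟩
        refine ⟨t, ?_⟩
        show f (sT t) = (f (sT t))⁻¹
        rw [eq_inv_iff_mul_eq_one, ← map_mul, sT_add, CharTwo.add_self_eq_zero, sT_zero, map_one] }
  have hS : IsPGroup 2 S := by
    rintro ⟨_, ⟨t, rfl⟩⟩
    refine ⟨1, ?_⟩
    apply Subtype.ext
    show (f (sT t)) ^ 2 ^ 1 = 1
    rw [pow_one, pow_two, ← map_mul, sT_add, CharTwo.add_self_eq_zero, sT_zero, map_one]
  obtain ⟨h, hh, hU⟩ := exists_flag hS (by
    rintro _ ⟨t, rfl⟩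
    exact hfs _)
  have hU' : ∀ t, ∃ a b c e, IsU (h⁻¹ * f (sT t) * h) a b c e := fun t => (hU _ ⟨t, rfl⟩).exists
  choose a b c e hu using hU'
  have hcj : ∀ t x, ac f (sT t) ((h : M4) *ᵥ x) = (h : M4) *ᵥ (((h⁻¹ * f (sT t) * h : GL I4 F) : M4) *ᵥ x) := by
    intro t x
    rw [mul_mulVec, mul_mulVec, mulVec_inv_cancel]; rfl
  have hfh : ∀ x y : V4, B ((h : M4) *ᵥ x) ((h : M4) *ᵥ y) = B x y := fun x y => sp_form hh x y
  -- relations
  have hab : ∀ t, a t * b t = 0 := by
    intro t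
    have h1 := ((hu t).mul (hu t)).c_eq
    have h3 : h⁻¹ * f (sT t) * h * (h⁻¹ * f (sT t) * h) = 1 := by
      have : h⁻¹ * f (sT t) * h * (h⁻¹ * f (sT t) * h) = h⁻¹ * (f (sT t) * f (sT t)) * h := by group
      rw [this, ← map_mul, sT_add, CharTwo.add_self_eq_zero, sT_zero, map_one]; group
    rw [h3, Units.val_one, Matrix.one_mulVec] at h1
    simp [form4] at h1
    linear_combination h1 - c t * h2'
  have hcomm : ∀ t r, a t * b r = a r * b t := by
    intro t r
    have h1 := ((hu t).mul (hu r)).c_eq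
    have h3 := ((hu r).mul (hu t)).c_eq
    have h4 : h⁻¹ * f (sT t) * h * (h⁻¹ * f (sT r) * h) = h⁻¹ * f (sT r) * h * (h⁻¹ * f (sT t) * h) := by
      have e1 : h⁻¹ * f (sT t) * h * (h⁻¹ * f (sT r) * h) = h⁻¹ * (f (sT t) * f (sT r)) * h := by group
      have e2 : h⁻¹ * f (sT r) * h * (h⁻¹ * f (sT t) * h) = h⁻¹ * (f (sT r) * f (sT t)) * h := by group
      rw [e1, e2, ← map_mul, ← map_mul, sT_add, sT_add, add_comm]
    rw [h4, ← h3] at h1
    linear_combination h1
  obtain ⟨v, hv⟩ : ∃ v : V4, v = (h : M4) *ᵥ (ea : V4) := ⟨_, rfl⟩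
  obtain ⟨v1, hv1⟩ : ∃ v1 : V4, v1 = (h : M4) *ᵥ (eb : V4) := ⟨_, rfl⟩
  have Hv : ∀ t, ac f (sT t) v = v := by
    intro t
    rw [hv, hcj, (hu t).a']
  have Hv1 : ∀ t, ac f (sT t) v1 = v1 + a t • v := by
    intro t
    rw [hv1, hcj, (hu t).b', Matrix.mulVec_add, Matrix.mulVec_smul, hv]
  have hvd : B v ((h : M4) *ᵥ (ed : V4)) = 0 := by rw [hv, hfh]; simp [form4]
  have hv1d : B v1 ((h : M4) *ᵥ (ed : V4)) = 1 := by rw [hv1, hfh]; simp [form4]
  have hvc : B v ((h : M4) *ᵥ (ec : V4)) = 1 := by rw [hv, hfh]; simp [form4]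
  have hvv1 : B v v1 = 0 := by rw [hv, hv1, hfh]; simp [form4]
  have hv0 : v ≠ 0 := by
    rintro h0
    rw [h0, sympForm_zero_left] at hvc
    exact zero_ne_one hvc
  have hv1v : v1 ∉ Submodule.span F {v} := by
    intro h1
    obtain ⟨k, hk⟩ := Submodule.mem_span_singleton.1 h1
    rw [← hk, sympForm_smul_left, hvd, mul_zero] at hv1d
    exact zero_ne_one hv1d
  have hnoA : ∀ z, (∀ t, ac f (sT t) z = z) → B v z = 0 → z ∈ Submodule.span F {v} := by
    intro z h1 h3
    by_contra h4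
    exact caseA hfs hirr hschur hv0 h4 h3 Hv h1
  obtain ⟨t0, ht0⟩ : ∃ t0, a t0 ≠ 0 := by
    by_contra hcon
    push Not at hcon
    apply hv1v
    apply hnoA _ _ hvv1
    intro t
    rw [Hv1, hcon, zero_smul, add_zero]
  have hb : ∀ t, b t = 0 := by
    intro t
    have h1 : b t0 = 0 := (mul_eq_zero.1 (hab t0)).resolve_left ht0
    have h3 := hcomm t0 t
    rw [h1, mul_zero] at h3
    exact (mul_eq_zero.1 h3).resolve_left ht0
  have H2 : ∀ t y, B y v = 0 → ∃ k : F, ac f (sT t) y = y + k • v := by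
    intro t y hy
    obtain ⟨x, rfl⟩ : ∃ x, (h : M4) *ᵥ x = y := ⟨_, mulVec_inv_cancel h y⟩
    rw [hv, hfh] at hy
    have h1 : ((h⁻¹ * f (sT t) * h : GL I4 F) : M4) *ᵥ x = x + (B x ed * a t + B x eb * c t) • (ea : V4) := by
      have hx := coord x
      rw [hy, zero_smul, add_zero] at hx
      generalize B x ec = α at hx
      generalize B x ed = β at hx ⊢
      generalize B x eb = δ at hx ⊢
      rw [hx]
      simp only [Matrix.mulVec_add, Matrix.mulVec_smul, (hu t).a', (hu t).b', (hu t).d', hb t, zero_smul, add_zero]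
      module
    refine ⟨B x ed * a t + B x eb * c t, ?_⟩
    rw [hcj, h1, Matrix.mulVec_add, Matrix.mulVec_smul, hv]
  have H3 : ∀ z, (∀ t, ac f (sT t) z = z) → ∃ k : F, z = k • v := by
    intro z hz
    have h1 := form (sT t0) z v1
    rw [hz, Hv1, sympForm_add_right, sympForm_smul_right] at h1
    have h3 : a t0 * B z v = 0 := by linear_combination h1
    have h4 : B v z = 0 := by rw [sym]; exact (mul_eq_zero.1 h3).resolve_left ht0
    obtain ⟨k, hk⟩ := Submodule.mem_span_singleton.1 (hnoA z hz h4)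
    exact ⟨k, hk.symm⟩
  have hne : B v (ac f (wT K) v) ≠ 0 := by
    intro h0
    refine no_plane (v := v) (w := ac f (wT K) v) hirr hv0 (fun t => ?_) (fun t => ?_) ?_ ?_
    · rw [Hv]; exact Submodule.subset_span (by simp)
    · obtain ⟨k, hk⟩ := H2 t (ac f (wT K) v) (by rw [sym]; exact h0)
      rw [hk]
      exact add_mem (Submodule.subset_span (by simp)) (Submodule.smul_mem _ _ (Submodule.subset_span (by simp)))
    · exact Submodule.subset_span (by simp)
    · rw [hw2]; exact Submodule.subset_span (by simp)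
  obtain ⟨r, hr⟩ := exists_sq (B v (ac f (wT K) v))⁻¹
  have hr0 : r ≠ 0 := by
    rintro rfl
    rw [zero_pow two_ne_zero] at hr
    exact inv_ne_zero hne hr.symm
  obtain ⟨Q, Q1, Q2, Q3⟩ := exists_quad_of_line (f := f) hfs hirr (v := r • v) (by
      rw [ac_smul, sympForm_smul_left, sympForm_smul_right, ← mul_assoc, ← pow_two, hr, inv_mul_cancel₀ hne])
    (by
      intro t
      rw [ac_smul, Hv])
    (by
      intro t y hy
      rw [sympForm_smul_right] at hy
      obtain ⟨k, hk⟩ := H2 t y ((mul_eq_zero.1 hy).resolve_left hr0)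
      refine ⟨k * r⁻¹, ?_⟩
      rw [hk, smul_smul, mul_assoc, inv_mul_cancel₀ hr0, mul_one])
    (by
      intro z hz
      obtain ⟨k, hk⟩ := H3 z hz
      refine ⟨k * r⁻¹, ?_⟩
      rw [hk, smul_smul, mul_assoc, inv_mul_cancel₀ hr0, mul_one])
  refine ⟨Q, ?_, Q3⟩
  have hp : QuadraticMap.polar Q = sympForm 2 F := by
    funext u w
    rw [QuadraticMap.polar, Q2]
    ring
  refine ⟨Q1, ?_, ?_⟩
  · rw [hp]
    exact ⟨sympForm_add_left, fun c x v => sympForm_smul_left c x v, fun v x y => sympForm_add_right v x y,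
      fun c v x => sympForm_smul_right c v x⟩
  · rw [hp]
    intro v hv
    refine ⟨?_, ?_⟩
    · by_contra h
      push Not at h
      exact hv (eq_zero_of_forall_sympForm_left h)
    · by_contra h
      push Not at h
      exact hv (eq_zero_of_forall_sympForm_right h)

end Cfsg.Agent.H910
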