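import Cfsg.Agent.H910.Unip
import Cfsg.Agent.H906.TraceField

/-!
Traces of 4-dimensional representations in characteristic 2 (helper910): if elements of odd order are conjugate to
their `2^k`-th powers then all traces `t` satisfy `t^(2^k) = t`; an absolutely irreducible group not realisable over
a proper subfield is then defined over a field of order dividing.
-/

set_option autoImplicit false
set_option linter.unusedSectionVars false
open Cfsg
open scoped Matrix MatrixGroups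

namespace Cfsg.Agent.H910

open Cfsg.Agent.ClassicalGeometry.SympBasic Cfsg.Agent.H876 Cfsg.Agent.S5652

variable {F : Type*} [Field F] [CharP F 2]

local notation "I4" => Fin 2 ⊕ Fin 2
local notation "M4" => Matrix (Fin 2 ⊕ Fin 2) (Fin 2 ⊕ Fin 2) F

theorem trace_sq4 (M : M4) : (M ^ 2).trace = M.trace ^ 2 := by
  have h2' : (2 : F) = 0 := CharTwo.two_eq_zero
  rw [pow_two]
  simp only [Matrix.trace, Matrix.diag_apply, Matrix.mul_apply, Fintype.sum_sum_type, Fin.sum_univ_two]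
  linear_combination (M (.inl 0) (.inl 1) * M (.inl 1) (.inl 0) - M (.inl 0) (.inl 0) * M (.inl 1) (.inl 1) +
    M (.inl 0) (.inr 0) * M (.inr 0) (.inl 0) - M (.inl 0) (.inl 0) * M (.inr 0) (.inr 0) +
    M (.inl 0) (.inr 1) * M (.inr 1) (.inl 0) - M (.inl 0) (.inl 0) * M (.inr 1) (.inr 1) +
    M (.inl 1) (.inr 0) * M (.inr 0) (.inl 1) - M (.inl 1) (.inl 1) * M (.inr 0) (.inr 0) +
    M (.inl 1) (.inr 1) * M (.inr 1) (.inl 1) - M (.inl 1) (.inl 1) * M (.inr 1) (.inr 1) +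
    M (.inr 0) (.inr 1) * M (.inr 1) (.inr 0) - M (.inr 0) (.inr 0) * M (.inr 1) (.inr 1)) * h2'

theorem trace_pow4 (M : M4) (k : ℕ) : (M ^ 2 ^ k).trace = M.trace ^ 2 ^ k := by
  induction k with
  | zero => simp
  | succ k ih => rw [pow_succ, pow_mul, trace_sq4, ih, ← pow_mul]

theorem trace_conj {g c : GL I4 F} : ((c * g * c⁻¹ : GL I4 F) : M4).trace = (g : M4).trace := by
  rw [Units.val_mul, Units.val_mul, Matrix.trace_mul_comm, ← mul_assoc, Units.inv_mul, one_mul]

theorem trace_frob {G : Type*} [Group G] [Finite G] (f : G →* GL (Fin 2 ⊕ Fin 2) F) (k : ℕ)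
    (h : ∀ x : G, Odd (orderOf x) → IsConj x (x ^ 2 ^ k)) (g : G) :
    ((f g : M4).trace) ^ 2 ^ k = (f g : M4).trace := by
  obtain ⟨N, m, hm, hN⟩ := Nat.exists_eq_two_pow_mul_odd (orderOf_pos g).ne'
  obtain ⟨x, hx⟩ : ∃ x, x = g ^ 2 ^ N := ⟨_, rfl⟩
  have hxo : Odd (orderOf x) := by
    refine Odd.of_dvd_nat hm (orderOf_dvd_of_pow_eq_one ?_)
    rw [hx, ← pow_mul, ← hN, pow_orderOf_eq_one]
  have h1 : (f x : M4).trace = (f g : M4).trace ^ 2 ^ N := by
    rw [hx, map_pow, Units.val_pow_eq_pow_val, trace_pow4]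
  have h2 : (f x : M4).trace ^ 2 ^ k = (f x : M4).trace := by
    obtain ⟨c, hc⟩ := isConj_iff.1 (h x hxo)
    rw [← trace_pow4, ← Units.val_pow_eq_pow_val, ← map_pow, ← hc, map_mul, map_mul, map_inv, trace_conj]
  rw [h1, ← pow_mul, mul_comm, pow_mul] at h2
  exact iterateFrobenius_inj F 2 N (by rw [iterateFrobenius_def, iterateFrobenius_def]; exact h2)

/-- the field of definition. -/
theorem frob_eq {F : Type*} [Field F] [Finite F] [CharP F 2] {H P : Subgroup (GL (Fin 2 ⊕ Fin 2) F)}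
    (hc : Cfsg.Geo.IsResidualCore H P) {k : ℕ}
    (h : ∀ g ∈ P, ((g : Matrix (Fin 2 ⊕ Fin 2) (Fin 2 ⊕ Fin 2) F).trace) ^ 2 ^ k = (g : Matrix (Fin 2 ⊕ Fin 2) (Fin 2 ⊕ Fin 2) F).trace)
    (t : F) : t ^ 2 ^ k = t := by
  let F₀ : Subfield F := RingHom.eqLocusField (iterateFrobenius F 2 k) (RingHom.id F)
  have hmem : ∀ x, x ∈ F₀ ↔ x ^ 2 ^ k = x := fun x => Iff.rfl
  by_contra hcon
  refine hc.no_subfield F₀ ?_ (Cfsg.Agent.H906.realisable_of_trace hc.absIrred F₀ (fun g hg => (hmem _).2 (h g hg)))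
  intro h1
  apply hcon
  rw [← hmem, h1]
  trivial

theorem card_dvd {F : Type*} [Field F] [Fintype F] {N : ℕ} (hN : 2 ≤ N) (h : ∀ t : F, t ^ N = t) :
    Fintype.card F - 1 ∣ N - 1 := by
  classical
  obtain ⟨a, ha⟩ := IsCyclic.exists_generator (α := Fˣ)
  rw [← Fintype.card_units, ← Nat.card_eq_fintype_card, ← orderOf_eq_card_of_forall_mem_zpowers ha]
  apply orderOf_dvd_of_pow_eq_one
  have h1 : a ^ N = a := Units.ext (by rw [Units.val_pow_eq_pow_val]; exact h a)
  have h2 : a ^ (N - 1) * a = 1 * a := by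
    rw [← pow_succ, one_mul, Nat.sub_add_cancel (by omega)]
    exact h1
  exact mul_right_cancel h2

end Cfsg.Agent.H910
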