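import Cfsg.Agent.H910.List
import Cfsg.Agent.H910.L2Even
import Cfsg.Agent.H910.TraceFrob
import Cfsg.Agent.H438.SzMax
import Cfsg.Agent.S0245
import Cfsg.Agent.H875.TaskSp4
import Cfsg.Agent.H937.A6Trace
import Cfsg.Agent.H937.SzConj

/-!
The residual class of maximal subgroups of `Sp_4(q)`, `q ≥ 4` even (helper910).
-/

set_option autoImplicit false
set_option linter.unusedSectionVars false
open Cfsg
open scoped Matrix MatrixGroups

namespace Cfsg.Agent.H910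

open Cfsg.Agent.ClassicalGeometry.SympBasic Cfsg.Agent.H876 Cfsg.Agent.S5652 Cfsg.Geo

local notation "I4" => Fin 2 ⊕ Fin 2

theorem scalars_inf_bot {F : Type*} [Field F] [Finite F] [CharP F 2] {P : Subgroup (GL (Fin 2 ⊕ Fin 2) F)} (hPs : P ≤ spGL 2 F) :
    (scalars (Fin 2 ⊕ Fin 2) F).subgroupOf P = ⊥ := by
  rw [eq_bot_iff]
  intro x hx
  rw [Subgroup.mem_subgroupOf, mem_scalars_iff] at hx
  obtain ⟨c, hc⟩ := hx
  rw [Subgroup.mem_bot]
  have h1 := sp_form (hPs x.2) (Pi.single (.inl 0) 1) (Pi.single (.inr 0) 1)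
  rw [hc, Matrix.smul_mulVec, Matrix.smul_mulVec, Matrix.one_mulVec, Matrix.one_mulVec, sympForm_smul_left,
    sympForm_smul_right] at h1
  have h2 : sympForm 2 F (Pi.single (.inl 0) 1) (Pi.single (.inr 0) 1) = 1 := by
    simp [form4]
  rw [h2, mul_one, ← pow_two] at h1
  have h3 : (c : F) = 1 := sq_inj (by rw [h1, one_pow])
  apply Subtype.ext
  apply Units.ext
  rw [hc, h3, one_smul]
  rfl

section transfer

variable {F : Type*} [Field F] {P : Subgroup (GL (Fin 2 ⊕ Fin 2) F)} {G : Type*} [Group G]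

/-- the representation attached to an isomorphism. -/
def repr (e : P ≃* G) : G →* GL (Fin 2 ⊕ Fin 2) F := P.subtype.comp e.symm.toMonoidHom

theorem repr_inj (e : P ≃* G) : Function.Injective (repr e) := Subtype.val_injective.comp e.symm.injective

theorem repr_mem (e : P ≃* G) (g : G) : repr e g ∈ P := (e.symm g).2

theorem exists_repr (e : P ≃* G) {x : GL (Fin 2 ⊕ Fin 2) F} (hx : x ∈ P) : ∃ g, repr e g = x :=
  ⟨e ⟨x, hx⟩, by simp [repr]⟩

theorem repr_irr (hP : ActsAbsolutelyIrreducibly (matrixSet P)) (e : P ≃* G) (W : Submodule F (Fin 2 ⊕ Fin 2 → F))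
    (h : ∀ g, ∀ v ∈ W, (repr e g : Matrix (Fin 2 ⊕ Fin 2) (Fin 2 ⊕ Fin 2) F) *ᵥ v ∈ W) : W = ⊥ ∨ W = ⊤ := by
  refine hP.1 W ?_
  rintro _ ⟨x, hx, rfl⟩
  obtain ⟨g, rfl⟩ := exists_repr e hx
  rintro _ ⟨v, hv, rfl⟩
  exact h g v hv

theorem repr_schur (hP : ActsAbsolutelyIrreducibly (matrixSet P)) (e : P ≃* G) (M : Matrix (Fin 2 ⊕ Fin 2) (Fin 2 ⊕ Fin 2) F)
    (h : ∀ g, M * (repr e g : Matrix (Fin 2 ⊕ Fin 2) (Fin 2 ⊕ Fin 2) F) = (repr e g : Matrix (Fin 2 ⊕ Fin 2) (Fin 2 ⊕ Fin 2) F) * M) :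
    ∃ c : F, M = c • (1 : Matrix (Fin 2 ⊕ Fin 2) (Fin 2 ⊕ Fin 2) F) := by
  refine hP.2 M ?_
  rintro _ ⟨x, hx, rfl⟩
  obtain ⟨g, rfl⟩ := exists_repr e hx
  exact h g

end transfer

theorem core_simple {F : Type*} [Field F] [Finite F] [CharP F 2] {H P : Subgroup (GL (Fin 2 ⊕ Fin 2) F)} (hc : IsResidualCore H P)
    (hPs : P ≤ spGL 2 F) : Nonempty (P ⧸ (scalars (Fin 2 ⊕ Fin 2) F).subgroupOf P ≃* P) ∧ IsSimpleGroup P ∧ ¬ IsMulCommutative P := by
  have e : P ⧸ (scalars (Fin 2 ⊕ Fin 2) F).subgroupOf P ≃* P :=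
    (QuotientGroup.quotientMulEquivOfEq (scalars_inf_bot hPs)).trans QuotientGroup.quotientBot
  have hs := hc.simple
  refine ⟨⟨e⟩, ?_, ?_⟩
  · exact e.symm.isSimpleGroup
  · intro h
    apply hc.nonabelian
    refine ⟨⟨fun a b => e.injective ?_⟩⟩
    rw [map_mul, map_mul]
    exact h.is_comm.comm _ _

/-- `Sp_4(K)` as a subgroup of `GL`. -/
noncomputable def spEq (K : Type*) [Field K] : Matrix.symplecticGroup (Fin 2) K ≃* spGL 2 K :=
  MulEquiv.ofBijective ((spToGL 2 K).codRestrict (spGL 2 K) spToGL_mem) ⟨fun a b h => spToGL_injective 2 (congrArg Subtype.val h),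
    fun x => by
      obtain ⟨A, hA⟩ := exists_spToGL x.2
      exact ⟨A, Subtype.ext hA⟩⟩

theorem card_spGL (K : Type*) [Field K] [Fintype K] :
    Nat.card (spGL 2 K) = Fintype.card K ^ 4 * ((Fintype.card K ^ 2 - 1) * (Fintype.card K ^ 4 - 1)) := by
  rw [← Nat.card_congr (spEq K).toEquiv, Cfsg.Agent.S0245.result rfl 2]
  simp [Finset.prod_range_succ]

/-- the traces of a group with elements of odd order conjugate to their `2^k`-th powers. -/
theorem core_frob {F : Type*} [Field F] [Finite F] [CharP F 2] {H P : Subgroup (GL (Fin 2 ⊕ Fin 2) F)} (hc : IsResidualCore H P)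
    {G : Type*} [Group G] (e : P ≃* G) {k : ℕ} (h : ∀ x : G, Odd (orderOf x) → IsConj x (x ^ 2 ^ k)) (t : F) : t ^ 2 ^ k = t := by
  have hfin : Finite P := Subtype.finite
  have hfin' : Finite G := Finite.of_equiv P e.toEquiv
  refine frob_eq hc (fun g hg => ?_) t
  obtain ⟨x, rfl⟩ := exists_repr e hg
  exact trace_frob (repr e) k h x

/-- **Sp4 case**. -/
theorem no_sp4 {F : Type*} [Field F] [Fintype F] [CharP F 2] (H P : Subgroup (GL (Fin 2 ⊕ Fin 2) F))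
    (hH : IsMaximalIn (spGL 2 F) H) (hc : IsResidualCore H P) {K : Type*} [Field K] [Fintype K] [CharP K 2]
    (e : P ≃* spGL 2 K) : False := by
  classical
  have hPs : P ≤ spGL 2 F := hc.le.trans hH.1.le
  have hfin : Finite P := Subtype.finite
  obtain ⟨k, hk⟩ : ∃ k : ℕ, Fintype.card K = 2 ^ k := by
    obtain ⟨n, -, hn⟩ := FiniteField.card K 2
    exact ⟨n, hn⟩
  have h1 := core_frob hc e (k := k) (fun x hx => by
    have := Cfsg.Agent.H875.Sp4.sp4_conj x hx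
    rwa [Nat.card_eq_fintype_card, hk] at this)
  have h5 : 1 < 2 ^ k := by rw [← hk]; exact Fintype.one_lt_card
  have h2 : Fintype.card F ≤ Fintype.card K := by
    have h3 := card_dvd (F := F) (N := 2 ^ k) (by omega) h1
    have h4 := Nat.le_of_dvd (by omega) h3
    omega
  have h6 : Nat.card (spGL 2 F) ≤ Nat.card P := by
    rw [Nat.card_congr e.toEquiv, card_spGL, card_spGL]
    gcongr
  have h7 : P = spGL 2 F := Subgroup.eq_of_le_of_card_ge hPs h6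
  exact absurd (h7 ▸ hc.le) (not_le_of_gt hH.1)

/-- **A6 case**. -/
theorem no_a6 {F : Type*} [Field F] [Fintype F] [CharP F 2] (h4 : 4 ≤ Fintype.card F) (H P : Subgroup (GL (Fin 2 ⊕ Fin 2) F))
    (hc : IsResidualCore H P) (hPs : P ≤ spGL 2 F) (e : P ≃* alternatingGroup (Fin 6)) : False := by
  classical
  have h1 := frob_eq hc (k := 1) (fun g hg => by
    obtain ⟨x, rfl⟩ := exists_repr e hg
    rcases Cfsg.Agent.H937.A6.a6_trace (repr e) (repr_inj e) (fun g => hPs (repr_mem e g)) (repr_irr hc.absIrred e) x with h | h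
    · rw [h]; simp
    · rw [h]; simp)
  have h3 := card_dvd (F := F) (N := 2 ^ 1) (by norm_num) h1
  have h5 := Nat.le_of_dvd (by norm_num) h3
  omega

/-- **Suzuki case**. -/
theorem sz_case {F : Type*} [Field F] [Fintype F] [CharP F 2] (H P : Subgroup (GL (Fin 2 ⊕ Fin 2) F))
    (hc : IsResidualCore H P) (hPs : P ≤ spGL 2 F) {K : Type*} [Field K] [Fintype K] {m : ℕ} (hm : 1 ≤ m)
    (hK : Fintype.card K = 2 ^ (2 * m + 1)) (e : P ≃* Cfsg.Lie.Sz K (2 ^ (m + 1))) : Fintype.card F = 2 ^ (2 * m + 1) := by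
  classical
  have hfin : Finite P := Subtype.finite
  obtain ⟨n, hn0, hn⟩ := FiniteField.card F 2
  have h1 := core_frob hc e (k := 2 * m + 1) (fun x hx => by
    have := Cfsg.Agent.H937.SzConj.sz_conj hm (by rw [Nat.card_eq_fintype_card, hK]) x hx
    rwa [Nat.card_eq_fintype_card, hK] at this)
  have h3 := card_dvd (F := F) (N := 2 ^ (2 * m + 1)) (by
    calc 2 = 2 ^ 1 := rfl
      _ ≤ _ := Nat.pow_le_pow_right (by norm_num) (by omega)) h1
  rw [hn] at h3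
  have h4 : (n : ℕ) ∣ 2 * m + 1 := by
    have h5 := Nat.gcd_eq_left h3
    rw [Nat.pow_sub_one_gcd_pow_sub_one] at h5
    have h6 : 2 ^ Nat.gcd n (2 * m + 1) = 2 ^ (n : ℕ) := by
      have h7 : 1 ≤ 2 ^ Nat.gcd n (2 * m + 1) := Nat.one_le_two_pow
      have h8 : 1 ≤ 2 ^ (n : ℕ) := Nat.one_le_two_pow
      omega
    exact Nat.gcd_eq_left_iff_dvd.1 (Nat.pow_right_injective le_rfl h6)
  have h5 : 2 * m + 1 ≤ 2 * n := by
    have h6 : Nat.card P ∣ Nat.card (spGL 2 F) := Subgroup.card_dvd_of_le hPs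
    rw [Nat.card_congr e.toEquiv, Cfsg.Agent.H438.SzMax.card_sz hK, card_spGL, hn] at h6
    have h7 : (2 ^ (2 * m + 1)) ^ 2 ∣ (2 ^ (n : ℕ)) ^ 4 * (((2 ^ (n : ℕ)) ^ 2 - 1) * ((2 ^ (n : ℕ)) ^ 4 - 1)) :=
      (Dvd.intro _ (by rw [mul_assoc])).trans h6
    have hodd : ∀ j : ℕ, j ≠ 0 → Odd ((2 ^ (n : ℕ)) ^ j - 1) := by
      intro j hj
      apply Nat.Even.sub_odd (Nat.one_le_pow _ _ (Nat.two_pow_pos _)) _ odd_one
      rw [← pow_mul]
      exact (Nat.even_pow.2 ⟨even_two, Nat.mul_ne_zero n.ne_zero hj⟩)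
    have h8 : (2 ^ (2 * m + 1)) ^ 2 ∣ (2 ^ (n : ℕ)) ^ 4 := by
      refine Nat.Coprime.dvd_of_dvd_mul_right ?_ h7
      rw [← pow_mul]
      exact Nat.Coprime.pow_left _ (Nat.coprime_two_left.2 ((hodd 2 two_ne_zero).mul (hodd 4 (by norm_num))))
    rw [← pow_mul, ← pow_mul] at h8
    have h9 := (Nat.pow_dvd_pow_iff_le_right (x := 2) (by norm_num)).1 h8
    omega
  obtain ⟨j, hj⟩ := h4
  have hj1 : j = 1 := by
    rcases j with _ | _ | j
    · omega
    · rfl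
    · exfalso
      have h6 : (n : ℕ) * (j + 1 + 1) ≤ 2 * n := by rw [← hj]; exact h5
      have h7 : 0 < (n : ℕ) := n.pos
      have h8 : j + 1 + 1 ≤ 2 := Nat.le_of_mul_le_mul_left (by rw [mul_comm (n : ℕ) 2]; exact h6) h7
      have h9 : j = 0 := by omega
      subst h9
      omega
  rw [hn, hj, hj1, mul_one]

/-- **S5791**. -/
theorem resid_main {F : Type*} [Field F] [Fintype F] (heven : ¬ Odd (Fintype.card F)) (h4 : 4 ≤ Fintype.card F)
    (H : Subgroup (GL (Fin 2 ⊕ Fin 2) F)) (hH : IsMaximalIn (spGL 2 F) H) (hS : InSymplecticResidualClass H) :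
    ∃ (P : Subgroup (GL (Fin 2 ⊕ Fin 2) F)) (m : ℕ), IsResidualCore H P ∧ 1 ≤ m ∧ Fintype.card F = 2 ^ (2 * m + 1) ∧
    Nonempty ((P ⧸ (scalars (Fin 2 ⊕ Fin 2) F).subgroupOf P) ≃* Cfsg.Lie.Sz F (2 ^ (m + 1))) := by
  classical
  have hch : CharP F 2 := by
    obtain ⟨p, hp⟩ := CharP.exists F
    have hpp : p.Prime := CharP.char_is_prime F p
    obtain ⟨n, -, hn⟩ := FiniteField.card F p
    have h2 : 2 ∣ p ^ (n : ℕ) := by
      rw [← hn]
      exact (Nat.not_odd_iff_even.1 heven).two_dvd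
    have h3 := (Nat.prime_dvd_prime_iff_eq Nat.prime_two hpp).1 (Nat.prime_two.dvd_of_dvd_pow h2)
    rw [h3]; exact hp
  obtain ⟨P, hc, hnq, -⟩ := hS
  have hPs : P ≤ spGL 2 F := hc.le.trans hH.1.le
  obtain ⟨⟨e0⟩, hsim, hna⟩ := core_simple hc hPs
  have hfin : Finite P := Subtype.finite
  rcases simple_list P hPs hna with ⟨K, _, _, hK2, hK4, ⟨e⟩⟩ | ⟨⟨e⟩⟩ | ⟨K, _, _, m, hm, hK, ⟨e⟩⟩ | ⟨K, _, _, hK2, hK4, ⟨e⟩⟩
  · exfalso
    obtain ⟨Q, hQ, hfix⟩ := sl2_quad (f := repr e) (fun g => hPs (repr_mem e g)) (repr_irr hc.absIrred e)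
      (repr_schur hc.absIrred e)
    apply hnq
    refine ⟨Q, hQ, ?_⟩
    rintro _ ⟨x, hx, rfl⟩ v
    obtain ⟨g, rfl⟩ := exists_repr e hx
    exact hfix g v
  · exact (no_a6 h4 H P hc hPs e).elim
  · have h1 := sz_case H P hc hPs hm hK e
    obtain ⟨e1⟩ := Cfsg.Agent.H438.SzMax.szCongr_of_card (hK.trans h1.symm) (2 ^ (m + 1))
    exact ⟨P, m, hc, hm, h1, ⟨e0.trans (e.trans e1)⟩⟩
  · exact (no_sp4 H P hH hc (e.trans (spEq K))).elim

end Cfsg.Agent.H910
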