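import Cfsg.Agent.H910.QuadMax

/-!
Vectors `v` all of whose symplectic transvections lie in a subgroup `M` of `Sp_{2m}(F)` (helper910).

* `UU M v` : `tGL v c ∈ M` for every `c`; stable under `M`, scalars, sums of non-orthogonal vectors;
* `sieg e w c` : the Siegel transformation `x ↦ x + f(x,e) w + f(x,w) e + c f(x,e) e`.
* `ti_maximal` : the stabiliser of a non-zero totally isotropic subspace is maximal in `Sp_{2m}(F)`, any `m`, any field.
-/

set_option autoImplicit false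
open Cfsg
open scoped Matrix MatrixGroups

namespace Cfsg.Agent.H910

open Cfsg.Agent.ClassicalGeometry.SympBasic Cfsg.Agent.H876 Cfsg.Agent.S5652

variable {F : Type*} [Field F] {m : ℕ}

theorem tGL_zero_right (v : Fin m ⊕ Fin m → F) : tGL v 0 = 1 := by
  apply gl_ext
  intro u
  rw [tGL_mulVec]
  simp

theorem tGL_zero_left (c : F) : tGL (0 : Fin m ⊕ Fin m → F) c = 1 := by
  apply gl_ext
  intro u
  rw [tGL_mulVec]
  simp

theorem tGL_smul (v : Fin m ⊕ Fin m → F) (a c : F) : tGL (a • v) c = tGL v (a ^ 2 * c) := by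
  apply gl_ext
  intro u
  rw [tGL_mulVec, tGL_mulVec, sympForm_smul_right, smul_smul]
  congr 2
  ring

theorem tGL_mul (v : Fin m ⊕ Fin m → F) (c d : F) : tGL v c * tGL v d = tGL v (c + d) := by
  apply gl_ext
  intro u
  rw [mul_mulVec, tGL_mulVec, tGL_mulVec, tGL_mulVec, sympForm_add_left, sympForm_smul_left, sympForm_self]
  rw [add_assoc, ← add_smul]
  congr 2
  ring

theorem tGL_inv (v : Fin m ⊕ Fin m → F) (c : F) : (tGL v c)⁻¹ = tGL v (-c) := by
  rw [inv_eq_iff_mul_eq_one, tGL_mul, add_neg_cancel, tGL_zero_right]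

/-- conjugation of a transvection by an isometry. -/
theorem conj_tGL {g : GL (Fin m ⊕ Fin m) F} (hg : g ∈ spGL m F) (v : Fin m ⊕ Fin m → F) (c : F) :
    g * tGL v c * g⁻¹ = tGL ((g : Matrix _ _ F) *ᵥ v) c := by
  apply gl_ext
  intro u
  rw [mul_mulVec, mul_mulVec, tGL_mulVec, tGL_mulVec, Matrix.mulVec_add, Matrix.mulVec_smul,
    mulVec_inv_cancel]
  have h := sp_form hg (((g⁻¹ : GL _ F) : Matrix _ _ F) *ᵥ u) v
  rw [mulVec_inv_cancel] at h
  rw [h]

/-- all transvections with centre `v` lie in `M`. -/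
def UU (M : Subgroup (GL (Fin m ⊕ Fin m) F)) (v : Fin m ⊕ Fin m → F) : Prop := ∀ c, tGL v c ∈ M

theorem UU.smul {M : Subgroup (GL (Fin m ⊕ Fin m) F)} {v : Fin m ⊕ Fin m → F} (h : UU M v) (a : F) :
    UU M (a • v) := by
  intro c
  rw [tGL_smul]
  exact h _

theorem UU.of_smul {M : Subgroup (GL (Fin m ⊕ Fin m) F)} {v : Fin m ⊕ Fin m → F} {a : F} (ha : a ≠ 0)
    (h : UU M (a • v)) : UU M v := by
  have := h.smul a⁻¹
  rwa [smul_smul, inv_mul_cancel₀ ha, one_smul] at this

theorem UU.map {M : Subgroup (GL (Fin m ⊕ Fin m) F)} {v : Fin m ⊕ Fin m → F} (h : UU M v)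
    {g : GL (Fin m ⊕ Fin m) F} (hg : g ∈ M) (hs : g ∈ spGL m F) : UU M ((g : Matrix _ _ F) *ᵥ v) := by
  intro c
  rw [← conj_tGL hs]
  exact M.mul_mem (M.mul_mem hg (h c)) (M.inv_mem hg)

/-- sums of non-orthogonal vectors. -/
theorem UU.add {M : Subgroup (GL (Fin m ⊕ Fin m) F)} {u v : Fin m ⊕ Fin m → F} (hu : UU M u) (hv : UU M v)
    (huv : sympForm m F u v ≠ 0) (a b : F) : UU M (a • u + b • v) := by
  by_cases ha : a = 0
  · rw [ha, zero_smul, zero_add]; exact hv.smul b
  have h1 := (hu.smul a).map (hv (b / (a * sympForm m F u v))) (tGL_mem _ _)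
  rw [tGL_mulVec, sympForm_smul_left, div_mul_cancel₀ _ (mul_ne_zero ha huv)] at h1
  exact h1

/-- if every vector has all its transvections in `M`, then `M` contains the symplectic group. -/
theorem spGL_le_of_UU {M : Subgroup (GL (Fin m ⊕ Fin m) F)} (h : ∀ v, UU M v) : spGL m F ≤ M :=
  spGL_le M fun v c => h v c

/-- Siegel transformation `x ↦ x + f(x,e) w + f(x,w) e + c f(x,e) e`. -/
noncomputable def sieg (e w : Fin m ⊕ Fin m → F) (c : F) : GL (Fin m ⊕ Fin m) F :=
  tGL (e + w) 1 * tGL w (-1) * tGL e (c - 1)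

theorem sieg_mem (e w : Fin m ⊕ Fin m → F) (c : F) : sieg e w c ∈ spGL m F :=
  Subgroup.mul_mem _ (Subgroup.mul_mem _ (tGL_mem _ _) (tGL_mem _ _)) (tGL_mem _ _)

theorem sieg_mulVec {e w : Fin m ⊕ Fin m → F} (h : sympForm m F e w = 0) (c : F) (x : Fin m ⊕ Fin m → F) :
    (sieg e w c : Matrix _ _ F) *ᵥ x =
      x + sympForm m F x e • w + sympForm m F x w • e + (c * sympForm m F x e) • e := by
  have h' : sympForm m F w e = 0 := by rw [sympForm_swap, h, neg_zero]
  rw [sieg, mul_mulVec, mul_mulVec, tGL_mulVec, tGL_mulVec, tGL_mulVec]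
  simp only [sympForm_add_left, sympForm_add_right, sympForm_smul_left, sympForm_self, h, h']
  ext i
  simp only [Pi.add_apply, Pi.smul_apply, smul_eq_mul]
  ring

section stab

variable {W : Submodule F (Fin m ⊕ Fin m → F)}

theorem mem_subspaceStabilizer_iff {ι : Type} [Fintype ι] [DecidableEq ι] {W : Submodule F (ι → F)} {g : GL ι F} :
    g ∈ Cfsg.Geo.subspaceStabilizer W ↔ ∀ v, v ∈ W ↔ (g : Matrix ι ι F) *ᵥ v ∈ W := Iff.rfl

/-- mapping `W` into itself is enough. -/
theorem mem_subspaceStabilizer_of_le {ι : Type} [Fintype ι] [DecidableEq ι] {W : Submodule F (ι → F)} {g : GL ι F}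
    (h : ∀ v ∈ W, (g : Matrix ι ι F) *ᵥ v ∈ W) : g ∈ Cfsg.Geo.subspaceStabilizer W := by
  rw [mem_subspaceStabilizer_iff]
  have hmap : W.map (Matrix.toLin' (g : Matrix ι ι F)) = W := by
    have hle : W.map (Matrix.toLin' (g : Matrix ι ι F)) ≤ W := by
      rintro _ ⟨v, hv, rfl⟩
      rw [Matrix.toLin'_apply]
      exact h v hv
    have hinj : Function.Injective (Matrix.toLin' (g : Matrix ι ι F)) := by
      intro v v' hvv
      rw [Matrix.toLin'_apply, Matrix.toLin'_apply] at hvv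
      have := congrArg (fun x => ((g⁻¹ : GL ι F) : Matrix ι ι F) *ᵥ x) hvv
      simpa only [inv_mulVec_cancel] using this
    exact Submodule.eq_of_le_of_finrank_eq hle (Submodule.equivMapOfInjective _ hinj W).finrank_eq.symm
  intro v
  refine ⟨h v, fun hv => ?_⟩
  rw [← hmap] at hv
  obtain ⟨v', hv', hvv⟩ := hv
  rw [Matrix.toLin'_apply] at hvv
  have := congrArg (fun x => ((g⁻¹ : GL ι F) : Matrix ι ι F) *ᵥ x) hvv
  simp only [inv_mulVec_cancel] at this
  rwa [← this]

/-- a vector outside `W` is not orthogonal to `W^⊥`. -/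
theorem exists_perp_of_notMem (W : Submodule F (Fin m ⊕ Fin m → F)) {x : Fin m ⊕ Fin m → F} (hx : x ∉ W) :
    ∃ v, (∀ w ∈ W, sympForm m F w v = 0) ∧ sympForm m F x v = 1 := by
  obtain ⟨ℓ, hℓx, hℓW⟩ := Submodule.exists_le_ker_of_notMem hx
  let e := LinearMap.BilinForm.toDual (sympBilin m F) sympBilin_nondegenerate
  have he : ∀ u, sympForm m F (e.symm ℓ) u = ℓ u := fun u =>
    LinearMap.BilinForm.apply_toDual_symm_apply (hB := sympBilin_nondegenerate) (f := ℓ) (v := u)
  refine ⟨(-(ℓ x)⁻¹) • (e.symm ℓ), fun w hw => ?_, ?_⟩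
  · rw [sympForm_smul_right, sympForm_swap, he, hℓW hw]; simp
  · rw [sympForm_smul_right, sympForm_swap, he]
    rw [neg_mul_neg, inv_mul_cancel₀ hℓx]

/-- The stabiliser of a non-zero totally isotropic subspace is a maximal subgroup of `Sp_{2m}(F)`. -/
theorem ti_maximal (W : Submodule F (Fin m ⊕ Fin m → F)) (hW0 : W ≠ ⊥)
    (hW : Cfsg.Geo.IsTotallySingularFor (Cfsg.sympForm m F) W) :
    Cfsg.Geo.IsMaximalIn (Cfsg.spGL m F) (Cfsg.Geo.subspaceStabilizer W ⊓ Cfsg.spGL m F) := by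
  classical
  -- a vector outside the perpendicular space
  obtain ⟨w0, hw0W, hw0⟩ := W.ne_bot_iff.1 hW0
  -- transvections with centre in the perpendicular space
  have hperp : ∀ v, (∀ w ∈ W, sympForm m F w v = 0) → ∀ c,
      tGL v c ∈ Cfsg.Geo.subspaceStabilizer W ⊓ Cfsg.spGL m F := by
    intro v hv c
    refine ⟨mem_subspaceStabilizer_of_le fun w hw => ?_, tGL_mem _ _⟩
    rw [tGL_mulVec, hv w hw, mul_zero, zero_smul, add_zero]
    exact hw
  refine ⟨?_, ?_⟩
  · rw [lt_iff_le_and_ne]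
    refine ⟨inf_le_right, fun heq => ?_⟩
    obtain ⟨v, hv⟩ := exists_partner hw0
    have h1 : tGL v 1 ∈ Cfsg.Geo.subspaceStabilizer W ⊓ Cfsg.spGL m F := by
      rw [heq]; exact tGL_mem _ 1
    have h2 := (mem_subspaceStabilizer_iff.1 h1.1 w0).1 hw0W
    rw [tGL_mulVec, hv, mul_one, one_smul] at h2
    have h3 : v ∈ W := by
      have := W.sub_mem h2 hw0W
      rwa [add_sub_cancel_left] at this
    rw [hW w0 hw0W v h3] at hv
    exact zero_ne_one hv
  · intro M hHM hMK
    by_cases hM : M = Cfsg.Geo.subspaceStabilizer W ⊓ Cfsg.spGL m F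
    · exact Or.inl hM
    right
    obtain ⟨g, hgM, hgn⟩ : ∃ h ∈ M, h ∉ Cfsg.Geo.subspaceStabilizer W ⊓ Cfsg.spGL m F := by
      by_contra hcon
      push Not at hcon
      exact hM (le_antisymm hcon hHM)
    have hgS : g ∈ spGL m F := hMK hgM
    obtain ⟨w1, hw1, hgw1⟩ : ∃ w ∈ W, (g : Matrix _ _ F) *ᵥ w ∉ W := by
      by_contra hcon
      push Not at hcon
      exact hgn ⟨mem_subspaceStabilizer_of_le hcon, hgS⟩
    obtain ⟨v, hv, hgv⟩ := exists_perp_of_notMem W hgw1
    have hUperp : ∀ v, (∀ w ∈ W, sympForm m F w v = 0) → UU M v := fun v hv c => hHM (hperp v hv c)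
    -- a vector outside the perpendicular space
    obtain ⟨u, hu, w2, hw2, huw⟩ : ∃ u, UU M u ∧ ∃ w ∈ W, sympForm m F u w ≠ 0 := by
      have hgi : g⁻¹ ∈ spGL m F := Subgroup.inv_mem _ hgS
      have hgiM : g⁻¹ ∈ M := M.inv_mem hgM
      have hmp := UU.map (hUperp v hv) hgiM hgi
      refine ⟨_, hmp, w1, hw1, ?_⟩
      have h1 := sp_form hgS (((g⁻¹ : GL _ F) : Matrix _ _ F) *ᵥ v) w1
      rw [mulVec_inv_cancel] at h1
      rw [← h1, sympForm_swap, hgv]
      simp
    refine le_antisymm hMK (spGL_le_of_UU fun u' => ?_)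
    by_cases hu' : ∀ w ∈ W, sympForm m F w u' = 0
    · exact hUperp u' hu'
    push Not at hu'
    obtain ⟨w3, hw3, huw3⟩ := hu'
    -- a common vector
    obtain ⟨w, hw, h1, h2⟩ : ∃ w ∈ W, sympForm m F u w ≠ 0 ∧ sympForm m F u' w ≠ 0 := by
      have huw3' : sympForm m F u' w3 ≠ 0 := by rw [sympForm_swap]; exact neg_ne_zero.2 huw3
      by_cases h3 : sympForm m F u w3 = 0
      · by_cases h4 : sympForm m F u' w2 = 0
        · refine ⟨w2 + w3, W.add_mem hw2 hw3, ?_, ?_⟩
          · rwa [sympForm_add_right, h3, add_zero]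
          · rwa [sympForm_add_right, h4, zero_add]
        · exact ⟨w2, hw2, huw, h4⟩
      · exact ⟨w3, hw3, h3, huw3'⟩
    set a := (sympForm m F u w)⁻¹ • u with ha
    set b := (sympForm m F u' w)⁻¹ • u' with hb
    have haw : sympForm m F a w = 1 := by rw [ha, sympForm_smul_left, inv_mul_cancel₀ h1]
    have hbw : sympForm m F b w = 1 := by rw [hb, sympForm_smul_left, inv_mul_cancel₀ h2]
    have hwd : sympForm m F w (b - a) = 0 := by
      rw [sympForm_sub_right, sympForm_swap w b, sympForm_swap w a, haw, hbw]; ring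
    have hsH : sieg w (b - a) (- sympForm m F a b) ∈ Cfsg.Geo.subspaceStabilizer W ⊓ Cfsg.spGL m F := by
      refine ⟨mem_subspaceStabilizer_of_le fun x hx => ?_, sieg_mem _ _ _⟩
      rw [sieg_mulVec hwd, hW x hx w hw, zero_smul, mul_zero, zero_smul, add_zero, add_zero]
      exact W.add_mem hx (W.smul_mem _ hw)
    have hab : (sieg w (b - a) (- sympForm m F a b) : Matrix _ _ F) *ᵥ a = b := by
      rw [sieg_mulVec hwd, haw, sympForm_sub_right, sympForm_self]
      ext i
      simp only [Pi.add_apply, Pi.smul_apply, smul_eq_mul, Pi.sub_apply]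
      ring
    have h5 : UU M b := by
      rw [← hab]
      exact (hu.smul _).map (hHM hsH) (sieg_mem _ _ _)
    exact h5.of_smul (inv_ne_zero h2)

end stab

end Cfsg.Agent.H910
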