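import Cfsg.Agent.H910.Transv
import Cfsg.Agent.ClassicalGeometry.Sp4Graph

/-!
Extension-field normalisers in `Sp_4(q)`, `q` even, through the graph automorphism (helper910).

`field_maximal` : `F` finite of characteristic two, `K` a degree two subfield of the matrix algebra, self-adjoint with
`f(k v, v) = 0`; then `subalgebraNormalizer K ⊓ spGL 2 F` is maximal in `spGL 2 F`: the graph automorphism maps it to the
orthogonal group of a quadratic form.
-/

set_option autoImplicit false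
open Cfsg
open scoped Matrix MatrixGroups

namespace Cfsg.Agent.H910

open Cfsg.Agent.ClassicalGeometry.SympBasic Cfsg.Agent.H876 Cfsg.Agent.S5652
open Cfsg.Agent.ClassicalGeometry.Sp4Graph

/-! ### Transport of maximality -/

theorem isMaximalIn_map {G G' : Type*} [Group G] [Group G'] (j : G →* G') (hj : Function.Injective j)
    {K H : Subgroup G} (h : Cfsg.Geo.IsMaximalIn K H) : Cfsg.Geo.IsMaximalIn (K.map j) (H.map j) := by
  refine ⟨(Subgroup.map_lt_map_iff_of_injective hj).2 h.1, fun M hHM hMK => ?_⟩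
  have hM : (M.comap j).map j = M := by
    rw [Subgroup.map_comap_eq_self]
    exact hMK.trans (by rintro _ ⟨x, -, rfl⟩; exact ⟨x, rfl⟩)
  have h1 : H ≤ M.comap j := Subgroup.map_le_iff_le_comap.1 hHM
  have h2 : M.comap j ≤ K := by
    rw [← hM] at hMK
    exact (Subgroup.map_le_map_iff_of_injective hj).1 hMK
  rcases h.2 _ h1 h2 with h3 | h3
  · left; rw [← hM, h3]
  · right; rw [← hM, h3]

theorem isMaximalIn_of_map {G G' : Type*} [Group G] [Group G'] (j : G →* G') (hj : Function.Injective j)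
    {K H : Subgroup G} (h : Cfsg.Geo.IsMaximalIn (K.map j) (H.map j)) : Cfsg.Geo.IsMaximalIn K H := by
  refine ⟨(Subgroup.map_lt_map_iff_of_injective hj).1 h.1, fun M hHM hMK => ?_⟩
  rcases h.2 _ (Subgroup.map_mono hHM) (Subgroup.map_mono hMK) with h3 | h3
  · left; exact Subgroup.map_injective hj h3
  · right; exact Subgroup.map_injective hj h3

variable {F : Type*} [Field F]

theorem spToGL_injective (m : ℕ) : Function.Injective (spToGL m F) := by
  intro A B h
  apply Subtype.ext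
  exact congrArg (fun g : GL (Fin m ⊕ Fin m) F => (g : Matrix (Fin m ⊕ Fin m) (Fin m ⊕ Fin m) F)) h

theorem coe_spToGL {m : ℕ} (A : Matrix.symplecticGroup (Fin m) F) :
    ((spToGL m F A : GL (Fin m ⊕ Fin m) F) : Matrix (Fin m ⊕ Fin m) (Fin m ⊕ Fin m) F) = A.1 := rfl

theorem spToGL_mem {m : ℕ} (A : Matrix.symplecticGroup (Fin m) F) : spToGL m F A ∈ spGL m F :=
  fun u v => mem_symplecticGroup_iff.1 A.2 u v

theorem range_spToGL (m : ℕ) : (⊤ : Subgroup (Matrix.symplecticGroup (Fin m) F)).map (spToGL m F) = spGL m F := by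
  ext g
  constructor
  · rintro ⟨A, -, rfl⟩
    exact spToGL_mem A
  · intro hg
    have hgs : (g : Matrix _ _ F) ∈ Matrix.symplecticGroup (Fin m) F := mem_symplecticGroup_iff.2 hg
    exact ⟨⟨_, hgs⟩, trivial, Units.ext rfl⟩

theorem exists_spToGL {m : ℕ} {g : GL (Fin m ⊕ Fin m) F} (hg : g ∈ spGL m F) : ∃ A, spToGL m F A = g := by
  rw [← range_spToGL] at hg
  obtain ⟨A, -, hA⟩ := hg
  exact ⟨A, hA⟩

/-- A subgroup of `Sp_4`, described elementwise, is maximal if its image under the graph automorphism is. -/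
theorem maximal_of_graph [Finite F] [CharP F 2] (H H' : Subgroup (GL (Fin 2 ⊕ Fin 2) F)) (hH : H ≤ spGL 2 F)
    (hH' : H' ≤ spGL 2 F)
    (h : ∀ A : Matrix.symplecticGroup (Fin 2) F, spToGL 2 F A ∈ H ↔ spToGL 2 F (graphHom F A) ∈ H')
    (hmax : Cfsg.Geo.IsMaximalIn (spGL 2 F) H') : Cfsg.Geo.IsMaximalIn (spGL 2 F) H := by
  set H1 := H.comap (spToGL 2 F) with hH1
  set H1' := H'.comap (spToGL 2 F) with hH1'
  have e1 : H1.map (spToGL 2 F) = H := by
    rw [hH1, Subgroup.map_comap_eq_self]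
    intro g hg
    exact exists_spToGL (hH hg)
  have e1' : H1'.map (spToGL 2 F) = H' := by
    rw [hH1', Subgroup.map_comap_eq_self]
    intro g hg
    exact exists_spToGL (hH' hg)
  have hsurj : Function.Surjective (graphHom F) := (graphEquiv F).surjective
  have e2 : H1.map (graphHom F) = H1' := by
    ext B
    constructor
    · rintro ⟨A, hA, rfl⟩
      exact (h A).1 hA
    · intro hB
      obtain ⟨A, rfl⟩ := hsurj B
      exact ⟨A, (h A).2 hB, rfl⟩
  have hm1 : Cfsg.Geo.IsMaximalIn (⊤ : Subgroup (Matrix.symplecticGroup (Fin 2) F)) H1' := by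
    apply isMaximalIn_of_map (spToGL 2 F) (spToGL_injective 2)
    rw [range_spToGL, e1']
    exact hmax
  have hm2 : Cfsg.Geo.IsMaximalIn (⊤ : Subgroup (Matrix.symplecticGroup (Fin 2) F)) H1 := by
    apply isMaximalIn_of_map (graphHom F) (graphHom_injective F)
    rw [e2, Subgroup.map_top_of_surjective _ hsurj]
    exact hm1
  have := isMaximalIn_map (spToGL 2 F) (spToGL_injective 2) hm2
  rwa [range_spToGL, e1] at this

/-- every vector is the wedge of two orthogonal vectors. -/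
theorem exists_wedge [Finite F] [CharP F 2] (z : Fin 2 ⊕ Fin 2 → F) :
    ∃ x y, sympForm 2 F x y = 0 ∧ wedge x y = z := by
  by_cases hz : z = 0
  · refine ⟨0, 0, by simp, ?_⟩
    rw [hz]
    funext i
    simp [wedge_apply]
  set x0 : Fin 2 ⊕ Fin 2 → F := Pi.single (Sum.inl 0) 1 with hx0
  set y0 : Fin 2 ⊕ Fin 2 → F := Pi.single (Sum.inl 1) 1 with hy0
  have hw0 : wedge x0 y0 ≠ 0 := by
    intro h
    have := congrFun h (Sum.inl 0)
    simp [wedge_apply, pa, pb, hx0, hy0] at this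
  have hxy : sympForm 2 F x0 y0 = 0 := by
    rw [hx0, sympForm_single_inl_left, hy0]
    simp
  obtain ⟨A, -, hA⟩ := exists_transvGroup_mulVec_eq hw0 hz
  obtain ⟨B, hB⟩ := (graphEquiv F).surjective A
  refine ⟨B.1 *ᵥ x0, B.1 *ᵥ y0, ?_, ?_⟩
  · rw [sympForm_mulVec B.2, hxy]
  · rw [← mn_mulVec_wedge B.2 hxy, ← hA, ← hB]
    rfl

/-! ### The entries of a self-adjoint matrix -/

/-- a `4 × 4` matrix, self-adjoint and alternating for the symplectic form. -/
structure SA (k : Matrix (Fin 2 ⊕ Fin 2) (Fin 2 ⊕ Fin 2) F) : Prop where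
  sa : ∀ u v, sympForm 2 F (k *ᵥ u) v = sympForm 2 F u (k *ᵥ v)
  alt : ∀ v, sympForm 2 F (k *ᵥ v) v = 0

/-- the linear functional attached to `k` (not normalised). -/
def lk (k : Matrix (Fin 2 ⊕ Fin 2) (Fin 2 ⊕ Fin 2) F) (z : Fin 2 ⊕ Fin 2 → F) : F :=
  k (.inr 1) (.inl 0) * z (.inl 0) + k (.inl 1) (.inl 0) * z (.inl 1) + k (.inl 0) (.inr 1) * z (.inr 0)
    + k (.inl 0) (.inl 1) * z (.inr 1)

/-- the trace of `k` in the quadratic field it generates. -/
def tk (k : Matrix (Fin 2 ⊕ Fin 2) (Fin 2 ⊕ Fin 2) F) : F := k (.inl 0) (.inl 0) + k (.inl 1) (.inl 1)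

/-- the norm of `k`. -/
def nk (k : Matrix (Fin 2 ⊕ Fin 2) (Fin 2 ⊕ Fin 2) F) : F :=
  k (.inl 0) (.inl 0) * k (.inl 1) (.inl 1) + k (.inr 1) (.inl 0) * k (.inl 0) (.inr 1)
    + k (.inl 1) (.inl 0) * k (.inl 0) (.inl 1)

/-- the quadratic form dual to `k`. -/
def qk (k : Matrix (Fin 2 ⊕ Fin 2) (Fin 2 ⊕ Fin 2) F) (z : Fin 2 ⊕ Fin 2 → F) : F :=
  z (.inl 0) * z (.inr 0) + z (.inl 1) * z (.inr 1) + (lk k z / tk k) ^ 2

section entries

variable [CharP F 2] {k : Matrix (Fin 2 ⊕ Fin 2) (Fin 2 ⊕ Fin 2) F}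

theorem SA.entries (h : SA k) :
    k (.inr 0) (.inl 0) = 0 ∧ k (.inl 0) (.inr 0) = 0 ∧ k (.inr 1) (.inl 1) = 0 ∧ k (.inl 1) (.inr 1) = 0 ∧
    k (.inr 0) (.inl 1) = k (.inr 1) (.inl 0) ∧ k (.inr 0) (.inr 0) = k (.inl 0) (.inl 0) ∧
    k (.inr 0) (.inr 1) = k (.inl 1) (.inl 0) ∧ k (.inr 1) (.inr 0) = k (.inl 0) (.inl 1) ∧
    k (.inr 1) (.inr 1) = k (.inl 1) (.inl 1) ∧ k (.inl 1) (.inr 0) = k (.inl 0) (.inr 1) := by
  have h1 := h.alt (Pi.single (.inl 0) 1)
  have h2 := h.alt (Pi.single (.inr 0) 1)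
  have h3 := h.alt (Pi.single (.inl 1) 1)
  have h4 := h.alt (Pi.single (.inr 1) 1)
  have h5 := h.sa (Pi.single (.inl 0) 1) (Pi.single (.inl 1) 1)
  have h6 := h.sa (Pi.single (.inl 0) 1) (Pi.single (.inr 0) 1)
  have h7 := h.sa (Pi.single (.inl 0) 1) (Pi.single (.inr 1) 1)
  have h8 := h.sa (Pi.single (.inl 1) 1) (Pi.single (.inr 0) 1)
  have h9 := h.sa (Pi.single (.inl 1) 1) (Pi.single (.inr 1) 1)
  have h10 := h.sa (Pi.single (.inr 0) 1) (Pi.single (.inr 1) 1)
  simp [sympForm_eq] at h1 h2 h3 h4 h5 h6 h7 h8 h9 h10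
  exact ⟨h1, h2, h3, h4, h5.symm, h6.symm, h7.symm, h8.symm, h9.symm, h10⟩

/-- `f(k x, y)` on orthogonal pairs. -/
theorem SA.sq (h : SA k) {x y : Fin 2 ⊕ Fin 2 → F} (hxy : sympForm 2 F x y = 0) :
    sympForm 2 F (k *ᵥ x) y ^ 2 = lk k (wedge x y) ^ 2 + tk k ^ 2 *
      (wedge x y (.inl 0) * wedge x y (.inr 0) + wedge x y (.inl 1) * wedge x y (.inr 1)) := by
  obtain ⟨h1, h2, h3, h4, h5, h6, h7, h8, h9, h10⟩ := h.entries
  rw [sympForm_eq] at hxy
  have hπ : x (.inl 0) * y (.inr 0) + x (.inr 0) * y (.inl 0) = x (.inl 1) * y (.inr 1) + x (.inr 1) * y (.inl 1) := by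
    have : x (.inl 0) * y (.inr 0) + x (.inr 0) * y (.inl 0) + (x (.inl 1) * y (.inr 1) + x (.inr 1) * y (.inl 1)) = 0 := by
      rw [← hxy]; ring
    exact CharTwo.add_eq_zero.1 this
  have e1 : sympForm 2 F (k *ᵥ x) y = lk k (wedge x y) + tk k * (x (.inl 0) * y (.inr 0) + x (.inr 0) * y (.inl 0)) := by
    have h2' : (2 : F) = 0 := CharTwo.two_eq_zero
    rw [sympForm_eq, lk, tk]
    simp only [mulVec_eq, wedge_apply, pa, pb, h1, h2, h3, h4, h5, h6, h7, h8, h9, h10]
    simp only [reduceIte, one_ne_zero, Fin.isValue]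
    linear_combination (-k (.inl 1) (.inl 1)) * hπ
  have e2 : (x (.inl 0) * y (.inr 0) + x (.inr 0) * y (.inl 0)) ^ 2 =
      wedge x y (.inl 0) * wedge x y (.inr 0) + wedge x y (.inl 1) * wedge x y (.inr 1) := by
    have h2' : (2 : F) = 0 := CharTwo.two_eq_zero
    simp only [wedge_apply, pa, pb]
    simp only [reduceIte, one_ne_zero, Fin.isValue]
    linear_combination (x (.inl 0) * y (.inr 0) + x (.inr 0) * y (.inl 0)) * hπ
      - (x (.inl 0) * x (.inr 0) * y (.inr 1) * y (.inl 1) + y (.inr 0) * y (.inl 0) * x (.inl 1) * x (.inr 1)) * h2'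
  rw [e1, CharTwo.add_sq, mul_pow, e2]

theorem SA.mul_self (h : SA k) : k * k = tk k • k + nk k • (1 : Matrix _ _ F) := by
  obtain ⟨h1, h2, h3, h4, h5, h6, h7, h8, h9, h10⟩ := h.entries
  have h2' : (2 : F) = 0 := CharTwo.two_eq_zero
  ext i j
  rw [mul_eq]
  simp only [Matrix.add_apply, Matrix.smul_apply, smul_eq_mul, tk, nk]
  rcases i with i | i <;> rcases j with j | j <;> fin_cases i <;> fin_cases j <;>
    simp [h1, h2, h3, h4, h5, h6, h7, h8, h9, h10] <;> ring_nf <;> simp [h2']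

end entries

/-! ### The quadratic form -/

section quad

variable [CharP F 2] {k : Matrix (Fin 2 ⊕ Fin 2) (Fin 2 ⊕ Fin 2) F}

theorem polar_qk (u v : Fin 2 ⊕ Fin 2 → F) : QuadraticMap.polar (qk k) u v = sympForm 2 F u v := by
  have h2' : (2 : F) = 0 := CharTwo.two_eq_zero
  rw [sympForm_eq, QuadraticMap.polar, qk, qk, qk]
  have hl : lk k (u + v) / tk k = lk k u / tk k + lk k v / tk k := by
    rw [← add_div]
    congr 1
    simp only [lk, Pi.add_apply]
    ring
  rw [hl, CharTwo.add_sq]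
  simp only [Pi.add_apply]
  ring

theorem qk_nondeg : Cfsg.Geo.IsNondegenerateQuadraticForm (qk k) := by
  have hp : QuadraticMap.polar (qk k) = sympForm 2 F := by
    funext u v
    exact polar_qk u v
  refine ⟨fun c v => ?_, ?_, ?_⟩
  · have hl : lk k (c • v) / tk k = c * (lk k v / tk k) := by
      rw [← mul_div_assoc]
      congr 1
      simp only [lk, Pi.smul_apply, smul_eq_mul]
      ring
    rw [qk, qk, hl]
    simp only [Pi.smul_apply, smul_eq_mul]
    ring
  · rw [hp]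
    exact ⟨sympForm_add_left, fun c x v => sympForm_smul_left c x v, fun v x y => sympForm_add_right v x y,
      fun c v x => sympForm_smul_right c v x⟩
  · rw [hp]
    intro v hv
    refine ⟨?_, ?_⟩
    · by_contra h
      push Not at h
      exact hv (eq_zero_of_forall_sympForm_left h)
    · by_contra h
      push Not at h
      exact hv (eq_zero_of_forall_sympForm_right h)

theorem SA.qk_wedge (h : SA k) (ht : tk k ≠ 0) {x y : Fin 2 ⊕ Fin 2 → F} (hxy : sympForm 2 F x y = 0) :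
    qk k (wedge x y) = (sympForm 2 F (k *ᵥ x) y / tk k) ^ 2 := by
  rw [div_pow, h.sq hxy, qk, div_pow]
  field_simp
  ring

end quad

/-- a matrix having every vector as eigenvector is a scalar. -/
theorem scalar_of_eigen {ι : Type} [Fintype ι] [DecidableEq ι] [Nonempty ι] {N : Matrix ι ι F} (h : ∀ x, ∃ c : F, N *ᵥ x = c • x) :
    ∃ c : F, N = c • (1 : Matrix ι ι F) := by
  choose c hc using fun i : ι => h (Pi.single i 1)
  have hcc : ∀ i j, c i = c j := by
    intro i j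
    by_cases hij : i = j
    · rw [hij]
    obtain ⟨d, hd⟩ := h (Pi.single i 1 + Pi.single j 1)
    rw [Matrix.mulVec_add, hc, hc] at hd
    have h1 := congrFun hd i
    have h2 := congrFun hd j
    simp [hij, Ne.symm hij] at h1 h2
    rw [h1, h2]
  obtain ⟨i0⟩ := ‹Nonempty ι›
  refine ⟨c i0, ?_⟩
  ext i j
  have h1 := congrFun (hc j) i
  rw [Matrix.mulVec_single_one] at h1
  simp only [Matrix.col_apply, Pi.smul_apply, smul_eq_mul] at h1
  rw [h1, Matrix.smul_apply, smul_eq_mul, hcc j i0, Matrix.one_apply, Pi.single_apply]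

theorem field_maximal [Finite F] [CharP F 2] (K : Subalgebra F (Matrix (Fin 2 ⊕ Fin 2) (Fin 2 ⊕ Fin 2) F))
    (hK : Cfsg.Geo.IsFieldSubalgebra 2 K) (hsa : Cfsg.Geo.IsSelfAdjointFor (Cfsg.sympForm 2 F) K)
    (halt : ∀ k ∈ K, ∀ v : (Fin 2 ⊕ Fin 2 → F), (Cfsg.sympForm 2 F) (Matrix.mulVec k v) v = 0) :
    Cfsg.Geo.IsMaximalIn (Cfsg.spGL 2 F) (Cfsg.Geo.subalgebraNormalizer K ⊓ Cfsg.spGL 2 F) := by
  classical
  -- a generator
  obtain ⟨k, hkK, hk⟩ : ∃ k ∈ K, ∀ c : F, k ≠ c • (1 : Matrix _ _ F) := by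
    by_contra hcon
    push Not at hcon
    have : K = ⊥ := by
      rw [eq_bot_iff]
      intro x hx
      obtain ⟨c, hc⟩ := hcon x hx
      rw [Algebra.mem_bot]
      exact ⟨c, by rw [hc, Algebra.algebraMap_eq_smul_one]⟩
    have h2 := hK.finrank_eq
    rw [this, Subalgebra.finrank_bot] at h2
    omega
  have hone : (1 : Matrix (Fin 2 ⊕ Fin 2) (Fin 2 ⊕ Fin 2) F) ≠ 0 := one_ne_zero
  have hli : LinearIndependent F ![(1 : Matrix (Fin 2 ⊕ Fin 2) (Fin 2 ⊕ Fin 2) F), k] := by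
    rw [LinearIndependent.pair_iff]
    intro a b hab
    by_cases hb : b = 0
    · rw [hb, zero_smul, add_zero] at hab
      exact ⟨(smul_eq_zero.1 hab).resolve_right hone, hb⟩
    · exfalso
      apply hk (-(b⁻¹ * a))
      have h1 : b⁻¹ • (a • (1 : Matrix (Fin 2 ⊕ Fin 2) (Fin 2 ⊕ Fin 2) F) + b • k) = 0 := by rw [hab, smul_zero]
      rw [smul_add, smul_smul, smul_smul, inv_mul_cancel₀ hb, one_smul] at h1
      rw [neg_smul]
      exact (neg_eq_of_add_eq_zero_right h1).symm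
  have hspan : Submodule.span F (Set.range ![(1 : Matrix (Fin 2 ⊕ Fin 2) (Fin 2 ⊕ Fin 2) F), k]) =
      Subalgebra.toSubmodule K := by
    apply Submodule.eq_of_le_of_finrank_eq
    · rw [Submodule.span_le]
      rintro _ ⟨i, rfl⟩
      fin_cases i
      · exact K.one_mem
      · exact hkK
    · rw [finrank_span_eq_card hli]
      exact hK.finrank_eq.symm
  have hrep : ∀ x, x ∈ K ↔ ∃ a b : F, a • (1 : Matrix (Fin 2 ⊕ Fin 2) (Fin 2 ⊕ Fin 2) F) + b • k = x := by
    intro x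
    rw [← Subalgebra.mem_toSubmodule, ← hspan, Matrix.range_cons, Matrix.range_cons, Matrix.range_empty,
      Set.union_empty, Set.singleton_union, Submodule.mem_span_pair]
  have hS : SA k := ⟨hsa k hkK, halt k hkK⟩
  -- the trace is not zero
  have ht : tk k ≠ 0 := by
    intro ht
    obtain ⟨ε, hε⟩ := exists_sq (nk k)
    have h1 := hS.mul_self
    rw [ht, zero_smul, zero_add, ← hε] at h1
    have h2 : (k + ε • (1 : Matrix (Fin 2 ⊕ Fin 2) (Fin 2 ⊕ Fin 2) F)) *
        (k + ε • (1 : Matrix (Fin 2 ⊕ Fin 2) (Fin 2 ⊕ Fin 2) F)) = 0 := by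
      rw [add_mul, mul_add, mul_add, h1]
      simp only [Matrix.mul_smul, Matrix.smul_mul, mul_one, one_mul, smul_smul]
      have h3 : ∀ x : Matrix (Fin 2 ⊕ Fin 2) (Fin 2 ⊕ Fin 2) F, x + x = 0 := by
        intro x
        ext i j
        rw [Matrix.add_apply, CharTwo.add_self_eq_zero]
        rfl
      rw [pow_two, add_assoc, ← add_assoc (ε • k), h3, zero_add, h3]
    have h3 : k + ε • (1 : Matrix (Fin 2 ⊕ Fin 2) (Fin 2 ⊕ Fin 2) F) ≠ 0 := by
      intro h0
      apply hk (-ε)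
      rw [neg_smul]
      exact eq_neg_of_add_eq_zero_left h0
    obtain ⟨y, -, hy⟩ := hK.inv _ ((hrep _).2 ⟨ε, 1, by rw [one_smul, add_comm]⟩ :
      k + ε • (1 : Matrix (Fin 2 ⊕ Fin 2) (Fin 2 ⊕ Fin 2) F) ∈ K) h3
    apply h3
    have h4 := congrArg (fun z => (k + ε • (1 : Matrix (Fin 2 ⊕ Fin 2) (Fin 2 ⊕ Fin 2) F)) * z) hy
    rw [← mul_assoc, h2, zero_mul, mul_one] at h4
    exact h4.symm
  apply maximal_of_graph _ (Cfsg.Geo.quadSimilarityGroup (qk k) ⊓ Cfsg.spGL 2 F) inf_le_right inf_le_right ?_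
    (quad_maximal le_rfl qk_nondeg polar_qk)
  intro A
  set g := spToGL 2 F A with hg
  have hgA : (g : Matrix (Fin 2 ⊕ Fin 2) (Fin 2 ⊕ Fin 2) F) = A.1 := rfl
  have hgs : g ∈ spGL 2 F := spToGL_mem A
  rw [mem_quad_iff (by norm_num) polar_qk, Subgroup.mem_inf]
  have hB : ((spToGL 2 F (graphHom F A) : GL (Fin 2 ⊕ Fin 2) F) : Matrix (Fin 2 ⊕ Fin 2) (Fin 2 ⊕ Fin 2) F) = mn A.1 := rfl
  have hBs : spToGL 2 F (graphHom F A) ∈ spGL 2 F := spToGL_mem _
  rw [hB]
  set gi : Matrix (Fin 2 ⊕ Fin 2) (Fin 2 ⊕ Fin 2) F := ((g⁻¹ : GL (Fin 2 ⊕ Fin 2) F) : Matrix (Fin 2 ⊕ Fin 2) (Fin 2 ⊕ Fin 2) F) with hgi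
  have hgig : gi * (g : Matrix _ _ F) = 1 := by rw [hgi, ← Units.val_mul, inv_mul_cancel, Units.val_one]
  have hggi : (g : Matrix _ _ F) * gi = 1 := by rw [hgi, ← Units.val_mul, mul_inv_cancel, Units.val_one]
  -- the conjugate of `k`
  have hconj : ∀ x y, sympForm 2 F (k *ᵥ (A.1 *ᵥ x)) (A.1 *ᵥ y) = sympForm 2 F ((gi * k * (g : Matrix _ _ F)) *ᵥ x) y := by
    intro x y
    have h1 : k *ᵥ (A.1 *ᵥ x) = (g : Matrix _ _ F) *ᵥ ((gi * k * (g : Matrix _ _ F)) *ᵥ x) := by
      rw [Matrix.mulVec_mulVec, Matrix.mulVec_mulVec, ← hgA]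
      congr 1
      rw [← mul_assoc, ← mul_assoc, hggi, one_mul]
    rw [h1]
    exact hgs _ _
  have hwd : ∀ x y, sympForm 2 F x y = 0 → qk k (mn A.1 *ᵥ wedge x y) =
      (sympForm 2 F ((gi * k * (g : Matrix _ _ F)) *ᵥ x) y / tk k) ^ 2 := by
    intro x y hxy
    rw [mn_mulVec_wedge A.2 hxy, hS.qk_wedge ht, hconj]
    rw [sympForm_mulVec A.2, hxy]
  constructor
  · rintro ⟨hN, -⟩
    refine ⟨hBs, fun z => ?_⟩
    obtain ⟨x, y, hxy, rfl⟩ := exists_wedge z
    rw [hwd x y hxy, hS.qk_wedge ht hxy]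
    congr 2
    -- k' = a + k
    have hk' : gi * k * (g : Matrix _ _ F) ∈ K := by
      rw [hN]
      have : (g : Matrix _ _ F) * (gi * k * (g : Matrix _ _ F)) * gi = k := by
        rw [← mul_assoc, ← mul_assoc, hggi, one_mul, mul_assoc, hggi, mul_one]
      rw [← hgi, this]
      exact hkK
    obtain ⟨a, b, hab⟩ := (hrep _).1 hk'
    have hsq : (gi * k * (g : Matrix _ _ F)) * (gi * k * (g : Matrix _ _ F)) =
        tk k • (gi * k * (g : Matrix _ _ F)) + nk k • (1 : Matrix _ _ F) := by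
      have h1 : (gi * k * (g : Matrix _ _ F)) * (gi * k * (g : Matrix _ _ F)) = gi * (k * k) * (g : Matrix _ _ F) := by
        calc (gi * k * (g : Matrix _ _ F)) * (gi * k * (g : Matrix _ _ F))
            = gi * k * ((g : Matrix _ _ F) * gi) * k * (g : Matrix _ _ F) := by simp only [mul_assoc]
          _ = gi * (k * k) * (g : Matrix _ _ F) := by rw [hggi, mul_one]; simp only [mul_assoc]
      rw [h1, hS.mul_self, mul_add, add_mul]
      simp only [Matrix.mul_smul, Matrix.smul_mul, mul_one, hgig]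
    have hb : b = 1 := by
      rw [← hab] at hsq
      have h1 : (a • (1 : Matrix (Fin 2 ⊕ Fin 2) (Fin 2 ⊕ Fin 2) F) + b • k) * (a • 1 + b • k) =
          (a * a) • 1 + (a * b + a * b) • k + (b * b) • (k * k) := by
        simp only [mul_add, add_mul, Matrix.mul_smul, Matrix.smul_mul, mul_one, one_mul, smul_smul, add_smul]
        rw [mul_comm b a]
        abel
      rw [h1, hS.mul_self, CharTwo.add_self_eq_zero, zero_smul, add_zero] at hsq
      have h2 : (a * a + b * b * nk k + tk k * a + nk k) • (1 : Matrix (Fin 2 ⊕ Fin 2) (Fin 2 ⊕ Fin 2) F)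
          + (b * b * tk k + tk k * b) • k = 0 := by
        have h3 := sub_eq_zero.2 hsq
        rw [← h3]
        have hneg : ∀ z : F, -z = z := fun z => CharTwo.neg_eq z
        ext i j
        simp only [Matrix.add_apply, Matrix.sub_apply, Matrix.smul_apply, smul_eq_mul]
        rw [sub_eq_add_neg, hneg]
        ring
      have h3 := LinearIndependent.pair_iff.1 hli _ _ h2
      have h4 : b * (b + 1) = 0 := by
        have h5 : tk k * (b * (b + 1)) = 0 := by rw [← h3.2]; ring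
        exact (mul_eq_zero.1 h5).resolve_left ht
      rcases mul_eq_zero.1 h4 with h5 | h5
      · exfalso
        rw [h5, zero_smul, add_zero] at hab
        apply hk a
        calc k = (g : Matrix _ _ F) * (gi * k * (g : Matrix _ _ F)) * gi := by
              rw [← mul_assoc, ← mul_assoc, hggi, one_mul, mul_assoc, hggi, mul_one]
          _ = a • 1 := by rw [← hab, Matrix.mul_smul, mul_one, Matrix.smul_mul, hggi]
      · exact CharTwo.add_eq_zero.1 h5
    rw [← hab, hb, one_smul, Matrix.add_mulVec, Matrix.smul_mulVec, Matrix.one_mulVec, sympForm_add_left,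
      sympForm_smul_left, hxy, mul_zero, zero_add]
  · rintro ⟨-, hQ⟩
    refine ⟨?_, hgs⟩
    have h1 : ∀ x y, sympForm 2 F x y = 0 →
        sympForm 2 F ((gi * k * (g : Matrix _ _ F) - k) *ᵥ x) y = 0 := by
      intro x y hxy
      have h2 := hQ (wedge x y)
      rw [hwd x y hxy, hS.qk_wedge ht hxy] at h2
      have h3 := sq_inj h2
      rw [div_left_inj' ht] at h3
      rw [Matrix.sub_mulVec, sympForm_sub_left, h3, sub_self]
    obtain ⟨c, hc⟩ := scalar_of_eigen (N := gi * k * (g : Matrix _ _ F) - k) (by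
      intro x
      by_cases hx : x = 0
      · exact ⟨0, by rw [hx]; simp⟩
      obtain ⟨y0, hy0⟩ := exists_partner hx
      set n := (gi * k * (g : Matrix _ _ F) - k) *ᵥ x with hn
      refine ⟨sympForm 2 F n y0, ?_⟩
      apply eq_of_forall_sympForm_right
      intro y
      have h2 := h1 x (y - sympForm 2 F x y • y0) (by
        rw [sympForm_sub_right, sympForm_smul_right, hy0, mul_one, sub_self])
      rw [← hn, sympForm_sub_right, sympForm_smul_right, sub_eq_zero] at h2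
      rw [h2, sympForm_smul_left]
      ring)
    have hk1 : gi * k * (g : Matrix _ _ F) = c • 1 + k := by rw [← hc]; abel
    have hk2 : (g : Matrix _ _ F) * k * gi = (-c) • 1 + k := by
      have h3 : k = (g : Matrix _ _ F) * (gi * k * (g : Matrix _ _ F)) * gi := by
        rw [← mul_assoc, ← mul_assoc, hggi, one_mul, mul_assoc, hggi, mul_one]
      rw [hk1, mul_add, add_mul, Matrix.mul_smul, mul_one, Matrix.smul_mul, hggi] at h3
      rw [neg_smul]
      nth_rewrite 2 [h3]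
      abel
    intro x
    constructor
    · intro hx
      obtain ⟨a, b, rfl⟩ := (hrep _).1 hx
      rw [← hgi]
      refine (hrep _).2 ⟨a - b * c, b, ?_⟩
      rw [mul_add, add_mul, Matrix.mul_smul, Matrix.mul_smul, Matrix.smul_mul, Matrix.smul_mul, mul_one, hggi, hk2,
        smul_add, smul_smul, sub_smul, mul_neg, neg_smul]
      abel
    · intro hx
      rw [← hgi] at hx
      obtain ⟨a, b, hab⟩ := (hrep _).1 hx
      refine (hrep _).2 ⟨a + b * c, b, ?_⟩
      calc (a + b * c) • (1 : Matrix (Fin 2 ⊕ Fin 2) (Fin 2 ⊕ Fin 2) F) + b • k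
          = gi * (a • 1 + b • k) * (g : Matrix _ _ F) := by
            rw [mul_add, add_mul, Matrix.mul_smul, Matrix.mul_smul, Matrix.smul_mul, Matrix.smul_mul, mul_one, hgig, hk1,
              smul_add, smul_smul, add_smul]
            abel
        _ = x := by
            rw [hab, ← mul_assoc, ← mul_assoc, hgig, one_mul, mul_assoc, hgig, mul_one]

end Cfsg.Agent.H910
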