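import Cfsg.Agent.H910.SubEvenMax
import Cfsg.Agent.H910.FieldEven
import Cfsg.Agent.ClassicalGeometry.SympIso

/-!
Subfield subgroups of `Sp_{2m}(F)`: normal form, and maximality for `Sp_4(q)`, `q` even (helper910).
-/

set_option autoImplicit false
open Cfsg
open scoped Matrix MatrixGroups

namespace Cfsg.Agent.H910

open Cfsg.Agent.ClassicalGeometry.SympBasic Cfsg.Agent.H876 Cfsg.Agent.S5652

section

variable {F : Type*} [Field F] {m : ℕ}

local notation "Vm" => Fin m ⊕ Fin m → F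
local notation "Im" => Fin m ⊕ Fin m

/-- normal form of a form-compatible `F₀`-structure. -/
theorem exists_normal {F₀ : Subfield F} {ζ : F} {P : GL Im F} (hζ : ζ ≠ 0)
    (h : Cfsg.Geo.IsFormRationalStructure (sympForm m F) F₀ ζ P) :
    ∃ P' : GL Im F, (∀ x y, ζ * sympForm m F ((P' : Matrix Im Im F) *ᵥ x) ((P' : Matrix Im Im F) *ᵥ y)
      = sympForm m F x y) ∧ Cfsg.Geo.subfieldSubgroup F₀ P = Cfsg.Geo.subfieldSubgroup F₀ P' := by
  classical
  -- the `F₀`-form
  let ι₀ : (Im → F₀) →ₗ[F₀] Vm :=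
    { toFun := fun u i => (u i : F)
      map_add' := fun u v => rfl
      map_smul' := fun a u => rfl }
  have hι : ∀ u i, ι₀ u i = (u i : F) := fun _ _ => rfl
  let B : LinearMap.BilinForm F₀ (Im → F₀) := LinearMap.mk₂ F₀
    (fun u v => (⟨ζ * sympForm m F ((P : Matrix Im Im F) *ᵥ ι₀ u) ((P : Matrix Im Im F) *ᵥ ι₀ v),
      h _ _ (fun i => (u i).2) (fun i => (v i).2)⟩ : F₀))
    (by
      intro u u' v
      apply Subtype.ext
      show ζ * _ = ζ * _ + ζ * _
      rw [map_add, Matrix.mulVec_add, sympForm_add_left, mul_add])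
    (by
      intro c u v
      apply Subtype.ext
      show ζ * _ = (c : F) * (ζ * _)
      have : ι₀ (c • u) = (c : F) • ι₀ u := rfl
      rw [this, Matrix.mulVec_smul, sympForm_smul_left]
      ring)
    (by
      intro u v v'
      apply Subtype.ext
      show ζ * _ = ζ * _ + ζ * _
      rw [map_add, Matrix.mulVec_add, sympForm_add_right, mul_add])
    (by
      intro c u v
      apply Subtype.ext
      show ζ * _ = (c : F) * (ζ * _)
      have : ι₀ (c • v) = (c : F) • ι₀ v := rfl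
      rw [this, Matrix.mulVec_smul, sympForm_smul_right]
      ring)
  have hB : ∀ u v, ((B u v : F₀) : F) = ζ * sympForm m F ((P : Matrix Im Im F) *ᵥ ι₀ u) ((P : Matrix Im Im F) *ᵥ ι₀ v) :=
    fun _ _ => rfl
  have halt : B.IsAlt := by
    intro u
    apply Subtype.ext
    rw [hB, sympForm_self, mul_zero]
    rfl
  have hsingle : ∀ j, ι₀ (Pi.single j 1) = Pi.single j 1 := by
    intro j
    ext i
    rw [hι, Pi.single_apply, Pi.single_apply]
    split_ifs <;> rfl
  have hnd : ∀ u, (∀ v, B u v = 0) → u = 0 := by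
    intro u hu
    have h1 : (P : Matrix Im Im F) *ᵥ ι₀ u = 0 := by
      apply eq_zero_of_forall_sympForm_right
      intro w
      have h2 : (sympBilin m F ((P : Matrix Im Im F) *ᵥ ι₀ u)).comp (Matrix.mulVecLin (P : Matrix Im Im F)) = 0 := by
        apply (Pi.basisFun F Im).ext
        intro j
        rw [Pi.basisFun_apply, LinearMap.comp_apply, Matrix.mulVecLin_apply, sympBilin_apply, LinearMap.zero_apply]
        have h3 := congrArg (fun z : F₀ => (z : F)) (hu (Pi.single j 1))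
        simp only [hB, hsingle] at h3
        exact (mul_eq_zero.1 h3).resolve_left hζ
      have h4 := LinearMap.congr_fun h2 (((P⁻¹ : GL Im F) : Matrix Im Im F) *ᵥ w)
      rw [LinearMap.comp_apply, Matrix.mulVecLin_apply, mulVec_inv_cancel, sympBilin_apply, LinearMap.zero_apply] at h4
      exact h4
    have h2 : ι₀ u = 0 := by
      have := congrArg (fun x => ((P⁻¹ : GL Im F) : Matrix Im Im F) *ᵥ x) h1
      simpa only [inv_mulVec_cancel, Matrix.mulVec_zero] using this
    funext i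
    apply Subtype.ext
    have := congrFun h2 i
    rwa [hι] at this
  obtain ⟨e, he⟩ := Cfsg.Agent.ClassicalGeometry.SympIso.exists_linearEquiv_sympForm B halt hnd (k := m) (by simp; ring)
  -- the matrix of `e`
  let A : Matrix Im Im F := fun i j => ((e (Pi.single j 1)) i : F)
  let A' : Matrix Im Im F := fun i j => ((e.symm (Pi.single j 1)) i : F)
  have hA : ∀ u : Im → F₀, A *ᵥ ι₀ u = ι₀ (e u) := by
    intro u
    have h1 : u = ∑ j, u j • Pi.single j (1 : F₀) := by
      funext i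
      simp [Finset.sum_apply, Pi.single_apply]
    ext i
    rw [Matrix.mulVec, dotProduct, hι]
    conv_rhs => rw [h1, map_sum, Finset.sum_apply]
    simp only [map_smul, Pi.smul_apply, smul_eq_mul]
    push_cast
    exact Finset.sum_congr rfl fun j _ => by rw [hι]; exact mul_comm _ _
  have hA' : ∀ u : Im → F₀, A' *ᵥ ι₀ u = ι₀ (e.symm u) := by
    intro u
    have h1 : u = ∑ j, u j • Pi.single j (1 : F₀) := by
      funext i
      simp [Finset.sum_apply, Pi.single_apply]
    ext i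
    rw [Matrix.mulVec, dotProduct, hι]
    conv_rhs => rw [h1, map_sum, Finset.sum_apply]
    simp only [map_smul, Pi.smul_apply, smul_eq_mul]
    push_cast
    exact Finset.sum_congr rfl fun j _ => by rw [hι]; exact mul_comm _ _
  have hAA' : A * A' = 1 := by
    apply Matrix.ext_of_mulVec_single
    intro j
    rw [← Matrix.mulVec_mulVec, ← hsingle j, hA', hA, e.apply_symm_apply, Matrix.one_mulVec]
  have hA'A : A' * A = 1 := by
    apply Matrix.ext_of_mulVec_single
    intro j
    rw [← Matrix.mulVec_mulVec, ← hsingle j, hA, hA', e.symm_apply_apply, Matrix.one_mulVec]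
  let g₀ : GL Im F := ⟨A, A', hAA', hA'A⟩
  have hg : (g₀ : Matrix Im Im F) = A := rfl
  have hg' : ((g₀⁻¹ : GL Im F) : Matrix Im Im F) = A' := rfl
  refine ⟨P * g₀, ?_, ?_⟩
  · have key : ∀ i j, ζ * sympForm m F (((P * g₀ : GL Im F) : Matrix Im Im F) *ᵥ Pi.single i 1)
        (((P * g₀ : GL Im F) : Matrix Im Im F) *ᵥ Pi.single j 1) = sympForm m F (Pi.single i 1) (Pi.single j 1) := by
      intro i j
      rw [mul_mulVec, mul_mulVec, hg, ← hsingle i, ← hsingle j, hA, hA, ← hB, he, sympForm_eq_sum, sympForm_eq_sum]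
      push_cast
      rfl
    have h2 : ζ • ((sympBilin m F).compl₁₂ (Matrix.mulVecLin ((P * g₀ : GL Im F) : Matrix Im Im F))
        (Matrix.mulVecLin ((P * g₀ : GL Im F) : Matrix Im Im F))) = sympBilin m F := by
      apply LinearMap.BilinForm.ext_basis (Pi.basisFun F Im)
      intro i j
      rw [Pi.basisFun_apply, Pi.basisFun_apply, sympBilin_apply, ← key i j]
      rfl
    intro x y
    have h3 := LinearMap.congr_fun (LinearMap.congr_fun h2 x) y
    exact h3
  · ext g
    rw [Cfsg.Agent.H914.mem_subfieldSubgroup_iff, Cfsg.Agent.H914.mem_subfieldSubgroup_iff]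
    have hAm : ∀ i j, A i j ∈ F₀ := fun i j => (e (Pi.single j 1) i).2
    have hAm' : ∀ i j, A' i j ∈ F₀ := fun i j => (e.symm (Pi.single j 1) i).2
    have hmul : ∀ X Y : Matrix Im Im F, (∀ i j, X i j ∈ F₀) → (∀ i j, Y i j ∈ F₀) → ∀ i j, (X * Y) i j ∈ F₀ := by
      intro X Y hX hY i j
      rw [Matrix.mul_apply]
      exact F₀.sum_mem fun k _ => F₀.mul_mem (hX i k) (hY k j)
    have hsm : ∀ (c : F) (X : Matrix Im Im F), (∀ i j, c * X i j ∈ F₀) ↔ ∀ i j, (c • X) i j ∈ F₀ := by
      intro c X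
      rfl
    constructor
    · rintro ⟨c, hc, h1⟩
      refine ⟨c, hc, ?_⟩
      rw [hsm] at h1 ⊢
      have h2 : c • (((P * g₀)⁻¹ * g * (P * g₀) : GL Im F) : Matrix Im Im F) =
          A' * (c • ((P⁻¹ * g * P : GL Im F) : Matrix Im Im F)) * A := by
        rw [Matrix.mul_smul, Matrix.smul_mul, ← hg, ← hg', ← Units.val_mul, ← Units.val_mul]
        congr 2
        group
      rw [h2]
      exact hmul _ _ (hmul _ _ hAm' h1) hAm
    · rintro ⟨c, hc, h1⟩
      refine ⟨c, hc, ?_⟩
      rw [hsm] at h1 ⊢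
      have h2 : c • ((P⁻¹ * g * P : GL Im F) : Matrix Im Im F) =
          A * (c • (((P * g₀)⁻¹ * g * (P * g₀) : GL Im F) : Matrix Im Im F)) * A' := by
        rw [Matrix.mul_smul, Matrix.smul_mul, ← hg, ← hg', ← Units.val_mul, ← Units.val_mul]
        congr 2
        group
      rw [h2]
      exact hmul _ _ (hmul _ _ hAm h1) hAm'

/-- the subfield subgroup in normal form. -/
theorem sub_eq_map {F₀ : Subfield F} {ζ : F} {P : GL Im F} (hζ : ζ ≠ 0)
    (h : ∀ x y, ζ * sympForm m F ((P : Matrix Im Im F) *ᵥ x) ((P : Matrix Im Im F) *ᵥ y) = sympForm m F x y) :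
    Cfsg.Geo.subfieldSubgroup F₀ P ⊓ spGL m F =
      (Cfsg.Geo.subfieldSubgroup F₀ 1 ⊓ spGL m F).map (MulAut.conj P).toMonoidHom ∧
    spGL m F = (spGL m F).map (MulAut.conj P).toMonoidHom := by
  have hsp : ∀ g : GL Im F, P⁻¹ * g * P ∈ spGL m F ↔ g ∈ spGL m F := by
    have h' : ∀ x y, sympForm m F (((P⁻¹ : GL Im F) : Matrix Im Im F) *ᵥ x) (((P⁻¹ : GL Im F) : Matrix Im Im F) *ᵥ y)
        = ζ * sympForm m F x y := by
      intro x y
      rw [← h, mulVec_inv_cancel, mulVec_inv_cancel]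
    intro g
    constructor
    · intro hg u v
      have h1 := sp_form hg (((P⁻¹ : GL Im F) : Matrix Im Im F) *ᵥ u) (((P⁻¹ : GL Im F) : Matrix Im Im F) *ᵥ v)
      rw [mul_mulVec, mul_mulVec, mul_mulVec, mul_mulVec, mulVec_inv_cancel, mulVec_inv_cancel, h', h'] at h1
      exact mul_left_cancel₀ hζ h1
    · intro hg u v
      show sympForm m F (((P⁻¹ * g * P : GL Im F) : Matrix Im Im F) *ᵥ u) (((P⁻¹ * g * P : GL Im F) : Matrix Im Im F) *ᵥ v) = _
      rw [mul_mulVec, mul_mulVec, mul_mulVec, mul_mulVec, h', sp_form hg, h]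
  constructor
  · ext g
    rw [Subgroup.mem_inf, Subgroup.mem_map]
    constructor
    · rintro ⟨h1, h2⟩
      have h3 : P⁻¹ * g * P ∈ Cfsg.Geo.subfieldSubgroup F₀ 1 := by
        rw [Cfsg.Agent.H914.mem_subfieldSubgroup_iff] at h1 ⊢
        simpa only [inv_one, one_mul, mul_one] using h1
      exact ⟨P⁻¹ * g * P, ⟨h3, (hsp g).2 h2⟩, by simp [MulAut.conj_apply]; group⟩
    · rintro ⟨x, ⟨h1, h2⟩, rfl⟩
      have h1 : x ∈ Cfsg.Geo.subfieldSubgroup F₀ 1 := h1
      have h3 : P⁻¹ * (MulAut.conj P x) * P = x := by rw [MulAut.conj_apply]; group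
      refine ⟨?_, ?_⟩
      · rw [Cfsg.Agent.H914.mem_subfieldSubgroup_iff]
        rw [Cfsg.Agent.H914.mem_subfieldSubgroup_iff] at h1
        simp only [inv_one, one_mul, mul_one] at h1
        show ∃ c : F, c ≠ 0 ∧ ∀ i j, c * ((P⁻¹ * (MulAut.conj P x) * P : GL Im F) : Matrix Im Im F) i j ∈ F₀
        rw [h3]
        exact h1
      · show MulAut.conj P x ∈ spGL m F
        rw [← hsp, h3]
        exact h2
  · ext g
    rw [Subgroup.mem_map]
    constructor
    · intro h2
      exact ⟨P⁻¹ * g * P, (hsp g).2 h2, by simp [MulAut.conj_apply]; group⟩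
    · rintro ⟨x, h2, rfl⟩
      have h3 : P⁻¹ * (MulAut.conj P x) * P = x := by rw [MulAut.conj_apply]; group
      show MulAut.conj P x ∈ spGL m F
      rw [← hsp, h3]
      exact h2

end

/-- subfield subgroups of `Sp_4(q)`, `q` even, are maximal. -/
theorem sub_maximal {F : Type*} [Field F] [Finite F] [CharP F 2] {F₀ : Subfield F} {r : ℕ}
    {P : GL (Fin 2 ⊕ Fin 2) F} {ζ : F} (hr : r.Prime) (hcard : Nat.card F = Nat.card F₀ ^ r) (hζ : ζ ≠ 0)
    (h : Cfsg.Geo.IsFormRationalStructure (sympForm 2 F) F₀ ζ P) :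
    Cfsg.Geo.IsMaximalIn (spGL 2 F) (Cfsg.Geo.subfieldSubgroup F₀ P ⊓ spGL 2 F) := by
  obtain ⟨P', h1, h2⟩ := exists_normal hζ h
  obtain ⟨h3, h4⟩ := sub_eq_map (F₀ := F₀) hζ h1
  rw [h2, h3]
  have h5 := isMaximalIn_map (MulAut.conj P').toMonoidHom (MulAut.conj P').injective (sub_maximal_std hr hcard)
  rw [← h4] at h5
  exact h5

end Cfsg.Agent.H910
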