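import Cfsg.Agent.ClassicalGeometry.SympBasic
import Cfsg.Agent.H876.Basic

/-!
Joint eigenspaces of commuting matrices of order prime to the characteristic (helper910).

* `wt X χ` : the joint eigenspace, `wt_indep`, `wt_sup`, `card_le_of_wt`;
* `wt_inv_ne_bot` : closed under inverses for matrices preserving the symplectic form;
* `rot_three` : commuting `x 0, x 1, x 2` of odd order in `Sp_4(F)` which are rotated by some `c` are equal.
-/

set_option autoImplicit false
open Cfsg
open scoped Matrix MatrixGroups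

namespace Cfsg.Agent.H910

open Cfsg.Agent.ClassicalGeometry.SympBasic Cfsg.Agent.H876

section gen

variable {K : Type*} [Field K] {I : Type*} [Fintype I] [DecidableEq I] {ι : Type*}

/-- a matrix as endomorphism. -/
noncomputable def mE (A : Matrix I I K) : Module.End K (I → K) := Matrix.toLinAlgEquiv' A

theorem mE_apply (A : Matrix I I K) (v : I → K) : mE A v = A *ᵥ v := rfl

theorem mE_mul (A B : Matrix I I K) : mE (A * B) = mE A * mE B := map_mul Matrix.toLinAlgEquiv' A B

theorem mE_pow (A : Matrix I I K) (n : ℕ) : mE (A ^ n) = mE A ^ n := map_pow Matrix.toLinAlgEquiv' A n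

theorem mE_one : mE (1 : Matrix I I K) = 1 := map_one Matrix.toLinAlgEquiv'

theorem mE_injective : Function.Injective (mE : Matrix I I K → Module.End K (I → K)) :=
  Matrix.toLinAlgEquiv'.injective

/-- the joint eigenspace. -/
noncomputable def wt (X : ι → Matrix I I K) (χ : ι → K) : Submodule K (I → K) :=
  ⨅ i, (mE (X i)).eigenspace (χ i)

variable {X : ι → Matrix I I K} {χ : ι → K}

theorem mem_wt {v : I → K} : v ∈ wt X χ ↔ ∀ i, X i *ᵥ v = χ i • v := by
  simp only [wt, Submodule.mem_iInf, Module.End.mem_eigenspace_iff, mE_apply]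

theorem exists_of_wt (h : wt X χ ≠ ⊥) : ∃ v, v ≠ 0 ∧ ∀ i, X i *ᵥ v = χ i • v := by
  obtain ⟨v, hv, hv0⟩ := (wt X χ).ne_bot_iff.1 h
  exact ⟨v, hv0, mem_wt.1 hv⟩

theorem wt_ne_bot {v : I → K} (hv : v ≠ 0) (h : ∀ i, X i *ᵥ v = χ i • v) : wt X χ ≠ ⊥ :=
  (wt X χ).ne_bot_iff.2 ⟨v, mem_wt.2 h, hv⟩

theorem semisimple_of_pow {A : Matrix I I K} {n : ℕ} (hn : (n : K) ≠ 0) (h : A ^ n = 1) :
    (mE A).IsSemisimple := by
  apply Module.End.isSemisimple_of_squarefree_aeval_eq_zero
    (Polynomial.separable_X_pow_sub_C (1 : K) hn one_ne_zero).squarefree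
  rw [map_sub, map_pow, Polynomial.aeval_X, Polynomial.aeval_C, map_one, ← mE_pow, h, mE_one]
  exact sub_self _

theorem wt_eq_max (hord : ∀ i, ∃ n : ℕ, (n : K) ≠ 0 ∧ X i ^ n = 1) :
    wt X = fun χ : ι → K => ⨅ i, (mE (X i)).maxGenEigenspace (χ i) := by
  funext χ
  rw [wt]
  congr 1
  funext i
  obtain ⟨n, hn, h⟩ := hord i
  exact ((Module.End.isFinitelySemisimple_iff_isSemisimple.2
    (semisimple_of_pow hn h)).maxGenEigenspace_eq_eigenspace _).symm

theorem commute_mE {A B : Matrix I I K} (h : A * B = B * A) : Commute (mE A) (mE B) := by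
  rw [Commute, SemiconjBy, ← mE_mul, ← mE_mul, h]

theorem wt_indep (hcomm : ∀ i j, X i * X j = X j * X i) (hord : ∀ i, ∃ n : ℕ, (n : K) ≠ 0 ∧ X i ^ n = 1) :
    iSupIndep (wt X) := by
  rw [wt_eq_max hord]
  exact Module.End.independent_iInf_maxGenEigenspace_of_forall_mapsTo _ fun i j =>
    Module.End.mapsTo_maxGenEigenspace_of_comm (commute_mE (hcomm j i))

theorem wt_sup [IsAlgClosed K] (hcomm : ∀ i j, X i * X j = X j * X i)
    (hord : ∀ i, ∃ n : ℕ, (n : K) ≠ 0 ∧ X i ^ n = 1) : ⨆ χ, wt X χ = ⊤ := by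
  rw [wt_eq_max hord]
  exact Module.End.iSup_iInf_maxGenEigenspace_eq_top_of_forall_mapsTo _
    (fun i j => Module.End.mapsTo_maxGenEigenspace_of_comm (commute_mE (hcomm j i)))
    fun i => Module.End.iSup_maxGenEigenspace_eq_top _

/-- at most `dim` weights. -/
theorem card_le_of_wt (hcomm : ∀ i j, X i * X j = X j * X i) (hord : ∀ i, ∃ n : ℕ, (n : K) ≠ 0 ∧ X i ^ n = 1)
    {α : Type*} [Fintype α] (f : α → ι → K) (hf : Function.Injective f) (h : ∀ i, wt X (f i) ≠ ⊥) :
    Fintype.card α ≤ Fintype.card I := by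
  have h1 := wt_indep hcomm hord
  have hfin := h1.fintypeNeBotOfFiniteDimensional
  have h2 := h1.subtype_ne_bot_le_finrank
  rw [Module.finrank_fintype_fun_eq_card] at h2
  have h3 : Fintype.card α ≤ Fintype.card {χ // wt X χ ≠ ⊥} :=
    Fintype.card_le_of_injective (fun i => (⟨f i, h i⟩ : {χ // wt X χ ≠ ⊥}))
      (fun i j hij => hf (congrArg Subtype.val hij))
  exact h3.trans h2

theorem wt_pow {n : ℕ} {i : ι} (h : X i ^ n = 1) (hχ : wt X χ ≠ ⊥) : χ i ^ n = 1 := by
  obtain ⟨v, hv, hv'⟩ := exists_of_wt hχ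
  have h1 : ∀ k : ℕ, X i ^ k *ᵥ v = χ i ^ k • v := by
    intro k
    induction k with
    | zero => simp
    | succ k ih => rw [pow_succ, ← Matrix.mulVec_mulVec, hv', Matrix.mulVec_smul, ih, smul_smul, pow_succ, mul_comm]
  have h2 := h1 n
  rw [h, Matrix.one_mulVec] at h2
  have h3 : (χ i ^ n - 1) • v = 0 := by rw [sub_smul, one_smul, ← h2, sub_self]
  exact sub_eq_zero.1 ((smul_eq_zero.1 h3).resolve_right hv)

/-- equality of matrices can be tested on weights. -/
theorem eq_of_wt [IsAlgClosed K] (hcomm : ∀ i j, X i * X j = X j * X i)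
    (hord : ∀ i, ∃ n : ℕ, (n : K) ≠ 0 ∧ X i ^ n = 1) {i j : ι} (h : ∀ χ, wt X χ ≠ ⊥ → χ i = χ j) : X i = X j := by
  apply mE_injective
  have h1 : ∀ χ, wt X χ ≤ LinearMap.eqLocus (mE (X i)) (mE (X j)) := by
    intro χ v hv
    rw [LinearMap.mem_eqLocus, mE_apply, mE_apply, mem_wt.1 hv i, mem_wt.1 hv j]
    by_cases hb : wt X χ = ⊥
    · rw [hb, Submodule.mem_bot] at hv
      rw [hv, smul_zero, smul_zero]
    · rw [h χ hb]
  have h2 : (⊤ : Submodule K (I → K)) ≤ LinearMap.eqLocus (mE (X i)) (mE (X j)) := by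
    rw [← wt_sup hcomm hord]
    exact iSup_le h1
  apply LinearMap.ext
  intro v
  exact h2 (Submodule.mem_top (x := v))

end gen

section symp

variable {K : Type*} [Field K] [IsAlgClosed K] {m : ℕ} {ι : Type*} {X : ι → Matrix (Fin m ⊕ Fin m) (Fin m ⊕ Fin m) K}

/-- weights are closed under inverses. -/
theorem wt_inv_ne_bot (hX : ∀ i u v, sympForm m K (X i *ᵥ u) (X i *ᵥ v) = sympForm m K u v)
    (hcomm : ∀ i j, X i * X j = X j * X i) (hord : ∀ i, ∃ n : ℕ, (n : K) ≠ 0 ∧ X i ^ n = 1)
    {χ : ι → K} (h : wt X χ ≠ ⊥) : wt X (fun i => (χ i)⁻¹) ≠ ⊥ := by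
  obtain ⟨v, hv, hv'⟩ := exists_of_wt h
  intro hb
  apply hv
  apply eq_zero_of_forall_sympForm_right
  intro w
  have h1 : ∀ ψ, wt X ψ ≤ LinearMap.ker (sympBilin m K v) := by
    intro ψ w hw
    rw [LinearMap.mem_ker, sympBilin_apply]
    by_contra h0
    have h2 : ψ = fun i => (χ i)⁻¹ := by
      funext i
      have h3 := hX i v w
      rw [hv', mem_wt.1 hw, sympForm_smul_left, sympForm_smul_right] at h3
      have h4 : (χ i * ψ i) * sympForm m K v w = 1 * sympForm m K v w := by rw [one_mul, mul_assoc]; exact h3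
      have h5 := mul_right_cancel₀ h0 h4
      exact eq_inv_of_mul_eq_one_right h5
    rw [h2, hb, Submodule.mem_bot] at hw
    rw [hw, sympForm_zero_right] at h0
    exact h0 rfl
  have h2 : (⊤ : Submodule K (Fin m ⊕ Fin m → K)) ≤ LinearMap.ker (sympBilin m K v) := by
    rw [← wt_sup hcomm hord]
    exact iSup_le h1
  exact h2 (Submodule.mem_top (x := w))

end symp

section base

variable {F : Type*} [Field F] {m : ℕ}

/-- preservation of the form after extension of scalars. -/
theorem form_map {K : Type*} [Field K] (φ : F →+* K) {g : GL (Fin m ⊕ Fin m) F} (hg : g ∈ spGL m F)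
    (u v : Fin m ⊕ Fin m → K) :
    sympForm m K (((g : Matrix _ _ F).map φ) *ᵥ u) (((g : Matrix _ _ F).map φ) *ᵥ v) = sympForm m K u v := by
  have h1 : (g : Matrix _ _ F) ∈ Matrix.symplecticGroup (Fin m) F := mem_symplecticGroup_iff.2 fun u v => hg u v
  have h2 : (g : Matrix _ _ F).map φ ∈ Matrix.symplecticGroup (Fin m) K := by
    rw [SymplecticGroup.mem_iff] at h1 ⊢
    have h3 := congrArg (fun A : Matrix (Fin m ⊕ Fin m) (Fin m ⊕ Fin m) F => A.map φ) h1
    simp only [Matrix.map_mul, Matrix.map_J, Matrix.transpose_map] at h3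
    exact h3
  exact mem_symplecticGroup_iff.1 h2 u v

/-- **commuting elements of odd order permuted cyclically by some element are equal**, in dimension less than 6. -/
theorem rot_three (hm : m < 3) (x : Fin 3 → GL (Fin m ⊕ Fin m) F) (hx : ∀ i, x i ∈ spGL m F)
    (hcomm : ∀ i j, x i * x j = x j * x i) {n : ℕ} (hn : Odd n) (hnF : (n : F) ≠ 0) (hxn : ∀ i, x i ^ n = 1)
    (c : GL (Fin m ⊕ Fin m) F) (hc : ∀ i, c * x i * c⁻¹ = x (i + 1)) : x 0 = x 1 := by
  classical
  let K := AlgebraicClosure F
  let φ : F →+* K := algebraMap F K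
  let X : Fin 3 → Matrix (Fin m ⊕ Fin m) (Fin m ⊕ Fin m) K := fun i => (x i : Matrix _ _ F).map φ
  have hXdef : ∀ i, X i = (x i : Matrix _ _ F).map φ := fun _ => rfl
  have hXc : ∀ i j, X i * X j = X j * X i := by
    intro i j
    rw [hXdef, hXdef, ← Matrix.map_mul, ← Matrix.map_mul, ← Units.val_mul, ← Units.val_mul, hcomm]
  have hXn : ∀ i, X i ^ n = 1 := by
    intro i
    rw [hXdef, ← Matrix.map_pow, ← Units.val_pow_eq_pow_val, hxn, Units.val_one, Matrix.map_one _ (map_zero _) (map_one _)]
  have hnK : (n : K) ≠ 0 := by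
    intro h0
    apply hnF
    apply φ.injective
    rw [map_natCast, h0, map_zero]
  have hord : ∀ i, ∃ n : ℕ, (n : K) ≠ 0 ∧ X i ^ n = 1 := fun i => ⟨n, hnK, hXn i⟩
  have hXs : ∀ i u v, sympForm m K (X i *ᵥ u) (X i *ᵥ v) = sympForm m K u v := fun i u v => form_map φ (hx i) u v
  let C : Matrix (Fin m ⊕ Fin m) (Fin m ⊕ Fin m) K := (c : Matrix _ _ F).map φ
  let C' : Matrix (Fin m ⊕ Fin m) (Fin m ⊕ Fin m) K := ((c⁻¹ : GL (Fin m ⊕ Fin m) F) : Matrix _ _ F).map φ
  have hCC : C' * C = 1 := by
    show (((c⁻¹ : GL (Fin m ⊕ Fin m) F) : Matrix (Fin m ⊕ Fin m) (Fin m ⊕ Fin m) F).map φ) *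
      ((c : Matrix (Fin m ⊕ Fin m) (Fin m ⊕ Fin m) F).map φ) = 1
    rw [← Matrix.map_mul, ← Units.val_mul, inv_mul_cancel, Units.val_one, Matrix.map_one _ (map_zero _) (map_one _)]
  have hCX : ∀ i, X (i + 1) * C = C * X i := by
    intro i
    show ((x (i + 1) : Matrix (Fin m ⊕ Fin m) (Fin m ⊕ Fin m) F).map φ) * ((c : Matrix (Fin m ⊕ Fin m) (Fin m ⊕ Fin m) F).map φ) =
      ((c : Matrix (Fin m ⊕ Fin m) (Fin m ⊕ Fin m) F).map φ) * ((x i : Matrix (Fin m ⊕ Fin m) (Fin m ⊕ Fin m) F).map φ)
    rw [← Matrix.map_mul, ← Matrix.map_mul, ← Units.val_mul, ← Units.val_mul, ← hc, inv_mul_cancel_right]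
  -- rotation of weights
  have hrot : ∀ χ : Fin 3 → K, wt X χ ≠ ⊥ → wt X (fun i => χ (i - 1)) ≠ ⊥ := by
    intro χ h
    obtain ⟨v, hv, hv'⟩ := exists_of_wt h
    refine wt_ne_bot (v := C *ᵥ v) ?_ ?_
    · intro h0
      apply hv
      have h2 : C' *ᵥ (C *ᵥ v) = C' *ᵥ 0 := by rw [h0]
      rwa [Matrix.mulVec_mulVec, hCC, Matrix.one_mulVec, Matrix.mulVec_zero] at h2
    · intro i
      have h1 := hCX (i - 1)
      rw [sub_add_cancel] at h1
      have h2 : X i *ᵥ (C *ᵥ v) = C *ᵥ (X (i - 1) *ᵥ v) := by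
        rw [Matrix.mulVec_mulVec, Matrix.mulVec_mulVec, h1]
      rw [h2, hv', Matrix.mulVec_smul]
  -- the contradiction
  have hX01 : X 0 = X 1 := by
    apply eq_of_wt hXc hord
    intro χ hχ
    by_contra hne
    have hn0 : n ≠ 0 := by rintro rfl; simp at hnF
    have hodd : ∀ i, χ i ^ n = 1 := fun i => wt_pow (hXn i) hχ
    have hself : ∀ i, χ i = (χ i)⁻¹ → χ i = 1 := by
      intro i h2
      have h3 : χ i ≠ 0 := by
        intro h
        have := hodd i
        rw [h, zero_pow hn0] at this
        exact zero_ne_one this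
      have h4 : χ i * χ i = 1 := by
        nth_rewrite 2 [h2]
        exact mul_inv_cancel₀ h3
      have h1 := hodd i
      obtain ⟨k, hk⟩ := hn
      rw [hk, pow_add, pow_mul, pow_two, h4, one_pow, one_mul, pow_one] at h1
      exact h1
    -- constant functions
    have hconst : ∀ s : Fin 3, s ≠ 0 → ¬ ∀ j, χ (j + s) = χ j := by
      intro s hs h
      apply hne
      have hs' : s = 1 ∨ s = 2 := (by decide : ∀ s : Fin 3, s ≠ 0 → s = 1 ∨ s = 2) s hs
      rcases hs' with rfl | rfl
      · exact (h 0).symm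
      · exact h 1
    let f : Fin 2 × Fin 3 → Fin 3 → K := fun p i => if p.1 = 0 then χ (i - p.2) else (χ (i - p.2))⁻¹
    have hf0 : ∀ k : Fin 3, wt X (fun i => χ (i - k)) ≠ ⊥ := by
      intro k
      have h1 := hrot _ hχ
      have h2 := hrot _ h1
      have hk : k = 0 ∨ k = 1 ∨ k = 2 := by revert k; decide
      rcases hk with rfl | rfl | rfl
      · simpa using hχ
      · exact h1
      · have e : (fun i : Fin 3 => (fun i => χ (i - 1)) (i - 1)) = fun i => χ (i - 2) := by
          funext i
          have h3 : i - 1 - 1 = i - 2 := by revert i; decide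
          show χ (i - 1 - 1) = χ (i - 2)
          rw [h3]
        rw [← e]
        exact h2
    have hf : ∀ p, wt X (f p) ≠ ⊥ := by
      rintro ⟨e, k⟩
      by_cases he : e = 0
      · have : f (e, k) = fun i => χ (i - k) := by funext i; simp [f, he]
        rw [this]; exact hf0 k
      · have : f (e, k) = fun i => (χ (i - k))⁻¹ := by funext i; simp [f, he]
        rw [this]; exact wt_inv_ne_bot hXs hXc hord (hf0 k)
    have hinj : Function.Injective f := by
      rintro ⟨e, k⟩ ⟨e', k'⟩ hij
      have hval : ∀ i, f (e, k) i = f (e', k') i := fun i => congrFun hij i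
      have hshift : ∀ j k k' : Fin 3, j + k' - k = j + (k' - k) := by decide
      have hshift' : ∀ j k' : Fin 3, j + k' - k' = j := by decide
      by_cases he : e = 0 <;> by_cases he' : e' = 0
      · subst he; subst he'
        by_contra hne'
        have hk : k' - k ≠ 0 := by
          intro h0
          apply hne'
          have : k = k' := (by decide : ∀ k k' : Fin 3, k' - k = 0 → k = k') k k' h0
          rw [this]
        apply hconst _ hk
        intro j
        have := hval (j + k')
        simp only [f, if_true] at this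
        rwa [hshift, hshift'] at this
      · exfalso
        subst he
        have h1 : ∀ j, χ (j + (k' - k)) = (χ j)⁻¹ := by
          intro j
          have := hval (j + k')
          simp only [f, if_true, if_neg he'] at this
          rwa [hshift, hshift'] at this
        by_cases hk : k' - k = 0
        · rw [hk] at h1
          simp only [add_zero] at h1
          apply hne
          rw [hself 0 (h1 0), hself 1 (h1 1)]
        · have h2 : ∀ j, χ (j + ((k' - k) + (k' - k))) = χ j := by
            intro j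
            rw [← add_assoc, h1, h1, inv_inv]
          refine hconst _ ?_ h2
          revert hk
          generalize k' - k = s
          revert s
          decide
      · exfalso
        subst he'
        have h1 : ∀ j, (χ (j + (k' - k)))⁻¹ = χ j := by
          intro j
          have := hval (j + k')
          simp only [f, if_true, if_neg he] at this
          rwa [hshift, hshift'] at this
        have h1 : ∀ j, χ (j + (k' - k)) = (χ j)⁻¹ := fun j => by rw [← h1 j, inv_inv]
        by_cases hk : k' - k = 0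
        · rw [hk] at h1
          simp only [add_zero] at h1
          apply hne
          rw [hself 0 (h1 0), hself 1 (h1 1)]
        · have h2 : ∀ j, χ (j + ((k' - k) + (k' - k))) = χ j := by
            intro j
            rw [← add_assoc, h1, h1, inv_inv]
          refine hconst _ ?_ h2
          revert hk
          generalize k' - k = s
          revert s
          decide
      · have e1 : e = 1 := (by decide : ∀ e : Fin 2, ¬ e = 0 → e = 1) e he
        have e2 : e' = 1 := (by decide : ∀ e : Fin 2, ¬ e = 0 → e = 1) e' he'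
        subst e1; subst e2
        by_contra hne'
        have hk : k' - k ≠ 0 := by
          intro h0
          apply hne'
          have : k = k' := (by decide : ∀ k k' : Fin 3, k' - k = 0 → k = k') k k' h0
          rw [this]
        apply hconst _ hk
        intro j
        have := hval (j + k')
        simp only [f, if_neg he] at this
        rw [hshift, hshift'] at this
        exact inv_injective this
    have h6 := card_le_of_wt hXc hord f hinj hf
    rw [Fintype.card_prod, Fintype.card_fin, Fintype.card_fin, Fintype.card_sum, Fintype.card_fin] at h6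
    omega
  apply Units.ext
  apply Matrix.map_injective φ.injective
  exact hX01

/-- commuting elements of order prime to the characteristic permuted cyclically, `p` larger than the dimension. -/
theorem rot_big {p : ℕ} [hp : Fact p.Prime] (hm : 2 * m < p) (x : ZMod p → GL (Fin m ⊕ Fin m) F)
    (hcomm : ∀ i j, x i * x j = x j * x i) {n : ℕ} (hnF : (n : F) ≠ 0) (hxn : ∀ i, x i ^ n = 1)
    (c : GL (Fin m ⊕ Fin m) F) (hc : ∀ i, c * x i * c⁻¹ = x (i + 1)) : x 0 = x 1 := by
  classical
  let K := AlgebraicClosure F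
  let φ : F →+* K := algebraMap F K
  let X : ZMod p → Matrix (Fin m ⊕ Fin m) (Fin m ⊕ Fin m) K := fun i => (x i : Matrix _ _ F).map φ
  have hXdef : ∀ i, X i = (x i : Matrix _ _ F).map φ := fun _ => rfl
  have hXc : ∀ i j, X i * X j = X j * X i := by
    intro i j
    rw [hXdef, hXdef, ← Matrix.map_mul, ← Matrix.map_mul, ← Units.val_mul, ← Units.val_mul, hcomm]
  have hXn : ∀ i, X i ^ n = 1 := by
    intro i
    rw [hXdef, ← Matrix.map_pow, ← Units.val_pow_eq_pow_val, hxn, Units.val_one, Matrix.map_one _ (map_zero _) (map_one _)]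
  have hnK : (n : K) ≠ 0 := by
    intro h0
    apply hnF
    apply φ.injective
    rw [map_natCast, h0, map_zero]
  have hord : ∀ i, ∃ n : ℕ, (n : K) ≠ 0 ∧ X i ^ n = 1 := fun i => ⟨n, hnK, hXn i⟩
  let C : Matrix (Fin m ⊕ Fin m) (Fin m ⊕ Fin m) K := (c : Matrix _ _ F).map φ
  let C' : Matrix (Fin m ⊕ Fin m) (Fin m ⊕ Fin m) K := ((c⁻¹ : GL (Fin m ⊕ Fin m) F) : Matrix _ _ F).map φ
  have hCC : C' * C = 1 := by
    show (((c⁻¹ : GL (Fin m ⊕ Fin m) F) : Matrix (Fin m ⊕ Fin m) (Fin m ⊕ Fin m) F).map φ) *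
      ((c : Matrix (Fin m ⊕ Fin m) (Fin m ⊕ Fin m) F).map φ) = 1
    rw [← Matrix.map_mul, ← Units.val_mul, inv_mul_cancel, Units.val_one, Matrix.map_one _ (map_zero _) (map_one _)]
  have hCX : ∀ i, X (i + 1) * C = C * X i := by
    intro i
    show ((x (i + 1) : Matrix (Fin m ⊕ Fin m) (Fin m ⊕ Fin m) F).map φ) * ((c : Matrix (Fin m ⊕ Fin m) (Fin m ⊕ Fin m) F).map φ) =
      ((c : Matrix (Fin m ⊕ Fin m) (Fin m ⊕ Fin m) F).map φ) * ((x i : Matrix (Fin m ⊕ Fin m) (Fin m ⊕ Fin m) F).map φ)
    rw [← Matrix.map_mul, ← Matrix.map_mul, ← Units.val_mul, ← Units.val_mul, ← hc, inv_mul_cancel_right]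
  have hrot : ∀ χ : ZMod p → K, wt X χ ≠ ⊥ → wt X (fun i => χ (i - 1)) ≠ ⊥ := by
    intro χ h
    obtain ⟨v, hv, hv'⟩ := exists_of_wt h
    refine wt_ne_bot (v := C *ᵥ v) ?_ ?_
    · intro h0
      apply hv
      have h2 : C' *ᵥ (C *ᵥ v) = C' *ᵥ 0 := by rw [h0]
      rwa [Matrix.mulVec_mulVec, hCC, Matrix.one_mulVec, Matrix.mulVec_zero] at h2
    · intro i
      have h1 := hCX (i - 1)
      rw [sub_add_cancel] at h1
      have h2 : X i *ᵥ (C *ᵥ v) = C *ᵥ (X (i - 1) *ᵥ v) := by
        rw [Matrix.mulVec_mulVec, Matrix.mulVec_mulVec, h1]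
      rw [h2, hv', Matrix.mulVec_smul]
  have hX01 : X 0 = X 1 := by
    apply eq_of_wt hXc hord
    intro χ hχ
    by_contra hne
    have hrotn : ∀ k : ℕ, wt X (fun i => χ (i - (k : ZMod p))) ≠ ⊥ := by
      intro k
      induction k with
      | zero => simpa using hχ
      | succ k ih =>
        have h1 := hrot _ ih
        have e : (fun i : ZMod p => (fun i => χ (i - (k : ZMod p))) (i - 1)) = fun i => χ (i - ((k + 1 : ℕ) : ZMod p)) := by
          funext i
          show χ (i - 1 - (k : ZMod p)) = _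
          congr 1
          push_cast
          ring
        rwa [e] at h1
    let f : ZMod p → ZMod p → K := fun k i => χ (i - k)
    have hf : ∀ k, wt X (f k) ≠ ⊥ := by
      intro k
      have h1 := hrotn k.val
      rw [ZMod.natCast_zmod_val] at h1
      exact h1
    have hinj : Function.Injective f := by
      intro k k' hk
      by_contra hne'
      apply hne
      have h1 : ∀ j, χ (j + (k' - k)) = χ j := by
        intro j
        have := congrFun hk (j + k')
        simp only [f, add_sub_cancel_right] at this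
        rw [← this]
        congr 1
        ring
      have h2 : ∀ (s : ℕ) j, χ (j + (s : ZMod p) * (k' - k)) = χ j := by
        intro s
        induction s with
        | zero => intro j; simp
        | succ s ih =>
          intro j
          have : j + ((s + 1 : ℕ) : ZMod p) * (k' - k) = (j + (k' - k)) + (s : ZMod p) * (k' - k) := by
            push_cast; ring
          rw [this, ih, h1]
      have h3 : k' - k ≠ 0 := by
        intro h0
        apply hne'
        rw [sub_eq_zero.1 h0]
      have h4 := h2 ((k' - k)⁻¹).val 0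
      rw [ZMod.natCast_zmod_val, inv_mul_cancel₀ h3, zero_add] at h4
      exact h4.symm
    have h6 := card_le_of_wt hXc hord f hinj hf
    rw [ZMod.card, Fintype.card_sum, Fintype.card_fin] at h6
    omega
  apply Units.ext
  apply Matrix.map_injective φ.injective
  exact hX01

end base

end Cfsg.Agent.H910
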