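import Cfsg.Agent.H910.Transv

/-!
The stabiliser of a decomposition into two orthogonal non-degenerate subspaces of equal dimension is maximal in
`Sp_{2m}(F)` (any `m`, any field) (helper910).
-/

set_option autoImplicit false
open Cfsg
open scoped Matrix MatrixGroups

namespace Cfsg.Agent.H910

open Cfsg.Agent.ClassicalGeometry.SympBasic Cfsg.Agent.H876 Cfsg.Agent.S5652

variable {F : Type*} [Field F] {m : ℕ}

local notation "MM" => Matrix (Fin m ⊕ Fin m) (Fin m ⊕ Fin m) F

/-- a subspace contained in the union of two subspaces is contained in one of them. -/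
theorem le_or_le_of_union {V : Type*} [AddCommGroup V] [Module F V] {X A B : Submodule F V}
    (h : ∀ x ∈ X, x ∈ A ∨ x ∈ B) : X ≤ A ∨ X ≤ B := by
  by_contra hcon
  rw [not_or] at hcon
  obtain ⟨hA, hB⟩ := hcon
  rw [SetLike.not_le_iff_exists] at hA hB
  obtain ⟨a, haX, haA⟩ := hA
  obtain ⟨b, hbX, hbB⟩ := hB
  have haB : a ∈ B := (h a haX).resolve_left haA
  have hbA : b ∈ A := (h b hbX).resolve_right hbB
  rcases h (a + b) (X.add_mem haX hbX) with h1 | h1
  · exact haA (by simpa using A.sub_mem h1 hbA)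
  · exact hbB (by simpa using B.sub_mem h1 haB)

/-- moving one component of a vector inside a non-degenerate subspace. -/
theorem UU.move {M : Subgroup (GL (Fin m ⊕ Fin m) F)} {D : Submodule F (Fin m ⊕ Fin m → F)}
    (hDn : Cfsg.Geo.IsNondegenerateOn (sympForm m F) D) (hD : ∀ v ∈ D, UU M v)
    {x y z : Fin m ⊕ Fin m → F} (hx : x ∈ D) (hx0 : x ≠ 0) (hy : y ∈ D) (hy0 : y ≠ 0)
    (hz : ∀ d ∈ D, sympForm m F z d = 0) (hU : UU M (x + z)) : UU M (y + z) := by
  -- one step
  have step : ∀ a b, a ∈ D → b ∈ D → sympForm m F a b ≠ 0 → UU M (a + z) → UU M (b + z) := by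
    intro a b ha hb hab h
    have h1 := h.map (hD (b - a) (D.sub_mem hb ha) (sympForm m F a b)⁻¹) (tGL_mem _ _)
    rw [tGL_mulVec, sympForm_add_left, hz _ (D.sub_mem hb ha), add_zero, sympForm_sub_right, sympForm_self,
      sub_zero, inv_mul_cancel₀ hab, one_smul] at h1
    have h2 : a + z + (b - a) = b + z := by abel
    rwa [h2] at h1
  -- a common non-orthogonal vector
  obtain ⟨w, hw, h1, h2⟩ : ∃ w ∈ D, sympForm m F x w ≠ 0 ∧ sympForm m F y w ≠ 0 := by
    obtain ⟨-, a, ha, hxa⟩ := hDn x hx hx0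
    obtain ⟨-, b, hb, hyb⟩ := hDn y hy hy0
    by_cases ha' : sympForm m F y a = 0
    · by_cases hb' : sympForm m F x b = 0
      · refine ⟨a + b, D.add_mem ha hb, ?_, ?_⟩
        · rwa [sympForm_add_right, hb', add_zero]
        · rwa [sympForm_add_right, ha', zero_add]
      · exact ⟨b, hb, hb', hyb⟩
    · exact ⟨a, ha, hxa, ha'⟩
  refine step w y hw hy ?_ (step x w hx hw h1 hU)
  rw [sympForm_swap]; exact neg_ne_zero.2 h2

theorem decomp_maximal {k : ℕ} (D : Fin 2 → Submodule F (Fin m ⊕ Fin m → F))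
    (hD : Cfsg.Geo.IsNondegenerateMDecomposition (Cfsg.sympForm m F) k D) :
    Cfsg.Geo.IsMaximalIn (Cfsg.spGL m F) (Cfsg.Geo.decompositionStabilizer D ⊓ Cfsg.spGL m F) := by
  classical
  have hsup : D 0 ⊔ D 1 = ⊤ := by
    rw [← hD.decomp.iSup_eq_top]
    apply le_antisymm
    · exact sup_le (le_iSup D 0) (le_iSup D 1)
    · refine iSup_le fun i => ?_
      fin_cases i
      · exact le_sup_left
      · exact le_sup_right
  have horth : ∀ u ∈ D 0, ∀ v ∈ D 1, sympForm m F u v = 0 := hD.orthogonal 0 1 (by decide)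
  have horth' : ∀ u ∈ D 1, ∀ v ∈ D 0, sympForm m F u v = 0 := hD.orthogonal 1 0 (by decide)
  have hpos := hD.decomp.pos
  have hfr := hD.decomp.finrank_eq
  have hne : ∀ i, D i ≠ ⊥ := by
    intro i h
    have := hfr i
    rw [h, finrank_bot] at this
    omega
  have hinf : ∀ x, x ∈ D 0 → x ∈ D 1 → x = 0 := by
    intro x h0 h1
    by_contra hx
    obtain ⟨-, y, hy, hxy⟩ := hD.nondegenerate 0 x h0 hx
    exact hxy (horth' x h1 y hy)
  -- transvections with centre in a member
  have hT : ∀ i, ∀ v ∈ D i, ∀ c, tGL v c ∈ Cfsg.Geo.decompositionStabilizer D ⊓ Cfsg.spGL m F := by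
    intro i v hv c
    refine ⟨⟨1, fun j => ?_⟩, tGL_mem _ _⟩
    rw [Equiv.Perm.one_apply]
    have hle : (D j).map (Matrix.toLin' (tGL v c : MM)) ≤ D j := by
      rintro _ ⟨x, hx, rfl⟩
      rw [Matrix.toLin'_apply, tGL_mulVec]
      by_cases hij : j = i
      · subst hij
        exact (D j).add_mem hx ((D j).smul_mem _ hv)
      · rw [hD.orthogonal j i hij x hx v hv, mul_zero, zero_smul, add_zero]
        exact hx
    have hinj : Function.Injective (Matrix.toLin' (tGL v c : MM)) := by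
      intro a b hab
      rw [Matrix.toLin'_apply, Matrix.toLin'_apply] at hab
      have := congrArg (fun x => (((tGL v c)⁻¹ : GL _ F) : MM) *ᵥ x) hab
      simpa only [inv_mulVec_cancel] using this
    exact Submodule.eq_of_le_of_finrank_eq hle (Submodule.equivMapOfInjective _ hinj (D j)).finrank_eq.symm
  -- elements mapping both members into members
  have hmap : ∀ g : GL (Fin m ⊕ Fin m) F, (∀ i, (D i).map (Matrix.toLin' (g : MM)) ≤ D 0 ∨
      (D i).map (Matrix.toLin' (g : MM)) ≤ D 1) → g ∈ Cfsg.Geo.decompositionStabilizer D := by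
    intro g hg
    have hinj : Function.Injective (Matrix.toLin' (g : MM)) := by
      intro a b hab
      rw [Matrix.toLin'_apply, Matrix.toLin'_apply] at hab
      have := congrArg (fun x => ((g⁻¹ : GL _ F) : MM) *ᵥ x) hab
      simpa only [inv_mulVec_cancel] using this
    have hfm : ∀ i, Module.finrank F ((D i).map (Matrix.toLin' (g : MM))) = k := by
      intro i
      rw [← hfr i]
      exact (Submodule.equivMapOfInjective _ hinj (D i)).finrank_eq.symm
    have heq : ∀ i j, (D i).map (Matrix.toLin' (g : MM)) ≤ D j →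
        (D i).map (Matrix.toLin' (g : MM)) = D j := by
      intro i j h
      exact Submodule.eq_of_le_of_finrank_eq h ((hfm i).trans (hfr j).symm)
    have hg' : ∀ i, ∃ j, (D i).map (Matrix.toLin' (g : MM)) = D j := by
      intro i
      rcases hg i with h | h
      · exact ⟨0, heq i 0 h⟩
      · exact ⟨1, heq i 1 h⟩
    choose s hs using hg'
    have hDinj : Function.Injective D := by
      intro i j hij
      by_contra hne'
      obtain ⟨x, hx, hx0⟩ := (D i).ne_bot_iff.1 (hne i)
      obtain ⟨-, y, hy, hxy⟩ := hD.nondegenerate i x hx hx0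
      rw [hij] at hy
      exact hxy (hD.orthogonal i j hne' x hx y hy)
    have hsinj : Function.Injective s := by
      intro i j hij
      have h1 : (D i).map (Matrix.toLin' (g : MM)) = (D j).map (Matrix.toLin' (g : MM)) := by
        rw [hs, hs, hij]
      exact hDinj (Submodule.map_injective_of_injective hinj h1)
    exact ⟨Equiv.ofBijective s ((Finite.injective_iff_bijective).1 hsinj), hs⟩
  refine ⟨?_, ?_⟩
  · rw [lt_iff_le_and_ne]
    refine ⟨inf_le_right, fun heq => ?_⟩
    obtain ⟨x0, hx0, hx0'⟩ := (D 0).ne_bot_iff.1 (hne 0)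
    obtain ⟨x1, hx1, hx1'⟩ := (D 1).ne_bot_iff.1 (hne 1)
    obtain ⟨-, y, hy, hxy⟩ := hD.nondegenerate 0 x0 hx0 hx0'
    have h1 : tGL (x0 + x1) 1 ∈ Cfsg.Geo.decompositionStabilizer D ⊓ Cfsg.spGL m F := by
      rw [heq]; exact tGL_mem _ 1
    obtain ⟨σ, hσ⟩ := h1.1
    have h2 : ((tGL (x0 + x1) 1 : GL _ F) : MM) *ᵥ y ∈ D (σ 0) := by
      rw [← hσ]
      exact ⟨y, hy, by rw [Matrix.toLin'_apply]⟩
    have hyx : sympForm m F y x0 ≠ 0 := by rw [sympForm_swap]; exact neg_ne_zero.2 hxy
    rw [tGL_mulVec, sympForm_add_right, horth y hy x1 hx1, add_zero, one_mul] at h2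
    set c := sympForm m F y x0 with hc
    have h3 : σ 0 = 0 ∨ σ 0 = 1 := by
      have : ∀ i : Fin 2, i = 0 ∨ i = 1 := by decide
      exact this _
    rcases h3 with h3 | h3
    · rw [h3] at h2
      have h4 : c • x1 ∈ D 0 := by
        have h5 := (D 0).sub_mem ((D 0).sub_mem h2 hy) ((D 0).smul_mem c hx0)
        have h6 : y + c • (x0 + x1) - y - c • x0 = c • x1 := by rw [smul_add]; abel
        rwa [h6] at h5
      have h5 : x1 ∈ D 0 := by
        have := (D 0).smul_mem c⁻¹ h4
        rwa [smul_smul, inv_mul_cancel₀ hyx, one_smul] at this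
      exact hx1' (hinf x1 h5 hx1)
    · rw [h3] at h2
      have h4 : y + c • x0 ∈ D 1 := by
        have h5 := (D 1).sub_mem h2 ((D 1).smul_mem c hx1)
        have h6 : y + c • (x0 + x1) - c • x1 = y + c • x0 := by rw [smul_add]; abel
        rwa [h6] at h5
      have h5 : y + c • x0 = 0 := hinf _ ((D 0).add_mem hy ((D 0).smul_mem c hx0)) h4
      have h6 : sympForm m F (y + c • x0) x0 = 0 := by rw [h5, sympForm_zero_left]
      rw [sympForm_add_left, sympForm_smul_left, sympForm_self, mul_zero, add_zero] at h6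
      exact hyx h6
  · intro M hHM hMK
    by_cases hM : M = Cfsg.Geo.decompositionStabilizer D ⊓ Cfsg.spGL m F
    · exact Or.inl hM
    right
    obtain ⟨g, hgM, hgn⟩ : ∃ h ∈ M, h ∉ Cfsg.Geo.decompositionStabilizer D ⊓ Cfsg.spGL m F := by
      by_contra hcon
      push Not at hcon
      exact hM (le_antisymm hcon hHM)
    have hgS : g ∈ spGL m F := hMK hgM
    have hUD : ∀ i, ∀ v ∈ D i, UU M v := fun i v hv c => hHM (hT i v hv c)
    obtain ⟨u, hu, hu0, hu1⟩ : ∃ u, UU M u ∧ u ∉ D 0 ∧ u ∉ D 1 := by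
      by_contra hcon
      push Not at hcon
      refine hgn ⟨hmap g fun i => le_or_le_of_union fun x hx => ?_, hgS⟩
      obtain ⟨x', hx', rfl⟩ := hx
      rw [Matrix.toLin'_apply]
      by_cases h0 : (g : MM) *ᵥ x' ∈ D 0
      · exact Or.inl h0
      · exact Or.inr (hcon _ ((hUD i x' hx').map hgM hgS) h0)
    have hdec : ∀ v, ∃ a ∈ D 0, ∃ b ∈ D 1, a + b = v := by
      intro v
      have : v ∈ D 0 ⊔ D 1 := by rw [hsup]; trivial
      exact Submodule.mem_sup.1 this
    obtain ⟨a, ha, b, hb, hab⟩ := hdec u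
    have ha0 : a ≠ 0 := by
      rintro rfl
      rw [zero_add] at hab
      exact hu1 (hab ▸ hb)
    have hb0 : b ≠ 0 := by
      rintro rfl
      rw [add_zero] at hab
      exact hu0 (hab ▸ ha)
    refine le_antisymm hMK (spGL_le_of_UU fun v => ?_)
    obtain ⟨a', ha', b', hb', hab'⟩ := hdec v
    rw [← hab']
    by_cases ha'0 : a' = 0
    · rw [ha'0, zero_add]; exact hUD 1 b' hb'
    by_cases hb'0 : b' = 0
    · rw [hb'0, add_zero]; exact hUD 0 a' ha'
    have h1 : UU M (a' + b) :=
      UU.move (hD.nondegenerate 0) (hUD 0) ha ha0 ha' ha'0 (fun d hd => horth' b hb d hd) (by rw [hab]; exact hu)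
    rw [add_comm] at h1
    have h2 : UU M (b' + a') :=
      UU.move (hD.nondegenerate 1) (hUD 1) hb hb0 hb' hb'0 (fun d hd => horth a' ha' d hd) h1
    rwa [add_comm] at h2

end Cfsg.Agent.H910
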