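import Cfsg.Agent.H910.OddAb
import Cfsg.Agent.SporadicB.J1.Main

/-!
Simple groups which are not subgroups of `Sp_4(q)`, `q` even (helper910): `J₁`, `A₇`, `L₃(2^a)`, `U₃(2^a)`, `L₂(r)` for `r` odd
and not in `{3, 5, 9}`. The tool is `rot3`: elements of order 3 act trivially on abelian subgroups of odd order.
-/

set_option autoImplicit false
open Cfsg
open scoped Matrix MatrixGroups

namespace Cfsg.Agent.H910

open Cfsg.Agent.ClassicalGeometry.SympBasic Cfsg.Agent.H876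

section elim

variable {F : Type*} [Field F] [CharP F 2] {G : Type*} [Group G] {f : G →* GL (Fin 2 ⊕ Fin 2) F}

theorem odd_ne_zero {n : ℕ} (h : Odd n) : (n : F) ≠ 0 := by
  rw [Ne, CharP.cast_eq_zero_iff F 2]
  intro h'
  rw [Nat.odd_iff] at h
  omega

theorem rot3 (hf : Function.Injective f) (hfs : ∀ g, f g ∈ spGL 2 F) (x : Fin 3 → G)
    (hcomm : ∀ i j, x i * x j = x j * x i) {n : ℕ} (hn : Odd n) (hxn : ∀ i, x i ^ n = 1) (c : G)
    (hc : ∀ i, c * x i * c⁻¹ = x (i + 1)) : x 0 = x 1 := by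
  apply hf
  refine rot_three (m := 2) (by norm_num) (fun i => f (x i)) (fun i => hfs _) ?_ hn (odd_ne_zero hn) ?_ (f c) ?_
  · intro i j
    rw [← map_mul, ← map_mul, hcomm]
  · intro i
    rw [← map_pow, hxn, map_one]
  · intro i
    rw [← map_inv, ← map_mul, ← map_mul, hc]

/-- no `7 : 3`. -/
theorem no_seven (hf : Function.Injective f) (hfs : ∀ g, f g ∈ spGL 2 F) {a b : G} (ha : a ^ 7 = 1)
    (hb : b * a * b⁻¹ = a ^ 2) : a = 1 := by
  have hk : ∀ k : ℕ, b * a ^ k * b⁻¹ = a ^ (2 * k) := by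
    intro k
    rw [← conj_pow, hb, ← pow_mul]
  have h1 := rot3 hf hfs ![a, a ^ 2, a ^ 4] (by
    intro i j
    fin_cases i <;> fin_cases j <;> simp [← pow_add, ← pow_succ, ← pow_succ', pow_mul_comm, pow_mul_comm']) (n := 7)
    (by decide) (by
    intro i
    fin_cases i
    · exact ha
    · show (a ^ 2) ^ 7 = 1
      rw [← pow_mul, mul_comm, pow_mul, ha, one_pow]
    · show (a ^ 4) ^ 7 = 1
      rw [← pow_mul, mul_comm, pow_mul, ha, one_pow]) b (by
    intro i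
    fin_cases i
    · exact hb
    · exact hk 2
    · show b * a ^ 4 * b⁻¹ = a
      rw [hk, show 2 * 4 = 7 + 1 by rfl, pow_add, ha, one_mul, pow_one])
  have h2 : a = a ^ 2 := h1
  have h3 : a * 1 = a * a := by rw [mul_one, ← pow_two]; exact h2
  exact (mul_left_cancel h3).symm

end elim

section groups

variable {F : Type*} [Field F] [CharP F 2] {G : Type*} [Group G] {f : G →* GL (Fin 2 ⊕ Fin 2) F}

/-- transport along an isomorphism. -/
theorem no_seven_of {H : Type*} [Group H] (h : ∃ a b : H, a ^ 7 = 1 ∧ b * a * b⁻¹ = a ^ 2 ∧ a ≠ 1)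
    (hf : Function.Injective f) (hfs : ∀ g, f g ∈ spGL 2 F) (e : G ≃* H) : False := by
  obtain ⟨a, b, h1, h2, h3⟩ := h
  apply h3
  have h4 := no_seven hf hfs (a := e.symm a) (b := e.symm b) (by rw [← map_pow, h1, map_one])
    (by rw [← map_inv, ← map_mul, ← map_mul, ← map_pow, h2])
  rw [← e.apply_symm_apply a, h4, map_one]

section j1

open Cfsg.Agent.SporadicB.J1.Main in
theorem seven_j1 : ∃ a b : Cfsg.Spor.J1, a ^ 7 = 1 ∧ b * a * b⁻¹ = a ^ 2 ∧ a ≠ 1 := by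
  refine ⟨X, ev [1, 0, 1, 2, 3, 3, 2, 3, 2, 3, 0, 1, 1, 0, 1], ?_, ?_, ?_⟩
  · exact (repX.pow 7).eq Rep.one (by decide +kernel)
  · rw [mul_inv_eq_iff_eq_mul]
    exact ((rep_ev _).mul repX).eq ((repX.pow 2).mul (rep_ev _)) (by decide +kernel)
  · exact repX.ne Rep.one (by decide +kernel)

end j1

section a7

/-- a seven-cycle. -/
def sevA : Equiv.Perm (Fin 7) := ⟨![1, 2, 3, 4, 5, 6, 0], ![6, 0, 1, 2, 3, 4, 5], by decide, by decide⟩
/-- doubling. -/
def sevB : Equiv.Perm (Fin 7) := ⟨![0, 2, 4, 6, 1, 3, 5], ![0, 4, 1, 5, 2, 6, 3], by decide, by decide⟩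

theorem seven_a7 : ∃ a b : alternatingGroup (Fin 7), a ^ 7 = 1 ∧ b * a * b⁻¹ = a ^ 2 ∧ a ≠ 1 := by
  refine ⟨⟨sevA, ?_⟩, ⟨sevB, ?_⟩, ?_, ?_, ?_⟩
  · rw [Equiv.Perm.mem_alternatingGroup]; decide
  · rw [Equiv.Perm.mem_alternatingGroup]; decide
  · apply Subtype.ext
    show sevA ^ 7 = 1
    decide
  · apply Subtype.ext
    show sevB * sevA * sevB⁻¹ = sevA ^ 2
    decide
  · intro h
    have h1 : sevA = 1 := congrArg Subtype.val h
    revert h1
    decide

end a7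

section l3

/-- multiplication by a generator of `F_8`. -/
def l3A : Matrix.SpecialLinearGroup (Fin 3) (ZMod 2) := ⟨!![0, 0, 1; 1, 0, 1; 0, 1, 0], by decide⟩
/-- Frobenius of `F_8`. -/
def l3B : Matrix.SpecialLinearGroup (Fin 3) (ZMod 2) := ⟨!![1, 0, 0; 0, 0, 1; 0, 1, 1], by decide⟩

theorem seven_l3 (A : Type*) [Field A] [CharP A 2] :
    ∃ a b : Matrix.ProjectiveSpecialLinearGroup (Fin 3) A, a ^ 7 = 1 ∧ b * a * b⁻¹ = a ^ 2 ∧ a ≠ 1 := by
  classical
  let φ : ZMod 2 →+* A := ZMod.castHom (dvd_refl 2) A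
  let ψ := Matrix.SpecialLinearGroup.map (n := Fin 3) φ
  have h7 : l3A ^ 7 = 1 := by decide +kernel
  have hc : l3B * l3A * l3B⁻¹ = l3A ^ 2 := by
    rw [mul_inv_eq_iff_eq_mul]
    decide +kernel
  refine ⟨(QuotientGroup.mk (ψ l3A)), QuotientGroup.mk (ψ l3B), ?_, ?_, ?_⟩
  · rw [← QuotientGroup.mk_pow, ← map_pow, h7, map_one]; rfl
  · rw [← QuotientGroup.mk_inv, ← QuotientGroup.mk_mul, ← QuotientGroup.mk_mul, ← map_inv, ← map_mul, ← map_mul, hc,
      map_pow, QuotientGroup.mk_pow]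
  · intro h
    rw [QuotientGroup.eq_one_iff, Subgroup.mem_center_iff] at h
    have h1 := h (ψ l3B)
    rw [← map_mul, ← map_mul] at h1
    have h2 := congrArg (fun M : Matrix.SpecialLinearGroup (Fin 3) A => (M : Matrix (Fin 3) (Fin 3) A) 0 1) h1
    have e1 : ((ψ (l3B * l3A) : Matrix.SpecialLinearGroup (Fin 3) A) : Matrix (Fin 3) (Fin 3) A) 0 1 =
        φ ((l3B * l3A : Matrix.SpecialLinearGroup (Fin 3) (ZMod 2)).1 0 1) := rfl
    have e2 : ((ψ (l3A * l3B) : Matrix.SpecialLinearGroup (Fin 3) A) : Matrix (Fin 3) (Fin 3) A) 0 1 =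
        φ ((l3A * l3B : Matrix.SpecialLinearGroup (Fin 3) (ZMod 2)).1 0 1) := rfl
    have h3 := φ.injective (e1.symm.trans (h2.trans e2))
    revert h3
    decide +kernel

end l3

end groups

end Cfsg.Agent.H910
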