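import Cfsg.Agent.H910.Unip

/-!
`SL₂(K)`, `K` finite of characteristic 2, in `Sp_4(F)`: an irreducible image preserves a quadratic form (helper910).
-/

set_option autoImplicit false
set_option linter.unusedSectionVars false
open Cfsg
open scoped Matrix MatrixGroups

namespace Cfsg.Agent.H910

open Cfsg.Agent.ClassicalGeometry.SympBasic Cfsg.Agent.H876 Cfsg.Agent.S5652

section sl2

variable {K : Type*} [Field K] [CharP K 2]

local notation "SL2" => Matrix.SpecialLinearGroup (Fin 2) K

/-- root elements. -/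
def sT (t : K) : SL2 := ⟨!![1, t; 0, 1], by simp⟩
/-- the Weyl element. -/
def wT (K : Type*) [Field K] [CharP K 2] : Matrix.SpecialLinearGroup (Fin 2) K := ⟨!![0, 1; 1, 0], by simp [CharTwo.neg_eq]⟩
/-- torus elements. -/
def xT (a : Kˣ) : SL2 := ⟨!![(a : K), 0; 0, ((a⁻¹ : Kˣ) : K)], by simp⟩

theorem coe_sT (t : K) : (sT t).1 = !![1, t; 0, 1] := rfl
theorem coe_wT : (wT K).1 = !![0, 1; 1, 0] := rfl
theorem coe_xT (a : Kˣ) : (xT a).1 = !![(a : K), 0; 0, ((a⁻¹ : Kˣ) : K)] := rfl

theorem sT_add (t u : K) : sT t * sT u = sT (t + u) := by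
  apply Subtype.ext
  rw [Matrix.SpecialLinearGroup.coe_mul, coe_sT, coe_sT, coe_sT, Matrix.mul_fin_two]
  simp [add_comm]

theorem sT_zero : sT (0 : K) = 1 := by
  apply Subtype.ext
  rw [coe_sT, Matrix.SpecialLinearGroup.coe_one, Matrix.one_fin_two]

theorem wT_sq : wT K * wT K = 1 := by
  apply Subtype.ext
  rw [Matrix.SpecialLinearGroup.coe_mul, coe_wT, Matrix.mul_fin_two, Matrix.SpecialLinearGroup.coe_one, Matrix.one_fin_two]
  simp

theorem xT_one : xT (1 : Kˣ) = 1 := by
  apply Subtype.ext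
  rw [coe_xT, Matrix.SpecialLinearGroup.coe_one, Matrix.one_fin_two]
  simp

theorem xT_mul (a b : Kˣ) : xT a * xT b = xT (a * b) := by
  apply Subtype.ext
  rw [Matrix.SpecialLinearGroup.coe_mul, coe_xT, coe_xT, coe_xT, Matrix.mul_fin_two]
  simp [mul_comm]

theorem xT_sT (a : Kˣ) (t : K) : xT a * sT t = sT ((a : K) ^ 2 * t) * xT a := by
  apply Subtype.ext
  rw [Matrix.SpecialLinearGroup.coe_mul, Matrix.SpecialLinearGroup.coe_mul, coe_xT, coe_sT, coe_sT, Matrix.mul_fin_two,
    Matrix.mul_fin_two]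
  have : (a : K) ^ 2 * t * (a : K)⁻¹ = a * t := by field_simp
  simp [this]

theorem sT_xT (a : Kˣ) (t : K) : sT t * xT a = xT a * sT (((a⁻¹ : Kˣ) : K) ^ 2 * t) := by
  rw [xT_sT]
  congr 2
  simp

theorem xT_wT (a : Kˣ) : xT a * wT K = wT K * xT a⁻¹ := by
  apply Subtype.ext
  rw [Matrix.SpecialLinearGroup.coe_mul, Matrix.SpecialLinearGroup.coe_mul, coe_xT, coe_xT, coe_wT, Matrix.mul_fin_two,
    Matrix.mul_fin_two]
  simp

/-- the main relation. -/
theorem xT_rel (a : Kˣ) : xT a * wT K = sT (a : K) * (wT K * (sT ((a⁻¹ : Kˣ) : K) * (wT K * sT (a : K)))) := by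
  have h2' : (1 : K) + 1 = 0 := CharTwo.add_self_eq_zero 1
  apply Subtype.ext
  simp only [Matrix.SpecialLinearGroup.coe_mul, coe_xT, coe_sT, coe_wT, Matrix.mul_fin_two]
  simp [h2', CharTwo.add_self_eq_zero]

theorem sl2_induction {p : SL2 → Prop} (hs : ∀ t, p (sT t)) (hw : p (wT K)) (hmul : ∀ a b, p a → p b → p (a * b)) (g : SL2) :
    p g := by
  have h1 : ∀ g : SL2, g.1 1 0 ≠ 0 → p g := by
    intro g hg
    have hdet := g.2
    rw [Matrix.det_fin_two, CharTwo.sub_eq_add] at hdet
    have h2' : (2 : K) = 0 := CharTwo.two_eq_zero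
    have e : g = sT (g.1 0 0 / g.1 1 0) * (xT (Units.mk0 _ hg)⁻¹ * wT K) * sT (g.1 1 1 / g.1 1 0) := by
      apply Subtype.ext
      simp only [Matrix.SpecialLinearGroup.coe_mul, coe_xT, coe_sT, coe_wT, Matrix.mul_fin_two]
      ext i j
      fin_cases i <;> fin_cases j <;> simp
      · field_simp
      · field_simp
        linear_combination -hdet + (g.1 0 1 * g.1 1 0 - 1) * h2'
      · field_simp
    rw [e, xT_rel]
    exact hmul _ _ (hmul _ _ (hs _) (hmul _ _ (hs _) (hmul _ _ hw (hmul _ _ (hs _) (hmul _ _ hw (hs _)))))) (hs _)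
  by_cases hg : g.1 1 0 = 0
  · have h2 : p (wT K * g) := by
      apply h1
      have hdet := g.2
      rw [Matrix.det_fin_two, hg, mul_zero, sub_zero] at hdet
      have : (wT K * g).1 1 0 = g.1 0 0 := by
        rw [Matrix.SpecialLinearGroup.coe_mul, coe_wT, Matrix.mul_apply, Fin.sum_univ_two]
        simp
      rw [this]
      intro h0
      rw [h0, zero_mul] at hdet
      exact zero_ne_one hdet
    have e : g = wT K * (wT K * g) := by
      rw [← mul_assoc, wT_sq, one_mul]
    rw [e]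
    exact hmul _ _ hw h2
  · exact h1 g hg

end sl2


section action

variable {F : Type*} [Field F] [CharP F 2] {G : Type*} [Group G]

local notation "I4" => Fin 2 ⊕ Fin 2
local notation "V4" => Fin 2 ⊕ Fin 2 → F
local notation "M4" => Matrix (Fin 2 ⊕ Fin 2) (Fin 2 ⊕ Fin 2) F

/-- the action. -/
def ac (f : G →* GL I4 F) (g : G) (v : V4) : V4 := (f g : M4) *ᵥ v

variable (f : G →* GL I4 F)

theorem ac_mul (g h : G) (v : V4) : ac f (g * h) v = ac f g (ac f h v) := by
  rw [ac, map_mul, mul_mulVec]; rfl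

theorem ac_one (v : V4) : ac f 1 v = v := by
  rw [ac, map_one, Units.val_one, Matrix.one_mulVec]

theorem ac_add (g : G) (v w : V4) : ac f g (v + w) = ac f g v + ac f g w := Matrix.mulVec_add _ _ _

theorem ac_sub (g : G) (v w : V4) : ac f g (v - w) = ac f g v - ac f g w := Matrix.mulVec_sub _ _ _

theorem ac_smul (g : G) (c : F) (v : V4) : ac f g (c • v) = c • ac f g v := Matrix.mulVec_smul _ _ _

theorem ac_zero (g : G) : ac f g (0 : V4) = 0 := Matrix.mulVec_zero _

variable {f}

theorem ac_form (hfs : ∀ g, f g ∈ spGL 2 F) (g : G) (x y : V4) :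
    sympForm 2 F (ac f g x) (ac f g y) = sympForm 2 F x y := sp_form (hfs g) x y

theorem form_comm (x y : V4) : sympForm 2 F x y = sympForm 2 F y x := by
  rw [sympForm_swap, CharTwo.neg_eq]

end action

section caseB

variable {F : Type*} [Field F] [Finite F] [CharP F 2] {K : Type*} [Field K] [Finite K] [CharP K 2]

local notation "I4" => Fin 2 ⊕ Fin 2
local notation "V4" => Fin 2 ⊕ Fin 2 → F
local notation "M4" => Matrix (Fin 2 ⊕ Fin 2) (Fin 2 ⊕ Fin 2) F
local notation "SL2" => Matrix.SpecialLinearGroup (Fin 2) K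
local notation "B" => sympForm 2 F

variable {f : Matrix.SpecialLinearGroup (Fin 2) K →* GL (Fin 2 ⊕ Fin 2) F}

theorem inv_of_gen (hirr : ∀ W : Submodule F V4, (∀ g, ∀ v ∈ W, ac f g v ∈ W) → W = ⊥ ∨ W = ⊤) (W : Submodule F V4)
    (hs : ∀ t, ∀ v ∈ W, ac f (sT t) v ∈ W) (hw : ∀ v ∈ W, ac f (wT K) v ∈ W) : W = ⊥ ∨ W = ⊤ := by
  apply hirr
  intro g
  induction g using sl2_induction with
  | hs t => exact hs t
  | hw => exact hw
  | hmul a b ha hb =>
    intro v hv
    rw [ac_mul]
    exact ha _ (hb _ hv)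

theorem span_pair_ne_top (v w : V4) : Submodule.span F {v, w} ≠ ⊤ := by
  intro h
  have h1 : Module.finrank F (Submodule.span F ({v, w} : Set V4)) ≤ 2 := by
    classical
    have h2 := finrank_span_le_card (R := F) ({v, w} : Set V4)
    have h3 : ({v, w} : Set V4).toFinset.card ≤ 2 := by
      rw [Set.toFinset_insert, Set.toFinset_singleton]
      exact Finset.card_le_two
    exact h2.trans h3
  rw [h, finrank_top] at h1
  have h4 : Module.finrank F (Fin 2 ⊕ Fin 2 → F) = 4 := by simp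
  omega

/-- no invariant plane. -/
theorem no_plane (hirr : ∀ W : Submodule F V4, (∀ g, ∀ v ∈ W, ac f g v ∈ W) → W = ⊥ ∨ W = ⊤) {v w : V4} (hv : v ≠ 0)
    (h1 : ∀ t, ac f (sT t) v ∈ Submodule.span F {v, w}) (h2 : ∀ t, ac f (sT t) w ∈ Submodule.span F {v, w})
    (h3 : ac f (wT K) v ∈ Submodule.span F {v, w}) (h4 : ac f (wT K) w ∈ Submodule.span F {v, w}) : False := by
  have hin : ∀ g : SL2, ac f g v ∈ Submodule.span F {v, w} → ac f g w ∈ Submodule.span F {v, w} →
      ∀ x ∈ Submodule.span F {v, w}, ac f g x ∈ Submodule.span F {v, w} := by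
    intro g ha hb x hx
    obtain ⟨a, b, rfl⟩ := Submodule.mem_span_pair.1 hx
    rw [ac_add, ac_smul, ac_smul]
    exact add_mem (Submodule.smul_mem _ _ ha) (Submodule.smul_mem _ _ hb)
  rcases inv_of_gen hirr (Submodule.span F {v, w}) (fun t => hin _ (h1 t) (h2 t)) (hin _ h3 h4) with h | h
  · apply hv
    rw [← Submodule.mem_bot F, ← h]
    exact Submodule.subset_span (by simp)
  · exact span_pair_ne_top v w h

theorem span_stable {S : Set V4} {g : Matrix.SpecialLinearGroup (Fin 2) K} (h : ∀ x ∈ S, ac f g x ∈ Submodule.span F S) :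
    ∀ x ∈ Submodule.span F S, ac f g x ∈ Submodule.span F S := by
  intro x hx
  induction hx using Submodule.span_induction with
  | mem x hx => exact h x hx
  | zero => rw [ac_zero]; exact Submodule.zero_mem _
  | add x y _ _ hx hy => rw [ac_add]; exact add_mem hx hy
  | smul c x _ hx => rw [ac_smul]; exact Submodule.smul_mem _ _ hx

/-- the standard quadratic form. -/
def q0 (x : V4) : F := x (.inl 0) * x (.inr 0) + x (.inl 1) * x (.inr 1)

theorem q0_add (x y : V4) : q0 (x + y) = q0 x + q0 y + B x y := by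
  have h2' : (2 : F) = 0 := CharTwo.two_eq_zero
  rw [form4]
  simp only [q0, Pi.add_apply]
  ring

theorem q0_smul (c : F) (x : V4) : q0 (c • x) = c ^ 2 * q0 x := by
  simp only [q0, Pi.smul_apply, smul_eq_mul]
  ring

theorem card_units_cast (F K : Type*) [Field F] [CharP F 2] [Field K] [Fintype Kˣ] [Finite K] [CharP K 2] :
    ((Fintype.card Kˣ : ℕ) : F) = 1 := by
  classical
  have h1 : Odd (Fintype.card Kˣ) := by
    rw [← Nat.not_even_iff_odd, even_iff_two_dvd]
    intro h2
    have : Fact (Nat.Prime 2) := ⟨Nat.prime_two⟩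
    obtain ⟨a, ha⟩ := exists_prime_orderOf_dvd_card 2 h2
    have h3 : a ^ 2 = 1 := by rw [← ha]; exact pow_orderOf_eq_one a
    have h4 : (a : K) ^ 2 = 1 ^ 2 := by rw [← Units.val_pow_eq_pow_val, h3]; simp
    have h5 : (a : K) = 1 := sq_inj h4
    rw [Units.val_eq_one] at h5
    rw [h5, orderOf_one] at ha
    exact absurd ha (by norm_num)
  obtain ⟨k, hk⟩ := h1
  rw [hk]
  push_cast
  rw [CharTwo.two_eq_zero, zero_mul, zero_add]

/-- Case B. -/
theorem exists_quad_of_line (hfs : ∀ g, f g ∈ spGL 2 F)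
    (hirr : ∀ W : Submodule F V4, (∀ g, ∀ v ∈ W, ac f g v ∈ W) → W = ⊥ ∨ W = ⊤) {v : V4} (hv : B v (ac f (wT K) v) = 1)
    (H1 : ∀ t, ac f (sT t) v = v) (H2 : ∀ t y, B y v = 0 → ∃ k : F, ac f (sT t) y = y + k • v)
    (H3 : ∀ z, (∀ t, ac f (sT t) z = z) → ∃ k : F, z = k • v) :
    ∃ Q : V4 → F, (∀ (c : F) x, Q (c • x) = c ^ 2 * Q x) ∧ (∀ x y, Q (x + y) = Q x + Q y + B x y) ∧
      ∀ g x, Q (ac f g x) = Q x := by
  classical
  have h2' : (2 : F) = 0 := CharTwo.two_eq_zero
  obtain ⟨v', hv'⟩ : ∃ v', v' = ac f (wT K) v := ⟨_, rfl⟩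
  rw [← hv'] at hv
  have sym : ∀ x y : V4, B x y = B y x := form_comm
  have alt : ∀ x : V4, B x x = 0 := sympForm_self
  have hw2 : ∀ x, ac f (wT K) (ac f (wT K) x) = x := fun x => by rw [← ac_mul, wT_sq, ac_one]
  have hwv' : ac f (wT K) v' = v := by rw [hv', hw2]
  have hv'v : B v' v = 1 := by rw [sym]; exact hv
  have form : ∀ g x y, B (ac f g x) (ac f g y) = B x y := ac_form hfs
  obtain ⟨γ, hγ⟩ : ∃ γ : K → F, ∀ t, γ t = B (ac f (sT t) v') v' := ⟨_, fun _ => rfl⟩
  obtain ⟨u, hu⟩ : ∃ u : K → V4, ∀ t, u t = ac f (sT t) v' - v' - γ t • v := ⟨_, fun _ => rfl⟩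
  have su : ∀ t, ac f (sT t) v' = v' + u t + γ t • v := by intro t; rw [hu]; abel
  have Bu1 : ∀ t, B (u t) v = 0 := by
    intro t
    have h1 : B (ac f (sT t) v') v = 1 := by
      have := form (sT t) v' v
      rwa [H1, hv'v] at this
    simp only [hu, sympForm_sub_left, sympForm_smul_left, h1, hv'v, alt]; ring
  have Bu2 : ∀ t, B (u t) v' = 0 := by
    intro t
    simp only [hu, sympForm_sub_left, sympForm_smul_left, alt, hv, hγ]; ring
  have sy : ∀ t y, B y v = 0 → B y v' = 0 → ac f (sT t) y = y + B y (u t) • v := by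
    intro t y h1 h2
    obtain ⟨k, hk⟩ := H2 t y h1
    have h3 := form (sT t) y v'
    rw [hk, su, h2] at h3
    simp only [sympForm_add_left, sympForm_add_right, sympForm_smul_left, sympForm_smul_right, h1, h2, hv, alt,
      sym v (u t), Bu1] at h3
    have h4 : k = B y (u t) := by
      have : k + B y (u t) = 0 := by linear_combination h3
      exact CharTwo.add_eq_zero.1 this
    rw [hk, h4]
  have hs2 : ∀ t r, ac f (sT (t + r)) v' = v' + (u t + u r) + (γ t + γ r + B (u r) (u t)) • v := by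
    intro t r
    rw [← sT_add, ac_mul, su r, ac_add, ac_add, ac_smul, su t, sy t (u r) (Bu1 r) (Bu2 r), H1]
    module
  have γadd : ∀ t r, γ (t + r) = γ t + γ r + B (u r) (u t) := by
    intro t r
    rw [hγ (t + r), hs2]
    simp only [sympForm_add_left, sympForm_smul_left, alt, Bu2, hv]; ring
  have uadd : ∀ t r, u (t + r) = u t + u r := by
    intro t r
    rw [hu (t + r), hs2, γadd]; module
  have γ0 : γ 0 = 0 := by rw [hγ, sT_zero, ac_one, alt]
  have u0 : u 0 = 0 := by rw [hu, sT_zero, ac_one, γ0]; simp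
  have hχ : ∀ a : Kˣ, ∃ k : F, ac f (xT a) v = k • v := by
    intro a
    apply H3
    intro t
    rw [← ac_mul, sT_xT, ac_mul, H1]
  choose χ hχ using hχ
  have hχ' : ∀ a : Kˣ, ac f (xT a) v' = χ a⁻¹ • v' := by
    intro a
    rw [hv', ← ac_mul, xT_wT, ac_mul, hχ, ac_smul]
  have hχχ : ∀ a : Kˣ, χ a * χ a⁻¹ = 1 := by
    intro a
    have h := form (xT a) v v'
    rw [hχ, hχ', sympForm_smul_left, sympForm_smul_right, hv, mul_one] at h
    exact h
  have hχ0 : ∀ a : Kˣ, χ a ≠ 0 := fun a h => by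
    have := hχχ a
    rw [h, zero_mul] at this
    exact zero_ne_one this
  have hxu : ∀ (a : Kˣ) t, γ ((a : K) ^ 2 * t) = χ a ^ 2 * γ t ∧ ac f (xT a) (u t) = χ a⁻¹ • u ((a : K) ^ 2 * t) := by
    intro a t
    have h := congrArg (fun g => ac f g v') (xT_sT a t)
    simp only [ac_mul] at h
    rw [su t, hχ', ac_smul, su, ac_add, ac_add, ac_smul, hχ, hχ'] at h
    have h1 : B (ac f (xT a) (u t)) v' = 0 := by
      have := form (xT a) (u t) v'
      rw [hχ', sympForm_smul_right, Bu2] at this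
      exact (mul_eq_zero.1 this).resolve_left (hχ0 _)
    have h2 := congrArg (fun x => B x v') h
    simp only [sympForm_add_left, sympForm_smul_left, alt, Bu2, hv, h1] at h2
    have e := hχχ a
    have h3 : γ ((a : K) ^ 2 * t) = χ a ^ 2 * γ t := by
      linear_combination -(γ ((a : K) ^ 2 * t)) * e - χ a * h2
    refine ⟨h3, ?_⟩
    have h4 : ac f (xT a) (u t) = χ a⁻¹ • (v' + u ((a : K) ^ 2 * t) + γ ((a : K) ^ 2 * t) • v) - χ a⁻¹ • v' - γ t • χ a • v := by
      rw [← h]; abel
    rw [h4]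
    have h5 : χ a⁻¹ * γ ((a : K) ^ 2 * t) = γ t * χ a := by linear_combination -h2
    rw [smul_add, smul_add, smul_smul, smul_smul, h5]
    abel
  have hwB1 : ∀ t, B (ac f (wT K) (u t)) v = 0 := by
    intro t
    have := form (wT K) (u t) v'
    rwa [hwv', Bu2] at this
  have hwB2 : ∀ t, B (ac f (wT K) (u t)) v' = 0 := by
    intro t
    have := form (wT K) (u t) v
    rwa [← hv', Bu1] at this
  have hrel : ∀ a : Kˣ, χ a⁻¹ • v' = v + (ac f (wT K) (u ((a⁻¹ : Kˣ) : K)) + B (ac f (wT K) (u ((a⁻¹ : Kˣ) : K))) (u (a : K)) • v) +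
      γ ((a⁻¹ : Kˣ) : K) • (v' + u (a : K) + γ (a : K) • v) := by
    intro a
    have h := congrArg (fun g => ac f g v) (xT_rel a)
    simp only [ac_mul] at h
    rw [← hv', hχ', H1, ← hv', su] at h
    simp only [ac_add, ac_smul] at h
    rw [hwv', ← hv', su, H1, sy _ _ (hwB1 _) (hwB2 _)] at h
    exact h
  have hγχ' : ∀ a : Kˣ, γ ((a⁻¹ : Kˣ) : K) = χ a⁻¹ := by
    intro a
    have h := congrArg (fun x => B x v) (hrel a)
    simp only [sympForm_add_left, sympForm_smul_left, alt, Bu1, hv'v, hwB1] at h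
    linear_combination -h
  have hγχ : ∀ a : Kˣ, γ (a : K) = χ a := by
    intro a
    have := hγχ' a⁻¹
    rwa [inv_inv] at this
  have hwu : ∀ a : Kˣ, ac f (wT K) (u ((a⁻¹ : Kˣ) : K)) = χ a⁻¹ • u (a : K) := by
    intro a
    have h := congrArg (fun x => B x v') (hrel a)
    simp only [sympForm_add_left, sympForm_smul_left, alt, Bu2, hv, hwB2, hγχ', hγχ] at h
    have e := hχχ a
    have h0 : B (ac f (wT K) (u ((a⁻¹ : Kˣ) : K))) (u (a : K)) = 0 := by
      linear_combination -h - e - h2'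
    have h1 := hrel a
    rw [h0, hγχ', hγχ] at h1
    have h3 : ac f (wT K) (u ((a⁻¹ : Kˣ) : K)) = χ a⁻¹ • v' - v - χ a⁻¹ • (v' + u (a : K) + χ a • v) := by
      rw [h1]; module
    rw [h3, smul_add, smul_add, smul_smul, show χ a⁻¹ * χ a = 1 by rw [mul_comm]; exact e]
    have h4 : χ a⁻¹ • v' - v - (χ a⁻¹ • v' + χ a⁻¹ • u (a : K) + (1 : F) • v) = (-χ a⁻¹) • u (a : K) - (2 : F) • v := by
      module
    rw [h4, h2', zero_smul, sub_zero, CharTwo.neg_eq]
  -- the generating set
  obtain ⟨X, hX⟩ : ∃ X : Set V4, X = {v, v'} ∪ Set.range u := ⟨_, rfl⟩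
  have hvX : v ∈ Submodule.span F X := Submodule.subset_span (by rw [hX]; simp)
  have hv'X : v' ∈ Submodule.span F X := Submodule.subset_span (by rw [hX]; simp)
  have huX : ∀ t, u t ∈ Submodule.span F X := fun t => Submodule.subset_span (by rw [hX]; simp)
  have hv0 : v ≠ 0 := by
    rintro rfl
    rw [sympForm_zero_left] at hv
    exact zero_ne_one hv
  have hX1 : ∀ t, ∀ x ∈ Submodule.span F X, ac f (sT t) x ∈ Submodule.span F X := by
    intro t
    apply span_stable
    intro x hx
    rw [hX] at hx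
    rcases hx with (rfl | rfl) | ⟨r, rfl⟩
    · rw [H1]; exact hvX
    · rw [su]; exact add_mem (add_mem hv'X (huX _)) (Submodule.smul_mem _ _ hvX)
    · rw [sy _ _ (Bu1 r) (Bu2 r)]; exact add_mem (huX _) (Submodule.smul_mem _ _ hvX)
  have hX2 : ∀ x ∈ Submodule.span F X, ac f (wT K) x ∈ Submodule.span F X := by
    apply span_stable
    intro x hx
    rw [hX] at hx
    rcases hx with (rfl | rfl) | ⟨r, rfl⟩
    · rw [← hv']; exact hv'X
    · rw [hwv']; exact hvX
    · by_cases hr : r = 0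
      · rw [hr, u0, ac_zero]; exact Submodule.zero_mem _
      · have := hwu (Units.mk0 r hr)⁻¹
        rw [inv_inv] at this
        rw [show r = ((Units.mk0 r hr : Kˣ) : K) from rfl, this]
        exact Submodule.smul_mem _ _ (huX _)
  have hXtop : Submodule.span F X = ⊤ := by
    rcases inv_of_gen hirr (Submodule.span F X) hX1 hX2 with h | h
    · exfalso
      rw [h, Submodule.mem_bot] at hvX
      exact hv0 hvX
    · exact h
  -- the averaged form
  have fK : Fintype Kˣ := Fintype.ofFinite _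
  obtain ⟨Q1, hQ1⟩ : ∃ Q1 : V4 → F, ∀ x, Q1 x = ∑ a : Kˣ, q0 (ac f (xT a) x) := ⟨_, fun _ => rfl⟩
  have Q1add : ∀ x y, Q1 (x + y) = Q1 x + Q1 y + B x y := by
    intro x y
    simp only [hQ1, ac_add, q0_add, form, Finset.sum_add_distrib, Finset.sum_const, Finset.card_univ, nsmul_eq_mul,
      card_units_cast F K, one_mul]
  have Q1smul : ∀ (c : F) x, Q1 (c • x) = c ^ 2 * Q1 x := by
    intro c x
    simp only [hQ1, ac_smul, q0_smul, Finset.mul_sum]
  have Q1x : ∀ (b : Kˣ) x, Q1 (ac f (xT b) x) = Q1 x := by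
    intro b x
    rw [hQ1, hQ1]
    simp only [← ac_mul, xT_mul]
    exact Equiv.sum_comp (Equiv.mulRight b) (fun a => q0 (ac f (xT a) x))
  have hQ10 : Q1 0 = 0 := by
    have := Q1smul 0 0
    rwa [zero_smul, zero_pow two_ne_zero, zero_mul] at this
  have hQ1x : ∀ (a : Kˣ) t, Q1 (u ((a : K) ^ 2 * t)) = χ a ^ 2 * Q1 (u t) := by
    intro a t
    have h1 := Q1x a (u t)
    rw [(hxu a t).2, Q1smul] at h1
    have e := hχχ a
    linear_combination χ a ^ 2 * h1 - Q1 (u ((a : K) ^ 2 * t)) * (χ a * χ a⁻¹ + 1) * e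
  have hχ1 : χ 1 = 1 := by
    have h := hχ 1
    rw [xT_one, ac_one] at h
    have h1 := congrArg (fun x => B x v') h
    simp only [sympForm_smul_left, hv, mul_one] at h1
    exact h1.symm
  have hγ1 : γ 1 = 1 := by
    have := hγχ 1
    rwa [Units.val_one, hχ1] at this
  obtain ⟨δ, hδ⟩ : ∃ δ, δ = Q1 (u 1) + 1 := ⟨_, rfl⟩
  have hd : ∀ t, Q1 (u t) + γ t = γ t * δ := by
    intro t
    by_cases ht : t = 0
    · rw [ht, u0, γ0, hQ10]; ring
    · obtain ⟨b, hb⟩ := exists_sq t
      have hb0 : b ≠ 0 := by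
        rintro rfl
        exact ht (by rw [← hb]; ring)
      have h1 := (hxu (Units.mk0 b hb0) 1).1
      have h2 := hQ1x (Units.mk0 b hb0) 1
      rw [mul_one, Units.val_mk0, hb] at h1 h2
      rw [h1, h2, hγ1, hδ]
      ring
  have hdadd : ∀ t r, Q1 (u (t + r)) + γ (t + r) = (Q1 (u t) + γ t) + (Q1 (u r) + γ r) := by
    intro t r
    rw [uadd, γadd, Q1add, sym (u r) (u t)]
    linear_combination (B (u t) (u r)) * h2'
  have hδ0 : δ = 0 := by
    by_contra hne
    have h1 : ∀ t r, B (u r) (u t) = 0 := by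
      intro t r
      have h2 := hdadd t r
      rw [hd, hd, hd] at h2
      have h3 : (γ (t + r) - γ t - γ r) * δ = 0 := by linear_combination h2
      have h4 := (mul_eq_zero.1 h3).resolve_right hne
      rw [γadd] at h4
      linear_combination h4
    have h2 : ∀ t, u t = 0 := by
      intro t
      apply eq_zero_of_forall_sympForm_right
      intro x
      have hx : x ∈ Submodule.span F X := by rw [hXtop]; trivial
      induction hx using Submodule.span_induction with
      | mem x hx =>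
        rw [hX] at hx
        rcases hx with (rfl | rfl) | ⟨r, rfl⟩
        · exact Bu1 t
        · exact Bu2 t
        · exact h1 _ _
      | zero => exact sympForm_zero_right _
      | add x y _ _ hx hy => rw [sympForm_add_right, hx, hy, add_zero]
      | smul c x _ hx => rw [sympForm_smul_right, hx, mul_zero]
    apply span_pair_ne_top v v'
    rw [eq_top_iff, ← hXtop, Submodule.span_le, hX]
    rintro x ((rfl | rfl) | ⟨r, rfl⟩)
    · exact Submodule.subset_span (by simp)
    · exact Submodule.subset_span (by simp)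
    · rw [h2]; exact Submodule.zero_mem _
  have hQu : ∀ t, Q1 (u t) = γ t := by
    intro t
    have := hd t
    rw [hδ0, mul_zero] at this
    exact CharTwo.add_eq_zero.1 this
  -- the form
  obtain ⟨y, hy⟩ : ∃ y : V4 → V4, ∀ x, y x = x - B x v' • v - B x v • v' := ⟨_, fun _ => rfl⟩
  have y1 : ∀ x, B (y x) v = 0 := by
    intro x
    simp only [hy, sympForm_sub_left, sympForm_smul_left, alt, hv'v]; ring
  have y2 : ∀ x, B (y x) v' = 0 := by
    intro x
    simp only [hy, sympForm_sub_left, sympForm_smul_left, alt, hv]; ring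
  obtain ⟨Q, hQ⟩ : ∃ Q : V4 → F, ∀ x, Q x = B x v' * B x v + Q1 (y x) := ⟨_, fun _ => rfl⟩
  have Qadd : ∀ x z, Q (x + z) = Q x + Q z + B x z := by
    intro x z
    have h1 : y (x + z) = y x + y z := by
      simp only [hy, sympForm_add_left]; module
    have h3 : B (y x) (y z) = B x z - B z v' * B x v - B x v' * B z v := by
      rw [hy z]
      simp only [sympForm_sub_right, sympForm_smul_right, y1, y2]
      simp only [hy, sympForm_sub_left, sympForm_smul_left, sym v z, sym v' z]
      ring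
    rw [hQ, hQ, hQ, h1, Q1add, h3, sympForm_add_left, sympForm_add_left]
    ring
  have Qsmul : ∀ (c : F) x, Q (c • x) = c ^ 2 * Q x := by
    intro c x
    have h1 : y (c • x) = c • y x := by
      simp only [hy, sympForm_smul_left]; module
    rw [hQ, hQ, h1, Q1smul, sympForm_smul_left, sympForm_smul_left]
    ring
  refine ⟨Q, Qsmul, Qadd, ?_⟩
  intro g
  induction g using sl2_induction with
  | hs t =>
    intro x
    have hx : x = y x + B x v' • v + B x v • v' := by rw [hy]; abel
    have h1 : ac f (sT t) x = y x + (B (y x) (u t) + B x v' + B x v * γ t) • v + B x v • v' + B x v • u t := by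
      conv_lhs => rw [hx]
      rw [ac_add, ac_add, ac_smul, ac_smul, H1, su, sy t (y x) (y1 x) (y2 x)]
      module
    have h3 : B (ac f (sT t) x) v = B x v := by
      have := form (sT t) x v
      rwa [H1] at this
    have h4 : B (ac f (sT t) x) v' = B (y x) (u t) + B x v' + B x v * γ t := by
      rw [h1]
      simp only [sympForm_add_left, sympForm_smul_left, alt, hv, Bu2, y2]
      ring
    have h5 : y (ac f (sT t) x) = y x + B x v • u t := by
      rw [hy (ac f (sT t) x), h3, h4, h1]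
      module
    rw [hQ, h3, h4, h5, Q1add, Q1smul, hQu, sympForm_smul_right, hQ]
    linear_combination (B (y x) (u t) * B x v + γ t * B x v ^ 2) * h2'
  | hw =>
    intro x
    have hx : x ∈ Submodule.span F X := by rw [hXtop]; trivial
    induction hx using Submodule.span_induction with
    | mem x hx =>
      have yv : y v = 0 := by rw [hy, hv, alt]; simp
      have yv' : y v' = 0 := by rw [hy, hv'v, alt]; simp
      have yu : ∀ (c : F) t, y (c • u t) = c • u t := by
        intro c t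
        rw [hy, sympForm_smul_left, sympForm_smul_left, Bu1, Bu2]; simp
      have yu' : ∀ t, y (u t) = u t := by
        intro t
        rw [hy, Bu1, Bu2]; simp
      have Qu : ∀ t, Q (u t) = γ t := by
        intro t
        rw [hQ, yu', Bu1, hQu]; ring
      rw [hX] at hx
      rcases hx with (rfl | rfl) | ⟨r, rfl⟩
      · rw [← hv', hQ, hQ, yv, yv', alt, alt]; ring
      · rw [hwv', hQ, hQ, yv, yv', alt, alt]; ring
      · by_cases hr : r = 0
        · rw [hr, u0, ac_zero]
        · have h1 := hwu (Units.mk0 r hr)⁻¹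
          rw [inv_inv] at h1
          have h3 := hγχ (Units.mk0 r hr)
          have h4 := hγχ (Units.mk0 r hr)⁻¹
          have e := hχχ (Units.mk0 r hr)
          rw [show r = ((Units.mk0 r hr : Kˣ) : K) from rfl, h1, Qsmul, Qu, Qu, h3, h4]
          linear_combination (χ (Units.mk0 r hr)) * e
    | zero => rw [ac_zero]
    | add x z _ _ hx hz => rw [ac_add, Qadd, Qadd, hx, hz, form]
    | smul c x _ hx => rw [ac_smul, Qsmul, Qsmul, hx]
  | hmul a b ha hb =>
    intro x
    rw [ac_mul, ha, hb]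

end caseB

end Cfsg.Agent.H910
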