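import Cfsg.Agent.H910.SubEvenMax
import Cfsg.Agent.H910.FieldEven

/-!
2-subgroups of `Sp_4(q)`, `q` even, have class at most 2 (helper910).

* `exists_fixed_mod` : a `p`-group acting on `A < B` fixes a vector of `B` modulo `A`;
* `exists_frame` : symplectic frames are images of the standard basis;
* `exists_flag` : a 2-subgroup of `Sp_4(F)` is conjugate to a subgroup of `Ust`;
* `commutator_central` : commutators of 2-subgroups are central.
-/

set_option autoImplicit false
set_option linter.unusedSectionVars false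
open Cfsg
open scoped Matrix MatrixGroups

namespace Cfsg.Agent.H910

open Cfsg.Agent.ClassicalGeometry.SympBasic Cfsg.Agent.H876 Cfsg.Agent.S5652

section fixed

variable {F : Type*} [Field F] {I : Type*} [Fintype I] [DecidableEq I]

/-- a `p`-group acting on `A < B` fixes a vector of `B` modulo `A`. -/
theorem exists_fixed_mod [Finite F] {p : ℕ} [Fact p.Prime] [CharP F p] {S : Subgroup (GL I F)} (hS : IsPGroup p S)
    {A B : Submodule F (I → F)} (hAB : A < B) (hA : ∀ s ∈ S, ∀ a ∈ A, (s : Matrix I I F) *ᵥ a ∈ A)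
    (hB : ∀ s ∈ S, ∀ b ∈ B, (s : Matrix I I F) *ᵥ b ∈ B) :
    ∃ b ∈ B, b ∉ A ∧ ∀ s ∈ S, (s : Matrix I I F) *ᵥ b - b ∈ A := by
  classical
  let act : S → ((I → F) ⧸ A) →ₗ[F] ((I → F) ⧸ A) := fun s =>
    A.mapQ A (Matrix.mulVecLin ((s : GL I F) : Matrix I I F)) (fun a ha => hA s s.2 a ha)
  have hact : ∀ (s : S) (v : I → F), act s (A.mkQ v) = A.mkQ (((s : GL I F) : Matrix I I F) *ᵥ v) := fun s v => rfl
  let C := B.map A.mkQ
  have hC : ∀ (s : S) (x : (I → F) ⧸ A), x ∈ C → act s x ∈ C := by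
    rintro s _ ⟨b, hb, rfl⟩
    exact ⟨_, hB s s.2 b hb, (hact s b).symm⟩
  let inst : MulAction S C :=
    { smul := fun s x => ⟨act s x, hC s x x.2⟩
      one_smul := by
        rintro ⟨_, ⟨b, hb, rfl⟩⟩
        apply Subtype.ext
        show act 1 (A.mkQ b) = A.mkQ b
        rw [hact]
        simp
      mul_smul := by
        rintro s t ⟨_, ⟨b, hb, rfl⟩⟩
        apply Subtype.ext
        show act (s * t) (A.mkQ b) = act s (act t (A.mkQ b))
        rw [hact, hact, hact, Matrix.mulVec_mulVec]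
        rfl }
  have hval : ∀ (s : S) (x : C), ((s • x : C) : (I → F) ⧸ A) = act s x := fun _ _ => rfl
  have hCne : C ≠ ⊥ := by
    intro h0
    obtain ⟨b, hb, hbA⟩ := SetLike.exists_of_lt hAB
    apply hbA
    have : A.mkQ b ∈ C := ⟨b, hb, rfl⟩
    rw [h0, Submodule.mem_bot] at this
    exact (Submodule.Quotient.mk_eq_zero A).1 this
  have hfin : Finite ((I → F) ⧸ A) := Finite.of_surjective _ A.mkQ_surjective
  have hdvd : p ∣ Nat.card C := by
    rw [Module.natCard_eq_pow_finrank (K := F)]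
    have h1 : Module.finrank F C ≠ 0 := fun h => hCne (Submodule.finrank_eq_zero.1 h)
    apply dvd_pow _ h1
    have hF : Fintype F := Fintype.ofFinite F
    obtain ⟨n, hn, hc⟩ := FiniteField.card F p
    rw [Nat.card_eq_fintype_card, hc]
    exact dvd_pow_self p n.ne_zero
  have h0 : (0 : C) ∈ MulAction.fixedPoints S C := by
    intro s
    apply Subtype.ext
    rw [hval]
    exact map_zero _
  obtain ⟨x, hx, hx0⟩ := hS.exists_fixed_point_of_prime_dvd_card_of_fixed_point C hdvd h0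
  obtain ⟨b, hb, hbx⟩ := x.2
  refine ⟨b, hb, ?_, ?_⟩
  · intro hbA
    apply hx0
    apply Subtype.ext
    rw [← hbx]
    exact ((Submodule.Quotient.mk_eq_zero A).2 hbA).symm
  · intro s hs
    have h1 := congrArg Subtype.val (hx ⟨s, hs⟩)
    rw [hval, ← hbx, hact] at h1
    exact (Submodule.Quotient.eq A).1 h1

end fixed

section frame

variable {F : Type*} [Field F] {m : ℕ}

/-- symplectic frames. -/
theorem exists_frame (w : Fin m ⊕ Fin m → (Fin m ⊕ Fin m → F))
    (hw : ∀ i j, sympForm m F (w i) (w j) = sympForm m F (Pi.single i 1) (Pi.single j 1)) :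
    ∃ g ∈ spGL m F, ∀ j, (g : Matrix _ _ F) *ᵥ Pi.single j 1 = w j := by
  classical
  let A : Matrix (Fin m ⊕ Fin m) (Fin m ⊕ Fin m) F := Matrix.of fun i j => w j i
  have hA : ∀ j, A *ᵥ Pi.single j 1 = w j := by
    intro j
    rw [Matrix.mulVec_single_one]
    rfl
  have h2 : ((sympBilin m F).compl₁₂ (Matrix.mulVecLin A) (Matrix.mulVecLin A)) = sympBilin m F := by
    apply LinearMap.BilinForm.ext_basis (Pi.basisFun F _)
    intro i j
    rw [Pi.basisFun_apply, Pi.basisFun_apply, sympBilin_apply, ← hw i j, ← hA i, ← hA j]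
    rfl
  have h3 : ∀ x y, sympForm m F (A *ᵥ x) (A *ᵥ y) = sympForm m F x y := fun x y =>
    LinearMap.congr_fun (LinearMap.congr_fun h2 x) y
  have h4 : A ∈ Matrix.symplecticGroup (Fin m) F := mem_symplecticGroup_iff.2 h3
  refine ⟨spToGL m F ⟨A, h4⟩, spToGL_mem _, fun j => ?_⟩
  exact hA j

end frame

section flag

variable {F : Type*} [Field F] [Finite F] [CharP F 2]

local notation "I4" => Fin 2 ⊕ Fin 2
local notation "V4" => Fin 2 ⊕ Fin 2 → F
local notation "M4" => Matrix (Fin 2 ⊕ Fin 2) (Fin 2 ⊕ Fin 2) F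

/-- `g` fixes `ea` and maps `eb` to `eb + a ea`, in `Sp_4(F)`. -/
def InU (g : GL I4 F) : Prop :=
  g ∈ spGL 2 F ∧ (g : M4) *ᵥ (ea : V4) = ea ∧ ∃ a : F, (g : M4) *ᵥ (eb : V4) = eb + a • ea

/-- a 2-subgroup of `Sp_4(F)` is conjugate to a group of unitriangular matrices. -/
theorem exists_flag {S : Subgroup (GL I4 F)} (hS : IsPGroup 2 S) (hSs : S ≤ spGL 2 F) :
    ∃ h ∈ spGL 2 F, ∀ s ∈ S, InU (h⁻¹ * s * h) := by
  classical
  obtain ⟨v0, -, hv0, hfix⟩ := exists_fixed_mod (p := 2) hS (A := (⊥ : Submodule F V4)) (B := ⊤) bot_lt_top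
    (by
      intro s _ a ha
      rw [Submodule.mem_bot] at ha ⊢
      rw [ha, Matrix.mulVec_zero])
    (fun _ _ _ _ => Submodule.mem_top)
  have hv0 : v0 ≠ 0 := fun h => hv0 (by rw [h]; exact Submodule.zero_mem _)
  have hfix : ∀ s ∈ S, (s : M4) *ᵥ v0 = v0 := fun s hs => sub_eq_zero.1 ((Submodule.mem_bot F).1 (hfix s hs))
  obtain ⟨v1, hv1⟩ := exists_partner hv0
  have hlt : Submodule.span F {v0} < LinearMap.ker (sympBilin 2 F v0) := by
    refine lt_of_le_of_ne ?_ ?_
    · rw [Submodule.span_singleton_le_iff_mem, LinearMap.mem_ker, sympBilin_apply, sympForm_self]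
    · intro heq
      have h1 : Module.finrank F (LinearMap.ker (sympBilin 2 F v0)) = 1 := by
        rw [← heq]; exact finrank_span_singleton hv0
      have h2 := LinearMap.finrank_range_add_finrank_ker (sympBilin 2 F v0)
      have h3 : Module.finrank F (LinearMap.range (sympBilin 2 F v0)) ≤ 1 := by
        calc _ ≤ Module.finrank F F := Submodule.finrank_le _
          _ = 1 := Module.finrank_self F
      have h4 : Module.finrank F (Fin 2 ⊕ Fin 2 → F) = 4 := by simp
      omega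
  obtain ⟨u, huD, huv, hufix⟩ := exists_fixed_mod (p := 2) hS hlt
    (by
      intro s hs a ha
      obtain ⟨c, rfl⟩ := Submodule.mem_span_singleton.1 ha
      rw [Matrix.mulVec_smul, hfix s hs]
      exact ha)
    (by
      intro s hs b hb
      rw [LinearMap.mem_ker, sympBilin_apply] at hb ⊢
      nth_rewrite 1 [← hfix s hs]
      rw [sp_form (hSs hs), hb])
  have huD' : sympForm 2 F v0 u = 0 := by rwa [LinearMap.mem_ker, sympBilin_apply] at huD
  set u1 := u - sympForm 2 F u v1 • v0 with hu1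
  have hu1v1 : sympForm 2 F u1 v1 = 0 := by
    rw [hu1, sympForm_sub_left, sympForm_smul_left, hv1]; ring
  have hu1v0 : sympForm 2 F u1 v0 = 0 := by
    rw [hu1, sympForm_sub_left, sympForm_smul_left, sympForm_self, sympForm_swap, huD']; ring
  have hu10 : u1 ≠ 0 := by
    intro h0
    apply huv
    rw [sub_eq_zero.1 h0]
    exact Submodule.smul_mem _ _ (Submodule.mem_span_singleton_self _)
  have hu1fix : ∀ s ∈ S, ∃ a : F, (s : M4) *ᵥ u1 = u1 + a • v0 := by
    intro s hs
    obtain ⟨a, ha⟩ := Submodule.mem_span_singleton.1 (hufix s hs)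
    refine ⟨a, ?_⟩
    rw [hu1, Matrix.mulVec_sub, Matrix.mulVec_smul, hfix s hs, ha]
    abel
  obtain ⟨w, hw⟩ := exists_partner hu10
  set w1 := w + sympForm 2 F w v1 • v0 + sympForm 2 F w v0 • v1 with hw1
  have hv1v0 : sympForm 2 F v1 v0 = 1 := by rw [sympForm_swap, hv1, CharTwo.neg_eq]
  have hw1v0 : sympForm 2 F w1 v0 = 0 := by
    rw [hw1, sympForm_add_left, sympForm_add_left, sympForm_smul_left, sympForm_smul_left, sympForm_self, hv1v0,
      mul_zero, add_zero, mul_one, CharTwo.add_self_eq_zero]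
  have hw1v1 : sympForm 2 F w1 v1 = 0 := by
    rw [hw1, sympForm_add_left, sympForm_add_left, sympForm_smul_left, sympForm_smul_left, sympForm_self, hv1,
      mul_zero, add_zero, mul_one, CharTwo.add_self_eq_zero]
  have hu1w1 : sympForm 2 F u1 w1 = 1 := by
    rw [hw1, sympForm_add_right, sympForm_add_right, sympForm_smul_right, sympForm_smul_right, hu1v0, hu1v1, hw]
    ring
  have sym : ∀ x y : V4, sympForm 2 F x y = sympForm 2 F y x := fun x y => by
    rw [sympForm_swap, CharTwo.neg_eq]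
  obtain ⟨h, hh, hcol⟩ := exists_frame (m := 2) (F := F) (Sum.elim ![v0, u1] ![v1, w1]) (by
    have h1 := hv1
    have h2 := hv1v0
    have h3 := hu1v1
    have h4 := (sym v1 u1).trans hu1v1
    have h5 := hu1v0
    have h6 := (sym v0 u1).trans hu1v0
    have h7 := hw1v0
    have h8 := (sym v0 w1).trans hw1v0
    have h9 := hw1v1
    have h10 := (sym v1 w1).trans hw1v1
    have h11 := hu1w1
    have h12 := (sym w1 u1).trans hu1w1
    intro i j
    rcases i with i | i <;> fin_cases i <;> rcases j with j | j <;> fin_cases j <;>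
      simp [form4 (Pi.single _ _), sympForm_self, h1, h2, h3, h4, h5, h6, h7, h8, h9, h10, h11, h12])
  have c0 : (h : M4) *ᵥ (ea : V4) = v0 := hcol (.inl 0)
  have c1 : (h : M4) *ᵥ (eb : V4) = u1 := hcol (.inl 1)
  refine ⟨h, hh, fun s hs => ⟨Subgroup.mul_mem _ (Subgroup.mul_mem _ (Subgroup.inv_mem _ hh) (hSs hs)) hh, ?_, ?_⟩⟩
  · rw [mul_mulVec, mul_mulVec, c0, hfix s hs, ← c0, inv_mulVec_cancel]
  · obtain ⟨a, ha⟩ := hu1fix s hs
    refine ⟨a, ?_⟩
    rw [mul_mulVec, mul_mulVec, c1, ha, Matrix.mulVec_add, Matrix.mulVec_smul, ← c0, ← c1, inv_mulVec_cancel,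
      inv_mulVec_cancel]

/-- an element of the unitriangular group with its parameters. -/
structure IsU (g : GL I4 F) (a b c e : F) : Prop where
  a' : (g : M4) *ᵥ (ea : V4) = ea
  b' : (g : M4) *ᵥ (eb : V4) = eb + a • ea
  d' : (g : M4) *ᵥ (ed : V4) = ed + b • eb + c • ea
  c' : (g : M4) *ᵥ (ec : V4) = ec + a • ed + (a * b + c) • eb + e • ea

theorem coord (x : V4) : x = sympForm 2 F x ec • ea + sympForm 2 F x ed • eb + sympForm 2 F x ea • ec +
    sympForm 2 F x eb • ed := by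
  ext i
  rcases i with i | i <;> fin_cases i <;> simp [form4]

theorem InU.exists {g : GL I4 F} (h : InU g) : ∃ a b c e, IsU g a b c e := by
  obtain ⟨hs, h1, a, h2⟩ := h
  have sym : ∀ x y : V4, sympForm 2 F x y = sympForm 2 F y x := fun x y => by
    rw [sympForm_swap, CharTwo.neg_eq]
  have hf : ∀ x y : V4, sympForm 2 F ((g : M4) *ᵥ x) ((g : M4) *ᵥ y) = sympForm 2 F x y := fun x y => sp_form hs x y
  set b := sympForm 2 F ((g : M4) *ᵥ (ed : V4)) ed with hb
  set c := sympForm 2 F ((g : M4) *ᵥ (ed : V4)) ec with hc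
  set e := sympForm 2 F ((g : M4) *ᵥ (ec : V4)) ec with he
  have d1 : sympForm 2 F ((g : M4) *ᵥ (ed : V4)) ea = 0 := by
    nth_rewrite 1 [← h1]; rw [hf, f_da]
  have d2 : sympForm 2 F ((g : M4) *ᵥ (ed : V4)) eb = 1 := by
    have h3 := hf ed eb
    rwa [h2, sympForm_add_right, sympForm_smul_right, d1, mul_zero, add_zero, f_db] at h3
  have hd : (g : M4) *ᵥ (ed : V4) = ed + b • eb + c • ea := by
    rw [coord ((g : M4) *ᵥ (ed : V4)), d1, d2, ← hb, ← hc]
    module
  have c1 : sympForm 2 F ((g : M4) *ᵥ (ec : V4)) ea = 1 := by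
    nth_rewrite 1 [← h1]; rw [hf, f_ca]
  have c2 : sympForm 2 F ((g : M4) *ᵥ (ec : V4)) eb = a := by
    have h3 := hf ec eb
    rw [h2, sympForm_add_right, sympForm_smul_right, c1, mul_one, f_cb] at h3
    exact CharTwo.add_eq_zero.1 h3
  have c3 : sympForm 2 F ((g : M4) *ᵥ (ec : V4)) ed = a * b + c := by
    have h3 := hf ec ed
    rw [hd, sympForm_add_right, sympForm_add_right, sympForm_smul_right, sympForm_smul_right, c1, c2, f_cd, mul_one,
      add_assoc] at h3
    rw [CharTwo.add_eq_zero.1 h3]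
    ring
  have hcc : (g : M4) *ᵥ (ec : V4) = ec + a • ed + (a * b + c) • eb + e • ea := by
    rw [coord ((g : M4) *ᵥ (ec : V4)), c1, c2, c3, ← he]
    module
  exact ⟨a, b, c, e, h1, h2, hd, hcc⟩

theorem IsU.mul {g g' : GL I4 F} {a b c e a' b' c' e' : F} (h : IsU g a b c e) (h' : IsU g' a' b' c' e') :
    IsU (g * g') (a + a') (b + b') (c + c' + a * b') (e + e' + a' * c + a * (a' * b' + c')) := by
  constructor
  · rw [mul_mulVec, h'.a', h.a']
  · rw [mul_mulVec, h'.b', Matrix.mulVec_add, Matrix.mulVec_smul, h.a', h.b']; module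
  · rw [mul_mulVec, h'.d', Matrix.mulVec_add, Matrix.mulVec_add, Matrix.mulVec_smul, Matrix.mulVec_smul, h.a', h.b',
      h.d']; module
  · rw [mul_mulVec, h'.c', Matrix.mulVec_add, Matrix.mulVec_add, Matrix.mulVec_add, Matrix.mulVec_smul,
      Matrix.mulVec_smul, Matrix.mulVec_smul, h.a', h.b', h.c', h.d']
    have h2' : (2 : F) = 0 := CharTwo.two_eq_zero
    ext i
    simp only [Pi.add_apply, Pi.smul_apply, smul_eq_mul]
    linear_combination (-(a * b') * (eb : V4) i) * h2'

theorem IsU.ext {g g' : GL I4 F} {a b c e : F} (h : IsU g a b c e) (h' : IsU g' a b c e) : g = g' := by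
  apply gl_ext
  intro x
  rw [coord x]
  simp only [Matrix.mulVec_add, Matrix.mulVec_smul, h.a', h.b', h.c', h.d', h'.a', h'.b', h'.c', h'.d']

theorem IsU.one : IsU (1 : GL I4 F) 0 0 0 0 := by
  constructor <;> rw [Units.val_one, Matrix.one_mulVec] <;> simp

/-- elements with `a = b = 0` are central in the unitriangular group. -/
theorem IsU.comm {k r : GL I4 F} {a b c e c' e' : F} (h : IsU k 0 0 c' e') (h' : IsU r a b c e) : k * r = r * k := by
  have h1 := h.mul h'
  have h2 := h'.mul h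
  refine h1.ext ?_
  convert h2 using 1 <;> ring

/-- **commutators of a 2-subgroup of `Sp_4(q)`, `q` even, are central.** -/
theorem commutator_central {S : Subgroup (GL I4 F)} (hS : IsPGroup 2 S) (hSs : S ≤ spGL 2 F) {g h r : GL I4 F}
    (hg : g ∈ S) (hh : h ∈ S) (hr : r ∈ S) : (g * h * g⁻¹ * h⁻¹) * r = r * (g * h * g⁻¹ * h⁻¹) := by
  obtain ⟨x, hx, hU⟩ := exists_flag hS hSs
  obtain ⟨a1, b1, c1, e1, u1⟩ := (hU g hg).exists
  obtain ⟨a2, b2, c2, e2, u2⟩ := (hU h hh).exists
  obtain ⟨a3, b3, c3, e3, u3⟩ := (hU r hr).exists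
  have hk := hU _ (S.mul_mem (S.mul_mem (S.mul_mem hg hh) (S.inv_mem hg)) (S.inv_mem hh))
  obtain ⟨a4, b4, c4, e4, u4⟩ := hk.exists
  have h1 := u1.mul u2
  have h2 := u4.mul (u2.mul u1)
  have h3 : x⁻¹ * (g * h * g⁻¹ * h⁻¹) * x * (x⁻¹ * h * x * (x⁻¹ * g * x)) = x⁻¹ * g * x * (x⁻¹ * h * x) := by group
  rw [h3] at h2
  -- comparison of the parameters
  have e1 : a4 = 0 := by
    have i1 := h1.b'
    rw [h2.b'] at i1
    have i2 := congrFun i1 (.inl 0)
    simp at i2
    linear_combination i2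
  have e2 : b4 = 0 := by
    have i1 := h1.d'
    rw [h2.d'] at i1
    have i2 := congrFun i1 (.inl 1)
    simp at i2
    linear_combination i2
  subst e1 e2
  have h4 := u4.comm u3
  have h5 : x⁻¹ * ((g * h * g⁻¹ * h⁻¹) * r) * x = x⁻¹ * (r * (g * h * g⁻¹ * h⁻¹)) * x := by
    calc _ = x⁻¹ * (g * h * g⁻¹ * h⁻¹) * x * (x⁻¹ * r * x) := by group
      _ = _ := by rw [h4]; group
  exact mul_left_cancel (mul_right_cancel h5)

end flag

end Cfsg.Agent.H910
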