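import Cfsg.Agent.H910.Elim
import Cfsg.Agent.H910.Unip
import Cfsg.Agent.H875.TaskU3
import Cfsg.Agent.H875.TaskL2
import Cfsg.Agent.S1170
import Cfsg.Agent.S2554
import Cfsg.Agent.ThreePrime.Main
import Cfsg.Agent.H426.SL2Unrec
import Cfsg.Agent.S0252
import Cfsg.Agent.S0253
import Cfsg.Agent.S0254
import Cfsg.Agent.GpSp.Row

/-!
The non-abelian simple subgroups of `Sp_4(q)`, `q` even (helper910): `L₂(2^a)`, `A₆`, `Sz(2^(2m+1))` or `Sp₄(2^a)`.
-/

set_option autoImplicit false
open Cfsg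
open scoped Matrix MatrixGroups

namespace Cfsg.Agent.H910

theorem exists_sl_of_five {P : Type*} [Group P] {A : Type*} [Field A] [Fintype A] (h : Fintype.card A = 5)
    (e : P ≃* Matrix.ProjectiveSpecialLinearGroup (Fin 2) A) :
    ∃ (K : Type) (_ : Field K) (_ : Fintype K), CharP K 2 ∧ 4 ≤ Fintype.card K ∧ Nonempty (P ≃* Matrix.SpecialLinearGroup (Fin 2) K) := by
  obtain ⟨e1⟩ := Cfsg.Agent.S0253.result h
  let K := GaloisField 2 2
  let _ : Fintype K := Fintype.ofFinite K
  have hK : Fintype.card K = 4 := by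
    rw [← Nat.card_eq_fintype_card, GaloisField.card 2 2 (by norm_num)]
    norm_num
  obtain ⟨e2⟩ := Cfsg.Agent.S0252.result (F := K) hK
  exact ⟨K, inferInstance, inferInstance, inferInstance, hK.ge, ⟨e.trans (e1.trans (e2.symm.trans (Cfsg.Agent.H426.psl2EvenEquiv K)))⟩⟩

theorem simple_list {F : Type*} [Field F] [Finite F] [CharP F 2] (P : Subgroup (GL (Fin 2 ⊕ Fin 2) F)) (hPs : P ≤ spGL 2 F)
    [IsSimpleGroup P] (hna : ¬ IsMulCommutative P) :
    (∃ (K : Type) (_ : Field K) (_ : Fintype K), CharP K 2 ∧ 4 ≤ Fintype.card K ∧ Nonempty (P ≃* Matrix.SpecialLinearGroup (Fin 2) K)) ∨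
    Nonempty (P ≃* alternatingGroup (Fin 6)) ∨
    (∃ (K : Type) (_ : Field K) (_ : Fintype K) (m : ℕ), 1 ≤ m ∧ Fintype.card K = 2 ^ (2 * m + 1) ∧
      Nonempty (P ≃* Cfsg.Lie.Sz K (2 ^ (m + 1)))) ∨
    (∃ (K : Type) (_ : Field K) (_ : Fintype K), CharP K 2 ∧ 4 ≤ Fintype.card K ∧
      Nonempty (P ≃* Matrix.symplecticGroup (Fin 2) K)) := by
  classical
  have : Finite P := Subtype.finite
  have hf : Function.Injective P.subtype := Subtype.val_injective
  have hfs : ∀ g, P.subtype g ∈ spGL 2 F := fun g => hPs g.2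
  have hfive : ∀ (A : Type) [Field A] [Fintype A], Fintype.card A = 5 → (P ≃* Matrix.ProjectiveSpecialLinearGroup (Fin 2) A) →
      ∃ (K : Type) (_ : Field K) (_ : Fintype K), CharP K 2 ∧ 4 ≤ Fintype.card K ∧
        Nonempty (P ≃* Matrix.SpecialLinearGroup (Fin 2) K) := fun A _ _ h e => exists_sl_of_five h e
  let S : Sylow 2 P := default
  by_cases hS : IsMulCommutative (S : Subgroup P)
  · have hA : ∀ (p : ℕ), p.Prime → ∀ (Q : Sylow p P), IsMulCommutative ↥Q := by
      intro p hp Q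
      have : Fact p.Prime := ⟨hp⟩
      by_cases hp2 : p = 2
      · subst hp2
        have e : (Q : Subgroup P) ≃* (S : Subgroup P) := Sylow.equiv Q S
        refine ⟨⟨fun a b => e.injective ?_⟩⟩
        rw [map_mul, map_mul]
        exact hS.is_comm.comm _ _
      · have h1 := odd_comm (F := F) hp2 (R := (Q : Subgroup P).map P.subtype) (Q.2.map _) (by
          rintro _ ⟨g, _, rfl⟩
          exact hfs g)
        refine ⟨⟨fun a b => ?_⟩⟩
        apply Subtype.ext
        apply hf
        exact h1 _ ⟨a, a.2, rfl⟩ _ ⟨b, b.2, rfl⟩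
    rcases Cfsg.Agent.S2554.result hna hA with h | ⟨A, _, _, h3, h8, ⟨e⟩⟩
    · exfalso
      obtain ⟨e⟩ := h
      exact no_seven_of seven_j1 hf hfs e
    · rcases h8 with h8 | h8
      · left
        have hch : CharP A 2 := by
          obtain ⟨p, hp⟩ := CharP.exists A
          have := hp
          have hpp : p.Prime := CharP.char_is_prime A p
          obtain ⟨n, -, hn⟩ := FiniteField.card A p
          have h2 : 2 ∣ p ^ (n : ℕ) := by rw [← hn]; omega
          have h3 := (Nat.prime_dvd_prime_iff_eq Nat.prime_two hpp).1 (Nat.prime_two.dvd_of_dvd_pow h2)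
          rw [h3]; exact hp
        exact ⟨A, inferInstance, inferInstance, hch, by omega, ⟨e.trans (Cfsg.Agent.H426.psl2EvenEquiv A)⟩⟩
      · have ho : Odd (Nat.card A) := by
          rw [Nat.card_eq_fintype_card, Nat.odd_iff]; omega
        have h1 := Cfsg.Agent.H875.L2.l2_odd hf hfs ho e
        rw [Nat.card_eq_fintype_card] at h1
        left
        exact hfive A (by omega) e
  · have hA2 : ⁅(⊤ : Subgroup (S : Subgroup P)), ⊤⁆ ≤ Subgroup.center (S : Subgroup P) := by
      rw [Subgroup.commutator_le]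
      intro a _ b _
      rw [Subgroup.mem_center_iff]
      intro r
      apply Subtype.ext
      apply hf
      have h1 := commutator_central (F := F) (S := (S : Subgroup P).map P.subtype) (S.2.map _) (by
          rintro _ ⟨g, _, rfl⟩
          exact hfs g) (g := P.subtype a) (h := P.subtype b) (r := P.subtype r) ⟨a, a.2, rfl⟩ ⟨b, b.2, rfl⟩ ⟨r, r.2, rfl⟩
      exact h1.symm
    rcases Cfsg.Agent.S1170.result S (S : Subgroup P) ⟨le_rfl, fun _ _ _ h => h⟩ hS hA2 with h | h | h | h | h | h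
    · obtain ⟨A, _, _, h16, ⟨e⟩⟩ := h
      have ho : Odd (Nat.card A) := by
        rw [Nat.card_eq_fintype_card, Nat.odd_iff]; omega
      have h1 := Cfsg.Agent.H875.L2.l2_odd hf hfs ho e
      rw [Nat.card_eq_fintype_card] at h1
      right; left
      obtain ⟨e1⟩ := Cfsg.Agent.S0254.result (F := A) (by omega)
      exact ⟨e.trans e1⟩
    · exfalso
      obtain ⟨A, _, _, q, hA, he, hq, ⟨e⟩⟩ := h
      exact Cfsg.Agent.H875.U3.no_u3 hf hfs hq he (by rw [Nat.card_eq_fintype_card]; exact hA) e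
    · right; right; left
      have h3 : ¬ 3 ∣ Nat.card P := by
        obtain ⟨-, m, -, hm⟩ := h
        rw [hm]
        have h1 : 2 ^ (2 * m + 1) % 3 = 2 := by
          clear hm
          induction m with
          | zero => rfl
          | succ k ih =>
            have : 2 ^ (2 * (k + 1) + 1) = 4 * 2 ^ (2 * k + 1) := by ring
            omega
        generalize 2 ^ (2 * m + 1) = q at h1
        obtain ⟨c, hc⟩ : ∃ c, q = 3 * c + 2 := ⟨q / 3, by omega⟩
        subst hc
        intro h3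
        have e1 : 3 * c + 2 - 1 = 3 * c + 1 := by omega
        rw [e1] at h3
        have h4 : (3 * c + 2) ^ 2 * ((3 * c + 2) ^ 2 + 1) * (3 * c + 1) =
            3 * (81 * c ^ 5 + 243 * c ^ 4 + 297 * c ^ 3 + 183 * c ^ 2 + 56 * c) + 20 := by
          ring
        omega
      exact Cfsg.Agent.ThreePrime.Main.isoSuzuki' hna h3
    · exfalso
      obtain ⟨A, _, _, hch, ⟨e⟩⟩ := h
      exact no_seven_of (seven_l3 A) hf hfs e
    · right; right; right
      obtain ⟨A, _, _, hch, h4, ⟨e⟩⟩ := h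
      exact ⟨A, inferInstance, inferInstance, hch, h4, ⟨e.trans (Cfsg.Agent.GpSp.Row.toPSp A 2).symm⟩⟩
    · exfalso
      obtain ⟨e⟩ := h
      exact no_seven_of seven_a7 hf hfs e

end Cfsg.Agent.H910
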