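import Cfsg.Agent.H910.SubEven
import Cfsg.Agent.ClassicalGeometry.Sp4Graph

/-!
Subfield subgroups of `Sp_4(q)`, `q` even, are maximal (helper910): `sub_maximal_std` for the standard one.

`M ≥ H0`. `Uo M u` : the transvection `x ↦ x + f(x,u) u` lies in `M`. Either every such `u` orthogonal to a non-zero
`F₀`-vector is an `F₀`-vector, and then all of them are and `M = H0`; or the set `RR M` of the `b` such that the Siegel
transformation of `(ea, b eb, b²)` lies in `M` is not contained in `F₀`, hence is `F`, and `M` contains all transvections.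
-/

set_option autoImplicit false
set_option linter.unusedSectionVars false
open Cfsg
open scoped Matrix MatrixGroups

namespace Cfsg.Agent.H910

open Cfsg.Agent.ClassicalGeometry.SympBasic Cfsg.Agent.H876 Cfsg.Agent.S5652

local notation "I4" => Fin 2 ⊕ Fin 2

section

variable {F : Type*} [Field F] [Finite F] [CharP F 2] {F₀ : Subfield F}

local notation "V4" => Fin 2 ⊕ Fin 2 → F
local notation "M4" => Matrix (Fin 2 ⊕ Fin 2) (Fin 2 ⊕ Fin 2) F

theorem form4 (x y : V4) : sympForm 2 F x y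
    = x (.inl 0) * y (.inr 0) + x (.inr 0) * y (.inl 0) + x (.inl 1) * y (.inr 1) + x (.inr 1) * y (.inl 1) :=
  Cfsg.Agent.ClassicalGeometry.Sp4Graph.sympForm_eq x y

/-- the transvection `x ↦ x + f(x,u) u` lies in `M`. -/
def Uo (M : Subgroup (GL I4 F)) (u : V4) : Prop := tGL u 1 ∈ M

variable {M : Subgroup (GL I4 F)}

theorem Uo.map {u : V4} (h : Uo M u) {g : GL I4 F} (hg : g ∈ M) (hs : g ∈ spGL 2 F) : Uo M ((g : M4) *ᵥ u) := by
  rw [Uo, ← conj_tGL hs]
  exact M.mul_mem (M.mul_mem hg h) (M.inv_mem hg)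

theorem Uo.add {u v : V4} (hu : Uo M u) (hv : Uo M v) : Uo M (u + sympForm 2 F u v • v) := by
  have h1 := hu.map hv (tGL_mem _ _)
  rwa [tGL_mulVec, one_mul] at h1

theorem tGL_injective {u v : V4} (h : tGL u 1 = tGL v 1) : u = v := by
  by_cases hu : u = 0
  · by_contra hne
    have hv : v ≠ 0 := by rintro rfl; exact hne hu
    obtain ⟨x, hx⟩ := exists_partner hv
    have h1 := congrArg (fun g : GL I4 F => (g : M4) *ᵥ x) h
    simp only [tGL_mulVec] at h1
    rw [hu, sympForm_swap x v, hx] at h1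
    simp at h1
    exact hv h1
  obtain ⟨x, hx⟩ := exists_partner hu
  have h1 := congrArg (fun g : GL I4 F => (g : M4) *ᵥ x) h
  simp only [tGL_mulVec] at h1
  rw [sympForm_swap x u, hx, mul_neg, mul_one, CharTwo.neg_eq, one_smul, one_mul, add_right_inj] at h1
  set s := sympForm 2 F x v with hs
  have h2 : s ^ 2 = 1 := by
    have h3 := hx
    rw [sympForm_swap, CharTwo.neg_eq, h1, sympForm_smul_right, ← hs] at h3
    rw [← h3]; ring
  have h3 : s = 1 := sq_inj (by rw [h2]; ring)
  rw [h1, h3, one_smul]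

/-- two transvections with non-orthogonal centres are conjugate in the group they generate. -/
theorem exists_conj {u v : V4} (hu : Uo M u) (hv : Uo M v) (huv : sympForm 2 F u v ≠ 0) :
    ∃ h ∈ M, h ∈ spGL 2 F ∧ (h : M4) *ᵥ v = u := by
  classical
  set a := tGL u 1 with ha
  set b := tGL v 1 with hb
  have haM : a ∈ M := hu
  have hbM : b ∈ M := hv
  have has : a ∈ spGL 2 F := tGL_mem _ _
  have hbs : b ∈ spGL 2 F := tGL_mem _ _
  have ha2 : a * a = 1 := by rw [ha, tGL_mul, CharTwo.add_self_eq_zero, tGL_zero_right]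
  have hb2 : b * b = 1 := by rw [hb, tGL_mul, CharTwo.add_self_eq_zero, tGL_zero_right]
  have hai : a⁻¹ = a := inv_eq_of_mul_eq_one_left ha2
  have hbi : b⁻¹ = b := inv_eq_of_mul_eq_one_left hb2
  set X := a * b with hX
  have hXs : X ∈ spGL 2 F := Subgroup.mul_mem _ has hbs
  have hXM : X ∈ M := M.mul_mem haM hbM
  have hXi : X⁻¹ = b * a := by rw [hX, mul_inv_rev, hai, hbi]
  have haX : a * X * a⁻¹ = X⁻¹ := by rw [hXi, hX, hai, ← mul_assoc, ha2, one_mul]
  have hbX : b * X * b⁻¹ = X⁻¹ := by rw [hXi, hX, hbi, mul_assoc, mul_assoc, hb2, mul_one]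
  have haXn : ∀ n : ℕ, a * X ^ n * a⁻¹ = (X ^ n)⁻¹ := by
    intro n
    rw [← inv_pow, ← haX, conj_pow]
  have hbXn : ∀ n : ℕ, b * X ^ n * b⁻¹ = (X ^ n)⁻¹ := by
    intro n
    rw [← inv_pow, ← hbX, conj_pow]
  -- the order of `X` is odd
  have hodd : Odd (orderOf X) := by
    rw [← Nat.not_even_iff_odd]
    intro hev
    obtain ⟨k, hk⟩ := hev
    have hpos : 0 < orderOf X := orderOf_pos X
    have hk0 : 0 < k := by omega
    set z := X ^ k with hz
    have hz2 : z * z = 1 := by rw [hz, ← pow_add, ← hk, pow_orderOf_eq_one]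
    have hz1 : z ≠ 1 := by
      intro h
      have := orderOf_dvd_of_pow_eq_one h
      have := Nat.le_of_dvd hk0 this
      omega
    have hzi : z⁻¹ = z := inv_eq_of_mul_eq_one_left hz2
    have hzs : z ∈ spGL 2 F := Subgroup.pow_mem _ hXs _
    have hza : z * a * z⁻¹ = a := by
      have h1 := haXn k
      rw [← hz, hzi] at h1
      calc z * a * z⁻¹ = (a * z * a⁻¹) * a * z⁻¹ := by rw [h1]
        _ = a := by group
    have hzb : z * b * z⁻¹ = b := by
      have h1 := hbXn k
      rw [← hz, hzi] at h1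
      calc z * b * z⁻¹ = (b * z * b⁻¹) * b * z⁻¹ := by rw [h1]
        _ = b := by group
    have hzu : (z : M4) *ᵥ u = u := by
      apply tGL_injective
      rw [← conj_tGL hzs, ← ha, hza]
    have hzv : (z : M4) *ᵥ v = v := by
      apply tGL_injective
      rw [← conj_tGL hzs, ← hb, hzb]
    apply hz1
    apply gl_ext
    intro x
    -- vectors orthogonal to both
    have hfix : ∀ x, sympForm 2 F x u = 0 → sympForm 2 F x v = 0 → (X : M4) *ᵥ x = x := by
      intro x h1 h2
      have e1 : (b : M4) *ᵥ x = x := by rw [hb, tGL_mulVec, h2]; simp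
      have e2 : (a : M4) *ᵥ x = x := by rw [ha, tGL_mulVec, h1]; simp
      rw [hX, mul_mulVec, e1, e2]
    have hfixn : ∀ n : ℕ, ∀ x, sympForm 2 F x u = 0 → sympForm 2 F x v = 0 → ((X ^ n : GL I4 F) : M4) *ᵥ x = x := by
      intro n
      induction n with
      | zero => intro x _ _; simp
      | succ n ih =>
        intro x h1 h2
        rw [pow_succ, mul_mulVec, hfix x h1 h2, ih x h1 h2]
    set s := sympForm 2 F u v with hs
    have hvu : sympForm 2 F v u = s := by rw [sympForm_swap, CharTwo.neg_eq]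
    set y := x + (sympForm 2 F x v / s) • u + (sympForm 2 F x u / s) • v with hy
    have hyu : sympForm 2 F y u = 0 := by
      rw [hy, sympForm_add_left, sympForm_add_left, sympForm_smul_left, sympForm_smul_left, sympForm_self, hvu, mul_zero,
        add_zero, div_mul_cancel₀ _ huv, CharTwo.add_self_eq_zero]
    have hyv : sympForm 2 F y v = 0 := by
      rw [hy, sympForm_add_left, sympForm_add_left, sympForm_smul_left, sympForm_smul_left, sympForm_self, ← hs, mul_zero,
        add_zero, div_mul_cancel₀ _ huv, CharTwo.add_self_eq_zero]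
    have h1 := hfixn k y hyu hyv
    rw [← hz, hy, Matrix.mulVec_add, Matrix.mulVec_add, Matrix.mulVec_smul, Matrix.mulVec_smul, hzu, hzv,
      add_left_inj, add_left_inj] at h1
    rw [h1]
    simp
  obtain ⟨j, hj⟩ := hodd
  -- conjugation by `X ^ (j + 1)`
  refine ⟨X ^ (j + 1), M.pow_mem hXM _, Subgroup.pow_mem _ hXs _, ?_⟩
  apply tGL_injective
  rw [← conj_tGL (Subgroup.pow_mem _ hXs _), ← hb, ← ha]
  have h1 : X ^ (j + 1) * X ^ (j + 1) = X := by
    rw [← pow_add, show j + 1 + (j + 1) = (2 * j + 1) + 1 by ring, pow_succ, ← hj, pow_orderOf_eq_one, one_mul]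
  have h2 := hbXn (j + 1)
  calc X ^ (j + 1) * b * (X ^ (j + 1))⁻¹ = X ^ (j + 1) * (b * (b * X ^ (j + 1) * b⁻¹)) := by rw [h2]; group
    _ = X ^ (j + 1) * ((b * b) * X ^ (j + 1) * b⁻¹) := by group
    _ = (X ^ (j + 1) * X ^ (j + 1)) * b := by rw [hb2, one_mul, hbi]; group
    _ = a := by rw [h1, hX, mul_assoc, hb2, mul_one]

/-- `b` such that the Siegel transformation of `(ea, b eb, b²)` lies in `M`. -/
def RR (M : Subgroup (GL I4 F)) (b : F) : Prop := sieg (ea : V4) (b • eb) (b ^ 2) ∈ M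

section vals

theorem f_ab : sympForm 2 F ea eb = 0 := by simp [form4]
theorem f_ad : sympForm 2 F ea ed = 0 := by simp [form4]
theorem f_ac : sympForm 2 F ea ec = 1 := by simp [form4]
theorem f_bd : sympForm 2 F eb ed = 1 := by simp [form4]
theorem f_bc : sympForm 2 F eb ec = 0 := by simp [form4]
theorem f_cd : sympForm 2 F ec ed = 0 := by simp [form4]
theorem f_ba : sympForm 2 F eb ea = 0 := by simp [form4]
theorem f_da : sympForm 2 F ed ea = 0 := by simp [form4]
theorem f_ca : sympForm 2 F ec ea = 1 := by simp [form4]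
theorem f_db : sympForm 2 F ed eb = 1 := by simp [form4]
theorem f_cb : sympForm 2 F ec eb = 0 := by simp [form4]
theorem f_dc : sympForm 2 F ed ec = 0 := by simp [form4]

end vals

theorem f_ea_comb (b b' : F) : sympForm 2 F ea (b • eb + b' • ed) = 0 := by
  rw [sympForm_add_right, sympForm_smul_right, sympForm_smul_right, f_ab, f_ad]; ring

section main

variable (hM : H0 F₀ ≤ M)

include hM

/-- from a Siegel transformation with axis vector `b eb + b' ed` to `RR`. -/
theorem RR_of_right {b b' c : F} (h : sieg (ea : V4) (b • eb + b' • ed) c ∈ M) : RR M b' := by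
  have ht : tGL (eb : V4) 1 ∈ M := hM (tGL_mem_H0 (V0_single _) F₀.one_mem)
  have h1 := M.mul_mem (M.mul_mem ht h) (M.inv_mem ht)
  rw [conj_sieg (tGL_mem _ _)] at h1
  have e1 : (tGL (eb : V4) 1 : M4) *ᵥ ea = ea := by
    rw [tGL_mulVec, f_ab, mul_zero, zero_smul, add_zero]
  have e2 : (tGL (eb : V4) 1 : M4) *ᵥ (b • eb + b' • ed) = (b + b') • eb + b' • ed := by
    rw [tGL_mulVec, sympForm_add_left, sympForm_smul_left, sympForm_smul_left, sympForm_self, f_db]
    module
  rw [e1, e2] at h1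
  have h2 := M.mul_mem h h1
  rw [sieg_mul (f_ea_comb _ _) (f_ea_comb _ _)] at h2
  have e3 : (b • eb + b' • ed : V4) + ((b + b') • eb + b' • ed) = b' • eb := by
    ext i
    rcases i with i | i <;> fin_cases i <;> simp
    · rw [← add_assoc, CharTwo.add_self_eq_zero, zero_add]
    · exact CharTwo.add_self_eq_zero _
  have e4 : c + c + sympForm 2 F ((b + b') • eb + b' • ed) (b • eb + b' • ed) = b' ^ 2 := by
    rw [CharTwo.add_self_eq_zero, zero_add, form4]
    simp
    have h2' : (2 : F) = 0 := CharTwo.two_eq_zero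
    linear_combination (b * b') * h2'
  rw [e3, e4] at h2
  exact h2

theorem sieg_swap {b b' c : F} (h : sieg (ea : V4) (b • eb + b' • ed) c ∈ M) :
    sieg (ea : V4) (b' • eb + b • ed) c ∈ M := by
  have ht : tGL (eb + ed : V4) 1 ∈ M := hM (tGL_mem_H0 ((V0_single _).add (V0_single _)) F₀.one_mem)
  have h1 := M.mul_mem (M.mul_mem ht h) (M.inv_mem ht)
  rw [conj_sieg (tGL_mem _ _)] at h1
  have e1 : (tGL (eb + ed : V4) 1 : M4) *ᵥ ea = ea := by
    rw [tGL_mulVec, sympForm_add_right, f_ab, f_ad]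
    simp
  have e2 : (tGL (eb + ed : V4) 1 : M4) *ᵥ (b • eb + b' • ed) = b' • eb + b • ed := by
    rw [tGL_mulVec, form4]
    ext i
    rcases i with i | i <;> fin_cases i <;> simp
    · rw [← add_assoc, CharTwo.add_self_eq_zero, zero_add]
    · rw [add_comm b b', ← add_assoc, CharTwo.add_self_eq_zero, zero_add]
  rw [e1, e2] at h1
  exact h1

theorem RR_of_left {b b' c : F} (h : sieg (ea : V4) (b • eb + b' • ed) c ∈ M) : RR M b :=
  RR_of_right hM (sieg_swap hM h)

theorem RR.swap {b : F} (h : RR M b) : sieg (ea : V4) (b • ed) (b ^ 2) ∈ M := by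
  have h1 : sieg (ea : V4) (b • eb + (0 : F) • ed) (b ^ 2) ∈ M := by
    rw [zero_smul, add_zero]; exact h
  have h2 := sieg_swap hM h1
  rwa [zero_smul, zero_add] at h2

theorem RR_of_mem {a : F} (ha : a ∈ F₀) : RR M a :=
  hM (sieg_mem_H0 (V0_single _) ((V0_single _).smul ha) (F₀.pow_mem ha 2))

theorem RR_of_tGL {c : F} (h : tGL (ea : V4) c ∈ M) : RR M c := by
  obtain ⟨g, hg, hga⟩ := exists_H0_mulVec (F₀ := F₀) (x := ea) (y := eb) (V0_single _) (V0_single _) (by simp) (by simp)
  obtain ⟨g', hg', hga'⟩ := exists_H0_mulVec (F₀ := F₀) (x := ea) (y := eb + (1 : F) • ea) (V0_single _)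
    ((V0_single _).add ((V0_single _).smul F₀.one_mem)) (by simp) (by
      intro h0
      have := congrFun h0 (.inl 0)
      simp at this)
  have h1 : tGL (eb : V4) c ∈ M := by
    rw [← hga, ← conj_tGL hg.2]
    exact M.mul_mem (M.mul_mem (hM hg) h) (M.inv_mem (hM hg))
  have h2 : tGL (eb + (1 : F) • ea : V4) c ∈ M := by
    rw [← hga', ← conj_tGL hg'.2]
    exact M.mul_mem (M.mul_mem (hM hg') h) (M.inv_mem (hM hg'))
  rw [tGL_add_smul f_ab] at h2
  have h3 := M.mul_mem (M.inv_mem h1) h2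
  rw [inv_mul_cancel_left] at h3
  have h4 : sieg (ea : V4) (c • eb + (0 : F) • ed) (c * 1 ^ 2) ∈ M := by
    rw [zero_smul, add_zero]
    rwa [mul_one] at h3
  exact RR_of_left hM h4

/-- the two transvections. -/
theorem RR.two {b : F} (h : RR M b) : tGL (ea : V4) (b ^ 2) * tGL (eb : V4) (b ^ 2) ∈ M := by
  have hw : sympForm 2 F (ea + eb) (ec + ed) = 0 := by
    simp only [sympForm_add_left, sympForm_add_right, f_ac, f_ad, f_bc, f_bd]
    rw [add_zero, zero_add, CharTwo.add_self_eq_zero]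
  have hg : sieg (ea + eb : V4) (ec + ed) 0 ∈ H0 F₀ :=
    sieg_mem_H0 ((V0_single _).add (V0_single _)) ((V0_single _).add (V0_single _)) F₀.zero_mem
  have h1 := M.mul_mem (M.mul_mem (hM hg) h) (M.inv_mem (hM hg))
  rw [conj_sieg (sieg_mem _ _ _)] at h1
  have e1 : (sieg (ea + eb : V4) (ec + ed) 0 : M4) *ᵥ ea = eb := by
    rw [sieg_mulVec hw]
    simp only [sympForm_add_right, f_ab, f_ac, f_ad, sympForm_self]
    ext i
    rcases i with i | i <;> fin_cases i <;> simp
    exact CharTwo.add_self_eq_zero _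
  have e2 : (sieg (ea + eb : V4) (ec + ed) 0 : M4) *ᵥ (b • eb) = b • ea := by
    rw [sieg_mulVec hw]
    simp only [sympForm_add_right, sympForm_smul_left, f_ba, f_bc, f_bd, sympForm_self]
    ext i
    rcases i with i | i <;> fin_cases i <;> simp
    exact CharTwo.add_self_eq_zero _
  rw [e1, e2] at h1
  have h2 := M.mul_mem h h1
  have e3 : sieg (ea : V4) (b • eb) (b ^ 2) * sieg (eb : V4) (b • ea) (b ^ 2) =
      tGL (ea : V4) (b ^ 2) * tGL (eb : V4) (b ^ 2) := by
    apply gl_ext
    intro x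
    have h3 : sympForm 2 F (ea : V4) (b • eb) = 0 := by rw [sympForm_smul_right, f_ab, mul_zero]
    have h4 : sympForm 2 F (eb : V4) (b • ea) = 0 := by rw [sympForm_smul_right, f_ba, mul_zero]
    rw [mul_mulVec, mul_mulVec, sieg_mulVec h3, sieg_mulVec h4, tGL_mulVec, tGL_mulVec]
    simp only [sympForm_add_left, sympForm_smul_left, sympForm_smul_right, sympForm_self, f_ab, f_ba]
    have h2' : (2 : F) = 0 := CharTwo.two_eq_zero
    ext i
    simp only [Pi.add_apply, Pi.smul_apply, smul_eq_mul]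
    linear_combination (b * sympForm 2 F x eb * (ea : V4) i + b * sympForm 2 F x ea * (eb : V4) i) * h2'
  rwa [e3] at h2

/-- images of `F₀`-vectors. -/
theorem Uo_of_V0 {u : V4} (hu : V0 F₀ u) : Uo M u := hM (tGL_mem_H0 hu F₀.one_mem)

/-- `(1 + b²) eb + ed + b ea`. -/
theorem RR.vec {b : F} (h : RR M b) : Uo M (eb + b • ea + (ed + (b ^ 2) • eb) : V4) := by
  have h1 : Uo M (eb + b • ea : V4) := by
    have h2 := (Uo_of_V0 hM (V0_single (.inl 1))).map (RR.swap hM h) (sieg_mem _ _ _)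
    have h3 : sympForm 2 F (ea : V4) (b • ed) = 0 := by rw [sympForm_smul_right, f_ad, mul_zero]
    rw [sieg_mulVec h3] at h2
    have e : (eb + sympForm 2 F eb ea • b • ed + sympForm 2 F eb (b • ed) • ea + (b ^ 2 * sympForm 2 F eb ea) • ea : V4)
        = eb + b • ea := by
      rw [f_ba, sympForm_smul_right, f_bd]
      simp
    rwa [e] at h2
  have h4 : Uo M (ed + (b ^ 2) • eb : V4) := by
    have h2 := (Uo_of_V0 hM (V0_single (.inr 1))).map (RR.two hM h) (Subgroup.mul_mem _ (tGL_mem _ _) (tGL_mem _ _))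
    have e : ((tGL (ea : V4) (b ^ 2) * tGL (eb : V4) (b ^ 2) : GL I4 F) : M4) *ᵥ (Pi.single (Sum.inr 1) 1) =
        ed + (b ^ 2) • eb := by
      rw [mul_mulVec, tGL_mulVec (v := eb), f_db, mul_one, tGL_mulVec, sympForm_add_left, sympForm_smul_left, f_da, f_ba]
      simp
    rwa [e] at h2
  have h5 := h1.add h4
  have e : sympForm 2 F (eb + b • ea : V4) (ed + (b ^ 2) • eb) = 1 := by
    simp only [sympForm_add_left, sympForm_add_right, sympForm_smul_left, sympForm_smul_right, f_bd, f_ad, f_ab,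
      sympForm_self]
    ring
  rwa [e, one_smul] at h5

/-- `RR` is closed under `(b₁, b) ↦ b₁ b²`. -/
theorem RR.mul_sq {b b₁ : F} (h : RR M b) (h₁ : RR M b₁) : RR M (b₁ * b ^ 2) := by
  have hu := RR.vec hM h
  set u : V4 := eb + b • ea + (ed + (b ^ 2) • eb) with hu'
  have h1 := M.mul_mem (M.mul_mem hu h₁) (M.inv_mem hu)
  rw [conj_sieg (tGL_mem _ _)] at h1
  have e1 : (tGL u 1 : M4) *ᵥ ea = ea := by
    rw [tGL_mulVec, hu']
    simp only [sympForm_add_right, sympForm_smul_right, f_ab, f_ad, sympForm_self]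
    simp
  have e2 : (tGL u 1 : M4) *ᵥ (b₁ • eb) = ((b₁ * b ^ 2) • eb + b₁ • ed) + (b₁ * b) • ea := by
    rw [tGL_mulVec, hu']
    simp only [sympForm_add_right, sympForm_smul_right, sympForm_smul_left, f_ba, f_bd, sympForm_self]
    have h2' : (2 : F) = 0 := CharTwo.two_eq_zero
    ext i
    rcases i with i | i <;> fin_cases i <;> simp
    linear_combination b₁ * h2'
  rw [e1, e2, sieg_add_smul (f_ea_comb _ _)] at h1
  exact RR_of_left hM h1

omit hM in
theorem RR.add {b b' : F} (h : RR M b) (h' : RR M b') : RR M (b + b') := by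
  have h1 := M.mul_mem h h'
  have h2 : ∀ b : F, sympForm 2 F (ea : V4) (b • eb) = 0 := fun b => by rw [sympForm_smul_right, f_ab, mul_zero]
  rw [sieg_mul (h2 _) (h2 _)] at h1
  have e : b ^ 2 + b' ^ 2 + sympForm 2 F (b' • eb) (b • eb) = (b + b') ^ 2 := by
    rw [sympForm_smul_left, sympForm_smul_right, sympForm_self, CharTwo.add_sq]; ring
  rwa [e, ← add_smul] at h1

end main

/-- A set `R` containing `F₀`, additively closed and closed under `(b₁, b) ↦ b₁ b²`, `F` of prime degree over `F₀`. -/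
theorem eq_all_of_closed {r : ℕ} (hr : r.Prime) (hcard : Nat.card F = Nat.card F₀ ^ r) (R : F → Prop)
    (h0 : ∀ a ∈ F₀, R a) (hadd : ∀ a b, R a → R b → R (a + b)) (hmul : ∀ b b₁, R b → R b₁ → R (b₁ * b ^ 2))
    (hne : ∃ b, R b ∧ b ∉ F₀) : ∀ b, R b := by
  classical
  -- the multiplier subfield
  have hone : R 1 := h0 1 F₀.one_mem
  have hpow : ∀ (a : F) (n : ℕ), (∀ b, R b → R (b * a)) → ∀ b, R b → R (b * a ^ n) := by
    intro a n ha
    induction n with
    | zero => intro b hb; simpa using hb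
    | succ n ih => intro b hb; rw [pow_succ, ← mul_assoc]; exact ha _ (ih b hb)
  let E : Subfield F :=
    { carrier := {a | ∀ b, R b → R (b * a)}
      mul_mem' := by
        intro a a' ha ha' b hb
        rw [← mul_assoc]
        exact ha' _ (ha b hb)
      one_mem' := by
        intro b hb
        simpa using hb
      add_mem' := by
        intro a a' ha ha' b hb
        rw [mul_add]
        exact hadd _ _ (ha b hb) (ha' b hb)
      zero_mem' := by
        intro b _
        rw [mul_zero]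
        exact h0 0 F₀.zero_mem
      neg_mem' := by
        intro a ha
        rwa [CharTwo.neg_eq]
      inv_mem' := by
        intro a ha
        by_cases ha0 : a = 0
        · rw [ha0, inv_zero, ← ha0]; exact ha
        have : Fintype F := Fintype.ofFinite F
        have h1 : a⁻¹ = a ^ (Fintype.card F - 2) := by
          have h2 := FiniteField.pow_card_sub_one_eq_one a ha0
          have h3 : 2 ≤ Fintype.card F := Fintype.one_lt_card
          have h4 : a ^ (Fintype.card F - 2) * a = 1 := by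
            rw [← pow_succ, show Fintype.card F - 2 + 1 = Fintype.card F - 1 by omega, h2]
          exact (eq_inv_of_mul_eq_one_left h4).symm
        rw [h1]
        exact hpow a _ ha }
  have hE : ∀ a, a ∈ E ↔ ∀ b, R b → R (b * a) := fun a => Iff.rfl
  have hle : F₀ ≤ E := by
    intro a ha
    have hch : CharP F₀ 2 := inferInstance
    obtain ⟨s, hs⟩ := exists_sq (⟨a, ha⟩ : F₀)
    have h1 : (s : F) ^ 2 = a := by
      have := congrArg (fun z : F₀ => (z : F)) hs
      simpa using this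
    rw [hE]
    intro b hb
    rw [← h1]
    exact hmul _ _ (h0 _ s.2) hb
  have hEsq : ∀ b, R b → b ^ 2 ∈ E := by
    intro b hb
    rw [hE]
    intro b₁ hb₁
    exact hmul _ _ hb hb₁
  -- no intermediate fields
  have hfr : Module.finrank F₀ F = r := by
    have h1 : Nat.card F = Nat.card F₀ ^ Module.finrank F₀ F := Module.natCard_eq_pow_finrank
    rw [h1] at hcard
    have h2 : 1 < Nat.card F₀ := Finite.one_lt_card
    exact Nat.pow_right_injective h2 hcard
  have hsimple : IsSimpleOrder (IntermediateField F₀ F) :=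
    IntermediateField.isSimpleOrder_of_finrank_prime F₀ F (by rw [hfr]; exact hr)
  have htop : E = ⊤ := by
    rcases hsimple.eq_bot_or_eq_top (Subfield.extendScalars hle) with h1 | h1
    · exfalso
      obtain ⟨b, hb, hbn⟩ := hne
      apply hbn
      apply mem_of_sq
      have h2 : b ^ 2 ∈ Subfield.extendScalars hle := (Subfield.mem_extendScalars hle).2 (hEsq b hb)
      rw [h1, IntermediateField.mem_bot] at h2
      obtain ⟨a, ha⟩ := h2
      rw [← ha]
      exact a.2
    · rw [eq_top_iff]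
      intro x _
      have h2 : x ∈ Subfield.extendScalars hle := by rw [h1]; trivial
      exact (Subfield.mem_extendScalars hle).1 h2
  intro b
  have h1 : b ∈ E := by rw [htop]; trivial
  have h2 := h1 1 hone
  rwa [one_mul] at h2

/-! ### The dichotomy -/

section dich

variable (hM : H0 F₀ ≤ M)

include hM

/-- all transvection centres are `F₀`-vectors. -/
theorem V0_of_all (hsub : ∀ y, V0 F₀ y → y ≠ 0 → ∀ u, Uo M u → sympForm 2 F u y = 0 → V0 F₀ u)
    {u : V4} (hu : Uo M u) : V0 F₀ u := by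
  by_cases hu0 : u = 0
  · rw [hu0]; intro i; exact F₀.zero_mem
  obtain ⟨j, hj⟩ : ∃ j, sympForm 2 F u (Pi.single j 1) ≠ 0 := by
    by_contra hcon
    push Not at hcon
    apply hu0
    funext j
    rcases j with j | j
    · have := hcon (.inr j)
      rw [sympForm_single_inr_right] at this
      simpa using this
    · have := hcon (.inl j)
      rw [sympForm_single_inl_right] at this
      simpa using this
  obtain ⟨h, hhM, hhs, hh⟩ := exists_conj hu (Uo_of_V0 hM (V0_single j)) hj
  have hform : ∀ x y, sympForm 2 F (((h⁻¹ : GL I4 F) : M4) *ᵥ x) (((h⁻¹ : GL I4 F) : M4) *ᵥ y) = sympForm 2 F x y :=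
    fun x y => sp_form (Subgroup.inv_mem _ hhs) x y
  have hinv : ((h⁻¹ : GL I4 F) : M4) *ᵥ u = Pi.single j 1 := by
    rw [← hh]
    exact inv_mulVec_cancel _ _
  -- one pair
  have main : ∀ e w : V4, V0 F₀ e → V0 F₀ w → sympForm 2 F e w = 0 →
      Uo M (sympForm 2 F u e • w + sympForm 2 F u w • e) := by
    intro e w he hw hew
    have hg : sieg e w 0 ∈ H0 F₀ := sieg_mem_H0 he hw F₀.zero_mem
    have e1 : (sieg e w 0 : M4) *ᵥ u = u + (sympForm 2 F u e • w + sympForm 2 F u w • e) := by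
      rw [sieg_mulVec hew]
      simp [add_assoc]
    have h1 := hu.map (hM hg) hg.2
    rw [e1] at h1
    set s := sympForm 2 F u e • w + sympForm 2 F u w • e with hs
    have hus : sympForm 2 F u s = 0 := by
      rw [hs, sympForm_add_right, sympForm_smul_right, sympForm_smul_right, mul_comm, CharTwo.add_self_eq_zero]
    have h2 := h1.map (M.inv_mem hhM) (Subgroup.inv_mem _ hhs)
    have h3 : sympForm 2 F (((h⁻¹ : GL I4 F) : M4) *ᵥ (u + s)) (Pi.single j 1) = 0 := by
      rw [← hinv, hform, sympForm_add_left, sympForm_self, sympForm_swap, hus]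
      simp
    have h4 := hsub _ (V0_single j) (by simp) _ h2 h3
    rw [Matrix.mulVec_add, hinv] at h4
    have h5 : V0 F₀ (((h⁻¹ : GL I4 F) : M4) *ᵥ s) := by
      have h6 := h4.add (V0_single (F₀ := F₀) j)
      have h7 : (Pi.single j 1 + ((h⁻¹ : GL I4 F) : M4) *ᵥ s + Pi.single j 1 : V4) = ((h⁻¹ : GL I4 F) : M4) *ᵥ s := by
        ext i
        simp only [Pi.add_apply]
        have h2' : (2 : F) = 0 := CharTwo.two_eq_zero
        linear_combination (Pi.single (M := fun _ => F) j 1 i) * h2'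
      rwa [h7] at h6
    have h8 := (Uo_of_V0 hM h5).map hhM hhs
    have h9 : (h : M4) *ᵥ (((h⁻¹ : GL I4 F) : M4) *ᵥ s) = s := mulVec_inv_cancel _ _
    rwa [h9] at h8
  have hab := main ea eb (V0_single _) (V0_single _) f_ab
  have hcd := main ec ed (V0_single _) (V0_single _) f_cd
  have h1 := hsub ea (V0_single _) (by simp) _ hab (by
    rw [sympForm_add_left, sympForm_smul_left, sympForm_smul_left, f_ba, sympForm_self]; ring)
  have h2 := hsub ec (V0_single _) (by simp) _ hcd (by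
    rw [sympForm_add_left, sympForm_smul_left, sympForm_smul_left, f_dc, sympForm_self]; ring)
  intro i
  have i1 := h1 (.inl 0)
  have i2 := h1 (.inl 1)
  have i3 := h2 (.inr 0)
  have i4 := h2 (.inr 1)
  simp [form4] at i1 i2 i3 i4
  rcases i with i | i <;> fin_cases i
  · exact i4
  · exact i3
  · exact i2
  · exact i1

theorem le_H0_of_all (hMs : M ≤ spGL 2 F)
    (hsub : ∀ y, V0 F₀ y → y ≠ 0 → ∀ u, Uo M u → sympForm 2 F u y = 0 → V0 F₀ u) : M ≤ H0 F₀ := by
  intro g hg
  apply mem_H0_of (hMs hg)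
  intro j
  exact V0_of_all hM hsub ((Uo_of_V0 hM (V0_single j)).map hg (hMs hg))

/-- the other case gives a new parameter. -/
theorem exists_RR {y u : V4} (hy : V0 F₀ y) (hy0 : y ≠ 0) (hu : Uo M u) (huy : sympForm 2 F u y = 0)
    (hun : ¬ V0 F₀ u) : ∃ b, RR M b ∧ b ∉ F₀ := by
  -- reduction to `y = ea`
  obtain ⟨g, hg, hgy⟩ := exists_H0_mulVec (F₀ := F₀) hy (V0_single (.inl 0)) hy0 (by simp)
  have hu1 := hu.map (hM hg) hg.2
  have hu2 : sympForm 2 F ((g : M4) *ᵥ u) (Pi.single (Sum.inl 0) 1) = 0 := by rw [← hgy, sp_form hg.2, huy]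
  have hu3 : ¬ V0 F₀ ((g : M4) *ᵥ u) := by
    intro h
    apply hun
    have h1 := H0_mulVec (Subgroup.inv_mem _ hg) h
    rwa [inv_mulVec_cancel] at h1
  generalize (g : M4) *ᵥ u = v at hu1 hu2 hu3
  set α := v (.inl 0) with hα
  set β := v (.inl 1) with hβ
  set β' := v (.inr 1) with hβ'
  have hv : v = (β • eb + β' • ed) + α • ea := by
    ext i
    rcases i with i | i <;> fin_cases i <;> simp [hα, hβ, hβ']
    rw [form4] at hu2
    simpa using hu2
  have hta : (tGL v 1 : M4) *ᵥ ea = ea := by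
    rw [tGL_mulVec, sympForm_swap, hu2]
    simp
  have hnsq : ∀ a : F, a ∉ F₀ → a ^ 2 ∉ F₀ := fun a ha h => ha (mem_of_sq h)
  by_cases h1 : β' ∈ F₀
  swap
  · refine ⟨β' ^ 2, ?_, hnsq _ h1⟩
    have hs : sieg (ea : V4) eb 1 ∈ H0 F₀ := sieg_mem_H0 (V0_single _) (V0_single _) F₀.one_mem
    have h2 := M.mul_mem (M.mul_mem hu1 (hM hs)) (M.inv_mem hu1)
    rw [conj_sieg (tGL_mem _ _), hta] at h2
    have e2 : (tGL v 1 : M4) *ᵥ eb = ((1 + β' * β) • eb + (β' ^ 2) • ed) + (β' * α) • ea := by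
      rw [tGL_mulVec, hv]
      simp only [sympForm_add_right, sympForm_smul_right, f_ba, f_bd, sympForm_self]
      ext i
      rcases i with i | i <;> fin_cases i <;> simp
      ring
    rw [e2, sieg_add_smul (f_ea_comb _ _)] at h2
    exact RR_of_right hM h2
  by_cases h2 : β ∈ F₀
  swap
  · refine ⟨β ^ 2, ?_, hnsq _ h2⟩
    have hs : sieg (ea : V4) ed 1 ∈ H0 F₀ := sieg_mem_H0 (V0_single _) (V0_single _) F₀.one_mem
    have h2 := M.mul_mem (M.mul_mem hu1 (hM hs)) (M.inv_mem hu1)
    rw [conj_sieg (tGL_mem _ _), hta] at h2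
    have e2 : (tGL v 1 : M4) *ᵥ ed = ((β ^ 2) • eb + (1 + β * β') • ed) + (β * α) • ea := by
      rw [tGL_mulVec, hv]
      simp only [sympForm_add_right, sympForm_smul_right, f_da, f_db, sympForm_self]
      ext i
      rcases i with i | i <;> fin_cases i <;> simp
      ring
    rw [e2, sieg_add_smul (f_ea_comb _ _)] at h2
    exact RR_of_left hM h2
  have h3 : α ∉ F₀ := by
    intro h3
    apply hu3
    rw [hv]
    exact (((V0_single _).smul h2).add ((V0_single _).smul h1)).add ((V0_single _).smul h3)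
  by_cases h4 : β = 0 ∧ β' = 0
  · refine ⟨α ^ 2, ?_, hnsq _ h3⟩
    apply RR_of_tGL hM
    have h5 : v = α • ea := by
      rw [hv, h4.1, h4.2]; simp
    rw [Uo, h5, tGL_smul, mul_one] at hu1
    exact hu1
  have h5 := hu1
  rw [Uo, hv, tGL_add_smul (f_ea_comb _ _), one_mul, one_mul] at h5
  have h6 : tGL (β • eb + β' • ed : V4) 1 ∈ M :=
    hM (tGL_mem_H0 (((V0_single _).smul h2).add ((V0_single _).smul h1)) F₀.one_mem)
  have h7 := M.mul_mem (M.inv_mem h6) h5
  rw [inv_mul_cancel_left, smul_add, smul_smul, smul_smul] at h7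
  by_cases h8 : β = 0
  · have h9 : β' ≠ 0 := fun h => h4 ⟨h8, h⟩
    refine ⟨α * β', RR_of_right hM h7, fun h => h3 ?_⟩
    have := F₀.mul_mem h (F₀.inv_mem h1)
    rwa [mul_assoc, mul_inv_cancel₀ h9, mul_one] at this
  · refine ⟨α * β, RR_of_left hM h7, fun h => h3 ?_⟩
    have := F₀.mul_mem h (F₀.inv_mem h2)
    rwa [mul_assoc, mul_inv_cancel₀ h8, mul_one] at this

/-- all parameters: everything. -/
theorem spGL_le_of_RR (hR : ∀ b, RR M b) : spGL 2 F ≤ M := by
  have h1 : ∀ c : F, Uo M (ec + c • ea : V4) := by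
    intro c
    obtain ⟨b, hb⟩ := exists_sq c
    have h2 := (Uo_of_V0 hM (V0_single (.inr 0))).map (RR.two hM (hR b)) (Subgroup.mul_mem _ (tGL_mem _ _) (tGL_mem _ _))
    have e : ((tGL (ea : V4) (b ^ 2) * tGL (eb : V4) (b ^ 2) : GL I4 F) : M4) *ᵥ (Pi.single (Sum.inr 0) 1) =
        ec + c • ea := by
      rw [mul_mulVec, tGL_mulVec (v := eb), f_cb, mul_zero, zero_smul, add_zero, tGL_mulVec, f_ca, mul_one, hb]
    rwa [e] at h2
  have h2 : ∀ l : F, Uo M (l • ec : V4) := by
    intro l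
    by_cases hl : l = 0
    · rw [hl, zero_smul, Uo, tGL_zero_left]; exact M.one_mem
    have h3 := (h1 ((1 + l) ^ 2 / l)).add (h1 ((1 + l) ^ 2 / l + (1 + l)))
    have h2' : (2 : F) = 0 := CharTwo.two_eq_zero
    have e1 : sympForm 2 F (ec + ((1 + l) ^ 2 / l) • ea : V4) (ec + ((1 + l) ^ 2 / l + (1 + l)) • ea) = 1 + l := by
      simp only [sympForm_add_left, sympForm_add_right, sympForm_smul_left, sympForm_smul_right, f_ca, f_ac,
        sympForm_self]
      linear_combination ((1 + l) ^ 2 / l) * h2'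
    rw [e1] at h3
    have e2 : (ec + ((1 + l) ^ 2 / l) • ea + (1 + l) • (ec + ((1 + l) ^ 2 / l + (1 + l)) • ea) : V4) = l • ec := by
      ext i
      rcases i with i | i <;> fin_cases i <;> simp
      · field_simp
        linear_combination (1 + 3 * l + 3 * l ^ 2 + l ^ 3) * h2'
      · linear_combination h2'
    rwa [e2] at h3
  have h3 : UU M (ec : V4) := by
    intro c
    obtain ⟨l, hl⟩ := exists_sq c
    have := h2 l
    rw [Uo, tGL_smul, mul_one, hl] at this
    exact this
  have h4 : ∀ y : V4, V0 F₀ y → y ≠ 0 → UU M y := by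
    intro y hy hy0
    obtain ⟨g, hg, hgy⟩ := exists_H0_mulVec (F₀ := F₀) (V0_single (.inr 0)) hy (by simp) hy0
    rw [← hgy]
    exact h3.map (hM hg) hg.2
  apply spGL_le_of_UU
  -- decomposition
  let D0 : Submodule F V4 :=
    { carrier := {x | x (.inl 1) = 0 ∧ x (.inr 1) = 0}
      add_mem' := by
        rintro x y ⟨h1, h2⟩ ⟨h3, h4⟩
        exact ⟨by rw [Pi.add_apply, h1, h3, add_zero], by rw [Pi.add_apply, h2, h4, add_zero]⟩
      zero_mem' := ⟨rfl, rfl⟩
      smul_mem' := by
        rintro a x ⟨h1, h2⟩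
        exact ⟨by rw [Pi.smul_apply, h1, smul_zero], by rw [Pi.smul_apply, h2, smul_zero]⟩ }
  let D1 : Submodule F V4 :=
    { carrier := {x | x (.inl 0) = 0 ∧ x (.inr 0) = 0}
      add_mem' := by
        rintro x y ⟨h1, h2⟩ ⟨h3, h4⟩
        exact ⟨by rw [Pi.add_apply, h1, h3, add_zero], by rw [Pi.add_apply, h2, h4, add_zero]⟩
      zero_mem' := ⟨rfl, rfl⟩
      smul_mem' := by
        rintro a x ⟨h1, h2⟩
        exact ⟨by rw [Pi.smul_apply, h1, smul_zero], by rw [Pi.smul_apply, h2, smul_zero]⟩ }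
  have ha0 : (ea : V4) ∈ D0 := ⟨by simp, by simp⟩
  have hc0 : (ec : V4) ∈ D0 := ⟨by simp, by simp⟩
  have hb1 : (eb : V4) ∈ D1 := ⟨by simp, by simp⟩
  have hd1 : (ed : V4) ∈ D1 := ⟨by simp, by simp⟩
  have hn0' : ∀ v ∈ D0, v ≠ 0 → ∃ x ∈ D0, sympForm 2 F v x ≠ 0 := by
    intro v hv h0
    by_contra h
    push Not at h
    apply h0
    have i1 := h _ ha0
    have i2 := h _ hc0
    simp [form4] at i1 i2
    ext i
    rcases i with i | i <;> fin_cases i
    · exact i2
    · exact hv.1
    · exact i1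
    · exact hv.2
  have hn0 : Cfsg.Geo.IsNondegenerateOn (sympForm 2 F) D0 := by
    intro v hv h0
    obtain ⟨x, hx, hvx⟩ := hn0' v hv h0
    exact ⟨⟨x, hx, by rw [sympForm_swap]; exact neg_ne_zero.2 hvx⟩, ⟨x, hx, hvx⟩⟩
  have hn1' : ∀ v ∈ D1, v ≠ 0 → ∃ x ∈ D1, sympForm 2 F v x ≠ 0 := by
    intro v hv h0
    by_contra h
    push Not at h
    apply h0
    have i1 := h _ hb1
    have i2 := h _ hd1
    simp [form4] at i1 i2
    ext i
    rcases i with i | i <;> fin_cases i
    · exact hv.1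
    · exact i2
    · exact hv.2
    · exact i1
  have hn1 : Cfsg.Geo.IsNondegenerateOn (sympForm 2 F) D1 := by
    intro v hv h0
    obtain ⟨x, hx, hvx⟩ := hn1' v hv h0
    exact ⟨⟨x, hx, by rw [sympForm_swap]; exact neg_ne_zero.2 hvx⟩, ⟨x, hx, hvx⟩⟩
  have hD0 : ∀ v ∈ D0, UU M v := by
    rintro v ⟨hv1, hv2⟩
    have e : v = v (.inl 0) • ea + v (.inr 0) • ec := by
      ext i
      rcases i with i | i <;> fin_cases i <;> simp [hv1, hv2]
    rw [e]
    exact (h4 ea (V0_single _) (by simp)).add (h4 ec (V0_single _) (by simp)) (by rw [f_ac]; exact one_ne_zero) _ _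
  have hD1 : ∀ v ∈ D1, UU M v := by
    rintro v ⟨hv1, hv2⟩
    have e : v = v (.inl 1) • eb + v (.inr 1) • ed := by
      ext i
      rcases i with i | i <;> fin_cases i <;> simp [hv1, hv2]
    rw [e]
    exact (h4 eb (V0_single _) (by simp)).add (h4 ed (V0_single _) (by simp)) (by rw [f_bd]; exact one_ne_zero) _ _
  have horth : ∀ x ∈ D0, ∀ y ∈ D1, sympForm 2 F x y = 0 := by
    rintro x ⟨hx1, hx2⟩ y ⟨hy1, hy2⟩
    rw [form4, hx1, hx2, hy1, hy2]; ring
  have horth' : ∀ y ∈ D1, ∀ x ∈ D0, sympForm 2 F y x = 0 := by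
    intro y hy x hx
    rw [sympForm_swap, horth x hx y hy, neg_zero]
  have h5 : UU M (ea + eb : V4) := h4 _ ((V0_single _).add (V0_single _)) (by
    intro h0
    have := congrFun h0 (.inl 0)
    simp at this)
  have h6 : ∀ y ∈ D1, y ≠ 0 → UU M (ea + y : V4) := by
    intro y hy hy0
    have h7 : UU M (eb + ea : V4) := by rw [add_comm]; exact h5
    have h8 := UU.move hn1 hD1 hb1 (by simp) hy hy0 (fun d hd => horth _ ha0 d hd) h7
    rwa [add_comm] at h8
  intro v
  have e : v = (v (.inl 0) • ea + v (.inr 0) • ec) + (v (.inl 1) • eb + v (.inr 1) • ed) := by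
    ext i
    rcases i with i | i <;> fin_cases i <;> simp
  set x := (v (.inl 0) • ea + v (.inr 0) • ec : V4) with hx
  set y := (v (.inl 1) • eb + v (.inr 1) • ed : V4) with hy
  have hxD : x ∈ D0 := D0.add_mem (D0.smul_mem _ ha0) (D0.smul_mem _ hc0)
  have hyD : y ∈ D1 := D1.add_mem (D1.smul_mem _ hb1) (D1.smul_mem _ hd1)
  by_cases hx0 : x = 0
  · rw [e, hx0, zero_add]; exact hD1 _ hyD
  by_cases hy0 : y = 0
  · rw [e, hy0, add_zero]; exact hD0 _ hxD
  rw [e]
  exact UU.move hn0 hD0 ha0 (by simp) hxD hx0 (fun d hd => horth' _ hyD d hd) (h6 y hyD hy0)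

end dich

/-- the standard subfield subgroup is maximal. -/
theorem sub_maximal_std {r : ℕ} (hr : r.Prime) (hcard : Nat.card F = Nat.card F₀ ^ r) :
    Cfsg.Geo.IsMaximalIn (spGL 2 F) (H0 F₀) := by
  have hne : ∃ a : F, a ∉ F₀ := by
    by_contra hcon
    push Not at hcon
    have h1 : Nat.card F₀ = Nat.card F := Nat.card_congr (Equiv.subtypeUnivEquiv hcon)
    rw [h1] at hcard
    have h2 : 1 < Nat.card F := Finite.one_lt_card
    have h3 := Nat.pow_right_injective h2 (show Nat.card F ^ 1 = Nat.card F ^ r by rw [pow_one]; exact hcard)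
    exact hr.one_lt.ne h3
  refine ⟨lt_of_le_of_ne inf_le_right ?_, ?_⟩
  · intro h
    obtain ⟨a, ha⟩ := hne
    have h1 : tGL (ea : V4) a ∈ H0 F₀ := by rw [h]; exact tGL_mem _ _
    apply ha
    have h2 := H0_mulVec h1 (V0_single (.inr 0)) (.inl 0)
    rw [tGL_mulVec, f_ca] at h2
    simpa using h2
  · intro K hK hKs
    by_cases hsub : ∀ y, V0 F₀ y → y ≠ 0 → ∀ u, Uo K u → sympForm 2 F u y = 0 → V0 F₀ u
    · left
      exact le_antisymm (le_H0_of_all hK hKs hsub) hK
    · right
      push Not at hsub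
      obtain ⟨y, hy, hy0, u, hu, huy, hun⟩ := hsub
      obtain ⟨b, hb, hbn⟩ := exists_RR hK hy hy0 hu huy hun
      have hall := eq_all_of_closed hr hcard (RR K) (fun a ha => RR_of_mem hK ha) (fun a b ha hb => ha.add hb)
        (fun b b₁ hb hb₁ => RR.mul_sq hK hb hb₁) ⟨b, hb, hbn⟩
      exact le_antisymm hKs (spGL_le_of_RR hK hall)

end

end Cfsg.Agent.H910
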