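import Cfsg.Agent.H910.Weights
import Cfsg.Agent.H910.SubEvenMax

/-!
Subgroups of odd prime power order of `Sp_4(q)`, `q` even, are abelian (helper910).
-/

set_option autoImplicit false
open Cfsg
open scoped Matrix MatrixGroups

namespace Cfsg.Agent.H910

open Cfsg.Agent.ClassicalGeometry.SympBasic Cfsg.Agent.H876 Cfsg.Agent.S5652

/-- in a non-abelian finite `p`-group there are `y`, `c` with `c y c⁻¹ = z y`, `z ≠ 1` central, `z ^ p = 1`. -/
theorem exists_class_two {R : Type*} [Group R] [Finite R] {p : ℕ} [Fact p.Prime] (hR : IsPGroup p R)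
    (hne : ∃ a b : R, a * b ≠ b * a) :
    ∃ y c z : R, z ≠ 1 ∧ z ^ p = 1 ∧ (∀ g, z * g = g * z) ∧ c * y * c⁻¹ = z * y := by
  classical
  obtain ⟨a, b, hab⟩ := hne
  have hnt : Nontrivial (R ⧸ Subgroup.center R) := by
    rw [← not_subsingleton_iff_nontrivial]
    intro hsub
    have h1 : (a : R ⧸ Subgroup.center R) = 1 := Subsingleton.elim _ _
    rw [QuotientGroup.eq_one_iff, Subgroup.mem_center_iff] at h1
    exact hab (h1 b).symm
  have hQ : IsPGroup p (R ⧸ Subgroup.center R) := hR.to_quotient _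
  have hc := hQ.center_nontrivial
  obtain ⟨⟨ybar, hybar⟩, hy1⟩ := exists_ne (1 : Subgroup.center (R ⧸ Subgroup.center R))
  obtain ⟨y, rfl⟩ := QuotientGroup.mk_surjective ybar
  have hy : y ∉ Subgroup.center R := by
    intro h
    apply hy1
    apply Subtype.ext
    exact (QuotientGroup.eq_one_iff y).2 h
  rw [Subgroup.mem_center_iff] at hy
  push Not at hy
  obtain ⟨g, hg⟩ := hy
  set z := g * y * g⁻¹ * y⁻¹ with hz
  have hzc : z ∈ Subgroup.center R := by
    rw [← QuotientGroup.eq_one_iff, hz]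
    rw [Subgroup.mem_center_iff] at hybar
    have h1 := hybar (g : R ⧸ Subgroup.center R)
    show (g : R ⧸ Subgroup.center R) * (y : R ⧸ Subgroup.center R) * (g : R ⧸ Subgroup.center R)⁻¹ *
      (y : R ⧸ Subgroup.center R)⁻¹ = 1
    rw [h1]
    group
  have hz1 : z ≠ 1 := by
    intro h
    apply hg
    have h2 : g * y * g⁻¹ * y⁻¹ = 1 := h
    calc g * y = (g * y * g⁻¹ * y⁻¹) * (y * g) := by group
      _ = y * g := by rw [h2, one_mul]
  rw [Subgroup.mem_center_iff] at hzc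
  -- conjugates
  have hconj : ∀ k : ℕ, g ^ k * y * (g ^ k)⁻¹ = z ^ k * y := by
    intro k
    induction k with
    | zero => simp
    | succ k ih =>
      calc g ^ (k + 1) * y * (g ^ (k + 1))⁻¹ = g * (g ^ k * y * (g ^ k)⁻¹) * g⁻¹ := by rw [pow_succ']; group
        _ = g * (z ^ k * y) * g⁻¹ := by rw [ih]
        _ = z ^ k * (g * y * g⁻¹) := by
          have h3 : g * z ^ k = z ^ k * g := by
            have h4 : Commute g z := hzc g
            exact h4.pow_right k
          rw [← mul_assoc, h3]; simp only [mul_assoc]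
        _ = z ^ k * (z * y) := by rw [hz]; group
        _ = z ^ (k + 1) * y := by rw [pow_succ]; simp only [mul_assoc]
  obtain ⟨k, hk⟩ := hR.exists_card_eq
  obtain ⟨j, hj⟩ : ∃ j, orderOf z = p ^ j := IsPGroup.iff_orderOf.1 hR z
  have hj0 : j ≠ 0 := by
    rintro rfl
    rw [pow_zero, orderOf_eq_one_iff] at hj
    exact hz1 hj
  obtain ⟨i, rfl⟩ := Nat.exists_eq_succ_of_ne_zero hj0
  have hp : 1 < p := (Fact.out : p.Prime).one_lt
  refine ⟨y, g ^ p ^ i, z ^ p ^ i, ?_, ?_, ?_, hconj _⟩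
  · intro h
    have h1 := orderOf_dvd_of_pow_eq_one h
    rw [hj] at h1
    have h2 := (Nat.pow_dvd_pow_iff_le_right hp).1 h1
    omega
  · rw [← pow_mul, ← pow_succ, ← Nat.succ_eq_add_one, ← hj, pow_orderOf_eq_one]
  · intro g'
    have h4 : Commute g' z := hzc g'
    exact (h4.pow_right _).symm

/-- **subgroups of odd prime power order of `Sp_4(q)`, `q` even, are abelian.** -/
theorem odd_comm {F : Type*} [Field F] [Finite F] [CharP F 2] {p : ℕ} [hp : Fact p.Prime] (hp2 : p ≠ 2)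
    {R : Subgroup (GL (Fin 2 ⊕ Fin 2) F)} (hR : IsPGroup p R) (hRs : R ≤ spGL 2 F) :
    ∀ a ∈ R, ∀ b ∈ R, a * b = b * a := by
  classical
  by_contra hcon
  push Not at hcon
  obtain ⟨a, ha, b, hb, hab⟩ := hcon
  obtain ⟨y, c, z, hz1, hzp, hzc, hcy⟩ := exists_class_two hR ⟨⟨a, ha⟩, ⟨b, hb⟩, fun h => hab (congrArg Subtype.val h)⟩
  -- a common exponent
  have hodd : Odd (Nat.card R) := by
    obtain ⟨k, hk⟩ := hR.exists_card_eq
    rw [hk]
    exact ((Nat.Prime.odd_of_ne_two hp.out hp2)).pow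
  have hnF : ((Nat.card R : ℕ) : F) ≠ 0 := by
    rw [Ne, CharP.cast_eq_zero_iff F 2]
    intro h
    rw [Nat.odd_iff] at hodd
    omega
  let x : ZMod p → GL (Fin 2 ⊕ Fin 2) F := fun i => ((z ^ i.val * y : R) : GL (Fin 2 ⊕ Fin 2) F)
  have hxR : ∀ i, x i ∈ R := fun i => (z ^ i.val * y : R).2
  have hxs : ∀ i, x i ∈ spGL 2 F := fun i => hRs (hxR i)
  have hzk : ∀ (k : ℕ) (g : R), z ^ k * g = g * z ^ k := by
    intro k g
    have h4 : Commute z g := hzc g
    exact h4.pow_left k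
  have hxc : ∀ i j, x i * x j = x j * x i := by
    intro i j
    show ((z ^ i.val * y : R) : GL (Fin 2 ⊕ Fin 2) F) * ((z ^ j.val * y : R) : GL (Fin 2 ⊕ Fin 2) F) =
      ((z ^ j.val * y : R) : GL (Fin 2 ⊕ Fin 2) F) * ((z ^ i.val * y : R) : GL (Fin 2 ⊕ Fin 2) F)
    rw [← Subgroup.coe_mul, ← Subgroup.coe_mul]
    congr 1
    calc z ^ i.val * y * (z ^ j.val * y) = z ^ i.val * (y * z ^ j.val) * y := by simp only [mul_assoc]
      _ = z ^ i.val * (z ^ j.val * y) * y := by rw [hzk j.val y]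
      _ = z ^ j.val * (z ^ i.val * y) * y := by
        rw [← mul_assoc, ← mul_assoc, ← pow_add, ← pow_add, add_comm]
      _ = z ^ j.val * (y * z ^ i.val) * y := by rw [hzk i.val y]
      _ = z ^ j.val * y * (z ^ i.val * y) := by simp only [mul_assoc]
  have hxn : ∀ i, x i ^ Nat.card R = 1 := by
    intro i
    have h1 : (z ^ i.val * y : R) ^ Nat.card R = 1 := pow_card_eq_one'
    show ((z ^ i.val * y : R) : GL (Fin 2 ⊕ Fin 2) F) ^ Nat.card R = 1
    rw [← Subgroup.coe_pow, h1, Subgroup.coe_one]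
  have hxrot : ∀ i, (c : GL (Fin 2 ⊕ Fin 2) F) * x i * (c : GL (Fin 2 ⊕ Fin 2) F)⁻¹ = x (i + 1) := by
    intro i
    have h1 : c * (z ^ i.val * y) * c⁻¹ = z ^ (i + 1).val * y := by
      have h2 : z ^ (i + 1).val = z ^ (i.val + 1) := by
        have h3 : (i + 1).val = (i.val + 1) % p := by
          rw [ZMod.val_add, ZMod.val_one'']
          exact hp.out.one_lt.ne'
        rw [h3, ← pow_mod_orderOf z ((i.val + 1) % p), ← pow_mod_orderOf z (i.val + 1),
          Nat.mod_mod_of_dvd _ (orderOf_dvd_of_pow_eq_one hzp)]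
      rw [h2]
      calc c * (z ^ i.val * y) * c⁻¹ = (c * z ^ i.val) * y * c⁻¹ := by simp only [mul_assoc]
        _ = z ^ i.val * (c * y * c⁻¹) := by rw [← hzk i.val c]; simp only [mul_assoc]
        _ = z ^ i.val * (z * y) := by rw [hcy]
        _ = z ^ (i.val + 1) * y := by rw [pow_succ]; simp only [mul_assoc]
    show (c : GL (Fin 2 ⊕ Fin 2) F) * ((z ^ i.val * y : R) : GL (Fin 2 ⊕ Fin 2) F) * (c : GL (Fin 2 ⊕ Fin 2) F)⁻¹ =
      ((z ^ (i + 1).val * y : R) : GL (Fin 2 ⊕ Fin 2) F)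
    rw [← h1]
    rfl
  have hend : x 0 = x 1 → False := by
    intro h
    apply hz1
    have h1 : (z ^ (0 : ZMod p).val * y : R) = z ^ (1 : ZMod p).val * y := Subtype.ext h
    rw [ZMod.val_zero, ZMod.val_one'' hp.out.one_lt.ne', pow_zero, pow_one] at h1
    exact (mul_right_cancel h1).symm
  have hp3 : 3 ≤ p := by
    have := hp.out.two_le
    omega
  rcases Nat.lt_or_ge 4 p with h5 | h5
  · exact hend (rot_big (m := 2) (by omega) x hxc hnF hxn c hxrot)
  · have h3 : p = 3 := by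
      interval_cases p
      · rfl
      · exact absurd hp.out (by norm_num)
    subst h3
    exact hend (rot_three (m := 2) (by norm_num) x hxs hxc hodd hnF hxn c hxrot)

end Cfsg.Agent.H910
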