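import Cfsg.Agent.S5652

/-!
`O(Q)` is a maximal subgroup of `Sp_{2m}(q)`, `q` even, for every `m ≥ 2` (helper910).
`quad_maximal`: `Q` non-degenerate with polar form the standard alternating form.
-/

set_option autoImplicit false
open Cfsg
open scoped Matrix MatrixGroups

namespace Cfsg.Agent.H910

open Cfsg.Agent.ClassicalGeometry.SympBasic Cfsg.Agent.H876 Cfsg.Agent.S5652

variable {F : Type*} [Field F] {m : ℕ} {Q : (Fin m ⊕ Fin m → F) → F}

/-- a hyperbolic partner. -/
theorem exists_partner {a : Fin m ⊕ Fin m → F} (ha : a ≠ 0) : ∃ b, sympForm m F a b = 1 := by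
  obtain ⟨z, hz⟩ : ∃ z, sympForm m F a z ≠ 0 := by
    by_contra h
    push Not at h
    exact ha (eq_zero_of_forall_sympForm_right h)
  exact ⟨(sympForm m F a z)⁻¹ • z, by rw [sympForm_smul_right, inv_mul_cancel₀ hz]⟩

/-- every value is attained on the perpendicular space of a hyperbolic pair. -/
theorem exists_value_two [Finite F] [CharP F 2] (hm : 2 ≤ m)
    (hQ : Cfsg.Geo.IsNondegenerateQuadraticForm Q)
    (hpol : ∀ u v, QuadraticMap.polar Q u v = Cfsg.sympForm m F u v)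
    {a b : Fin m ⊕ Fin m → F} (hab : sympForm m F a b = 1) (t : F) :
    ∃ w, sympForm m F a w = 0 ∧ sympForm m F b w = 0 ∧ Q w = t := by
  classical
  set φ : (Fin m ⊕ Fin m → F) →ₗ[F] (F × F) := (sympBilin m F a).prod (sympBilin m F b) with hφ
  set W := LinearMap.ker φ with hW
  have hdim : 1 ≤ Module.finrank F W := by
    have h1 := LinearMap.finrank_range_add_finrank_ker φ
    have h2 : Module.finrank F (LinearMap.range φ) ≤ 2 := by
      calc Module.finrank F (LinearMap.range φ) ≤ Module.finrank F (F × F) := Submodule.finrank_le _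
        _ = 2 := by simp
    have h3 : Module.finrank F (Fin m ⊕ Fin m → F) = m + m := by simp
    rw [h3, ← hW] at h1
    omega
  have hmem : ∀ w, w ∈ W ↔ sympForm m F a w = 0 ∧ sympForm m F b w = 0 := by
    intro w
    rw [hW, LinearMap.mem_ker, hφ, LinearMap.prod_apply]
    simp [Prod.ext_iff]
  obtain ⟨w1, hw1⟩ : ∃ w1 : W, w1 ≠ 0 := by
    have hpos : 0 < Module.finrank F W := by omega
    have : Nontrivial W := Module.finrank_pos_iff.1 hpos
    exact exists_ne 0
  have hw1' : (w1 : Fin m ⊕ Fin m → F) ≠ 0 := by simpa using hw1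
  obtain ⟨h1a, h1b⟩ := (hmem w1).1 w1.2
  obtain ⟨z, hz⟩ := exists_partner hw1'
  set z' := z - (sympForm m F z b) • a + (sympForm m F z a) • b with hz'
  have hz'a : sympForm m F a z' = 0 := by
    rw [hz', sympForm_add_right, sympForm_sub_right, sympForm_smul_right, sympForm_smul_right,
      sympForm_self, hab, sympForm_swap a z]
    ring
  have hz'b : sympForm m F b z' = 0 := by
    rw [hz', sympForm_add_right, sympForm_sub_right, sympForm_smul_right, sympForm_smul_right,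
      sympForm_self, sympForm_swap b a, hab, sympForm_swap b z]
    ring
  have hz'1 : sympForm m F w1 z' = 1 := by
    rw [hz', sympForm_add_right, sympForm_sub_right, sympForm_smul_right, sympForm_smul_right,
      sympForm_swap (w1 : Fin m ⊕ Fin m → F) a, sympForm_swap (w1 : Fin m ⊕ Fin m → F) b, h1a, h1b, hz]
    ring
  have hx : ∃ x, sympForm m F a x = 0 ∧ sympForm m F b x = 0 ∧ Q x ≠ 0 := by
    by_cases h1 : Q w1 = 0
    · by_cases h2 : Q z' = 0
      · refine ⟨w1 + z', by rw [sympForm_add_right, h1a, hz'a, add_zero],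
          by rw [sympForm_add_right, h1b, hz'b, add_zero], ?_⟩
        rw [Q_add hpol, h1, h2, hz'1]
        simp
      · exact ⟨z', hz'a, hz'b, h2⟩
    · exact ⟨w1, h1a, h1b, h1⟩
  obtain ⟨x, hxa, hxb, hxQ⟩ := hx
  obtain ⟨s, hs⟩ := exists_sq (t / Q x)
  refine ⟨s • x, by rw [sympForm_smul_right, hxa, mul_zero], by rw [sympForm_smul_right, hxb, mul_zero], ?_⟩
  rw [hQ.smul, hs, div_mul_cancel₀ _ hxQ]

theorem mem_quad_iff (hm : 1 ≤ m)
    (hpol : ∀ u v, QuadraticMap.polar Q u v = Cfsg.sympForm m F u v) (g : GL (Fin m ⊕ Fin m) F) :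
    g ∈ Cfsg.Geo.quadSimilarityGroup Q ⊓ Cfsg.spGL m F ↔
      g ∈ spGL m F ∧ ∀ u, Q ((g : Matrix _ _ F) *ᵥ u) = Q u := by
  obtain ⟨e0, he0⟩ : ∃ e0 : Fin m ⊕ Fin m → F, e0 ≠ 0 :=
    ⟨Pi.single (Sum.inl ⟨0, by omega⟩) 1, by simp⟩
  rw [Subgroup.mem_inf]
  constructor
  · rintro ⟨⟨c, hc⟩, hg⟩
    refine ⟨hg, ?_⟩
    have hc1 : (c : F) = 1 := by
      obtain ⟨b, hb⟩ := exists_partner he0
      have h1 := sp_form hg e0 b
      rw [hb, ← hpol, QuadraticMap.polar, ← Matrix.mulVec_add, hc, hc, hc] at h1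
      have h2 : (c : F) * QuadraticMap.polar Q e0 b = 1 := by
        rw [← h1, QuadraticMap.polar]; ring
      rw [hpol, hb, mul_one] at h2
      exact h2
    intro u
    rw [hc, hc1, one_mul]
  · rintro ⟨hg, hgQ⟩
    exact ⟨⟨1, fun v => by rw [hgQ, Units.val_one, one_mul]⟩, hg⟩

theorem tGL_mem_quad [CharP F 2] (hm : 1 ≤ m) (hQ : Cfsg.Geo.IsNondegenerateQuadraticForm Q)
    (hpol : ∀ u v, QuadraticMap.polar Q u v = Cfsg.sympForm m F u v)
    (v : Fin m ⊕ Fin m → F) (c : F) (hc : c + c ^ 2 * Q v = 0) :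
    tGL v c ∈ Cfsg.Geo.quadSimilarityGroup Q ⊓ Cfsg.spGL m F := by
  rw [mem_quad_iff hm hpol]
  refine ⟨tGL_mem v c, fun u => ?_⟩
  rw [tGL_mulVec, Q_add hpol, hQ.smul, sympForm_smul_right]
  linear_combination sympForm m F u v ^ 2 * hc

theorem of_tGL_mem_quad (hm : 1 ≤ m) (hQ : Cfsg.Geo.IsNondegenerateQuadraticForm Q)
    (hpol : ∀ u v, QuadraticMap.polar Q u v = Cfsg.sympForm m F u v)
    {v : Fin m ⊕ Fin m → F} (hv : v ≠ 0) (c : F) 
    (h : tGL v c ∈ Cfsg.Geo.quadSimilarityGroup Q ⊓ Cfsg.spGL m F) : c + c ^ 2 * Q v = 0 := by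
  rw [mem_quad_iff hm hpol] at h
  obtain ⟨u, hu⟩ := exists_partner hv
  have h1 := h.2 u
  rw [tGL_mulVec, Q_add hpol, hQ.smul, sympForm_smul_right, sympForm_swap u v, hu] at h1
  linear_combination h1

/-- For `F` finite of characteristic two, `m ≥ 2`, the isometry group of a non-degenerate quadratic form polarising to
the standard alternating form is maximal in `Sp_2m(F)`. -/
theorem quad_maximal [Finite F] [CharP F 2] (hm : 2 ≤ m)
    (hQ : Cfsg.Geo.IsNondegenerateQuadraticForm Q)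
    (hpol : ∀ u v, QuadraticMap.polar Q u v = Cfsg.sympForm m F u v) :
    Cfsg.Geo.IsMaximalIn (Cfsg.spGL m F) (Cfsg.Geo.quadSimilarityGroup Q ⊓ Cfsg.spGL m F) := by
  classical
  have hm1 : 1 ≤ m := by omega
  obtain ⟨e0, he0⟩ : ∃ e0 : Fin m ⊕ Fin m → F, e0 ≠ 0 :=
    ⟨Pi.single (Sum.inl ⟨0, by omega⟩) 1, by simp⟩
  refine ⟨?_, ?_⟩
  · rw [lt_iff_le_and_ne]
    refine ⟨inf_le_right, fun heq => ?_⟩
    obtain ⟨b, hb⟩ := exists_partner he0
    obtain ⟨w, hw0, hw1, hwQ⟩ := exists_value_two hm hQ hpol hb (Q e0)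
    have hne : e0 + w ≠ 0 := by
      intro h0
      have := congrArg (sympForm m F b) h0
      rw [sympForm_add_right, hw1, add_zero, sympForm_swap, hb, sympForm_zero_right] at this
      simp at this
    have hQ0 : Q (e0 + w) = 0 := by
      rw [Q_add hpol, hw0, hwQ, add_zero, CharTwo.add_self_eq_zero]
    have h1 : tGL (e0 + w) 1 ∈ Cfsg.Geo.quadSimilarityGroup Q ⊓ Cfsg.spGL m F := by
      rw [heq]; exact tGL_mem _ 1
    have h2 := of_tGL_mem_quad hm1 hQ hpol hne 1 h1
    rw [hQ0] at h2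
    simp at h2
  · intro M hHM hMK
    by_cases hM : M = Cfsg.Geo.quadSimilarityGroup Q ⊓ Cfsg.spGL m F
    · exact Or.inl hM
    right
    have hlt : ∃ h ∈ M, h ∉ Cfsg.Geo.quadSimilarityGroup Q ⊓ Cfsg.spGL m F := by
      by_contra hcon
      push Not at hcon
      exact hM (le_antisymm hcon hHM)
    obtain ⟨h, hhM, hhn⟩ := hlt
    have hmem := mem_quad_iff hm1 hpol
    -- the set of shifts
    let P : (Fin m ⊕ Fin m → F) → Prop := fun a => ∃ g ∈ M, ∀ u, Q ((g : Matrix _ _ F) *ᵥ u) = Q u + sympForm m F a u ^ 2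
    have step1 : ∀ a b, a ≠ 0 → b ≠ 0 → Q a = Q b → P a → P b := by
      rintro a b ha hb hab ⟨g, hgM, hg⟩
      obtain ⟨k, hk, hkQ, hka⟩ := exists_isometry hQ hpol ha hb hab
      have hkM : k ∈ M := hHM ((hmem k).2 ⟨hk, hkQ⟩)
      refine ⟨g * k⁻¹, M.mul_mem hgM (M.inv_mem hkM), fun u => ?_⟩
      rw [mul_mulVec, hg]
      have h1 : Q (((k⁻¹ : GL _ F) : Matrix _ _ F) *ᵥ u) = Q u := by
        rw [← hkQ, mulVec_inv_cancel]
      have h2 : sympForm m F a (((k⁻¹ : GL _ F) : Matrix _ _ F) *ᵥ u) = sympForm m F b u := by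
        have h3 := sp_form hk a (((k⁻¹ : GL _ F) : Matrix _ _ F) *ᵥ u)
        rw [mulVec_inv_cancel, hka] at h3
        exact h3.symm
      rw [h1, h2]
    obtain ⟨a, ha⟩ := exists_shift hQ hpol (hMK hhM)
    have ha0 : a ≠ 0 := by
      rintro rfl
      apply hhn
      rw [hmem]
      refine ⟨hMK hhM, fun u => ?_⟩
      rw [ha, sympForm_zero_left]
      ring
    have hPa : P a := ⟨h, hhM, ha⟩
    -- transvections
    refine le_antisymm hMK (spGL_le M fun v c => ?_)
    by_cases hv : v = 0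
    · have : tGL v c = 1 := by
        apply gl_ext
        intro u
        rw [tGL_mulVec, hv]
        simp
      rw [this]
      exact M.one_mem
    by_cases hc : c = 0
    · have : tGL v c = 1 := by
        apply gl_ext
        intro u
        rw [tGL_mulVec, hc]
        simp
      rw [this]
      exact M.one_mem
    obtain ⟨s, hs⟩ := exists_sq (c⁻¹ + Q v)
    by_cases hs0 : s = 0
    · apply hHM
      apply tGL_mem_quad hm1 hQ hpol
      have h1 : c⁻¹ + Q v = 0 := by rw [← hs, hs0]; ring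
      have h2 : c ^ 2 * (c⁻¹ + Q v) = 0 := by rw [h1, mul_zero]
      have h3 : c ^ 2 * (c⁻¹ + Q v) = c + c ^ 2 * Q v := by field_simp
      rw [← h3, h2]
    -- a shift `b` with `f(b, v) = s`
    obtain ⟨v', hv'⟩ := exists_partner hv
    obtain ⟨w, hwv, hwv', hwQ⟩ := exists_value_two hm hQ hpol hv' (Q a + s ^ 2 * Q v')
    have hbv : sympForm m F (s • v' + w) v = s := by
      rw [sympForm_add_left, sympForm_smul_left, sympForm_swap v' v, hv', sympForm_swap w v, hwv]
      rw [mul_neg, mul_one, neg_zero, add_zero, CharTwo.neg_eq]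
    have hbQ : Q (s • v' + w) = Q a := by
      rw [Q_add hpol, hQ.smul, sympForm_smul_left, hwv', hwQ]
      have : s ^ 2 * Q v' + (Q a + s ^ 2 * Q v') + s * 0 = Q a + (s ^ 2 * Q v' + s ^ 2 * Q v') := by ring
      rw [this, CharTwo.add_self_eq_zero, add_zero]
    have hb0 : s • v' + w ≠ 0 := by
      intro h0
      rw [h0, sympForm_zero_left] at hbv
      exact hs0 hbv.symm
    obtain ⟨g, hgM, hg⟩ := step1 a _ ha0 hb0 hbQ.symm hPa
    have hgv : Q ((g : Matrix _ _ F) *ᵥ v) = c⁻¹ := by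
      rw [hg, hbv, hs]
      have : Q v + (c⁻¹ + Q v) = c⁻¹ + (Q v + Q v) := by ring
      rw [this, CharTwo.add_self_eq_zero, add_zero]
    have ht : tGL ((g : Matrix _ _ F) *ᵥ v) c ∈ M := by
      apply hHM
      apply tGL_mem_quad hm1 hQ hpol
      rw [hgv]
      have : c + c ^ 2 * c⁻¹ = c + c := by field_simp
      rw [this, CharTwo.add_self_eq_zero]
    have hconj : tGL v c = g⁻¹ * tGL ((g : Matrix _ _ F) *ᵥ v) c * g := by
      apply gl_ext
      intro u
      rw [mul_mulVec, mul_mulVec, tGL_mulVec, tGL_mulVec, Matrix.mulVec_add, Matrix.mulVec_smul,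
        inv_mulVec_cancel, inv_mulVec_cancel, sp_form (hMK hgM)]
    rw [hconj]
    exact M.mul_mem (M.mul_mem (M.inv_mem hgM) ht) hgM

end Cfsg.Agent.H910
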