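import Cfsg.Agent.H910.Transv
import Cfsg.Agent.H910.Decomp
import Cfsg.Agent.H914.Sub

/-!
Subfield subgroups of `Sp_4(q)`, `q` even (helper910): the standard one (`P = 1`).
-/

set_option autoImplicit false
open Cfsg
open scoped Matrix MatrixGroups

namespace Cfsg.Agent.H910

open Cfsg.Agent.ClassicalGeometry.SympBasic Cfsg.Agent.H876 Cfsg.Agent.S5652

/-! ### Generalities on Siegel transformations -/

section sieg

variable {F : Type*} [Field F] {m : ℕ}

theorem sieg_mul {e u v : Fin m ⊕ Fin m → F} (hu : sympForm m F e u = 0) (hv : sympForm m F e v = 0) (c d : F) :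
    sieg e u c * sieg e v d = sieg e (u + v) (c + d + sympForm m F v u) := by
  apply gl_ext
  intro x
  have huv : sympForm m F e (u + v) = 0 := by rw [sympForm_add_right, hu, hv, add_zero]
  have hu' : sympForm m F u e = 0 := by rw [sympForm_swap, hu, neg_zero]
  have hv' : sympForm m F v e = 0 := by rw [sympForm_swap, hv, neg_zero]
  rw [mul_mulVec, sieg_mulVec hv, sieg_mulVec hu, sieg_mulVec huv]
  simp only [sympForm_add_left, sympForm_add_right, sympForm_smul_left, sympForm_self, hu, hv']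
  ext i
  simp only [Pi.add_apply, Pi.smul_apply, smul_eq_mul]
  ring

theorem conj_sieg {g : GL (Fin m ⊕ Fin m) F} (hg : g ∈ spGL m F) (e w : Fin m ⊕ Fin m → F) (c : F) :
    g * sieg e w c * g⁻¹ = sieg ((g : Matrix _ _ F) *ᵥ e) ((g : Matrix _ _ F) *ᵥ w) c := by
  have h1 : g * sieg e w c * g⁻¹ = (g * tGL (e + w) 1 * g⁻¹) * (g * tGL w (-1) * g⁻¹) * (g * tGL e (c - 1) * g⁻¹) := by
    rw [sieg]; group
  rw [h1, conj_tGL hg, conj_tGL hg, conj_tGL hg, sieg, Matrix.mulVec_add]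

theorem sieg_zero (e : Fin m ⊕ Fin m → F) (c : F) : sieg e 0 c = tGL e c := by
  apply gl_ext
  intro x
  rw [sieg_mulVec (by simp), tGL_mulVec]
  simp

/-- the component of `w` along `e` only changes the parameter. -/
theorem sieg_add_smul [CharP F 2] {e w : Fin m ⊕ Fin m → F} (h : sympForm m F e w = 0) (a c : F) :
    sieg e (w + a • e) c = sieg e w c := by
  apply gl_ext
  intro x
  have h' : sympForm m F e (w + a • e) = 0 := by
    rw [sympForm_add_right, sympForm_smul_right, h, sympForm_self]; ring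
  rw [sieg_mulVec h', sieg_mulVec h, sympForm_add_right, sympForm_smul_right]
  have h2 : (2 : F) = 0 := CharTwo.two_eq_zero
  ext i
  simp only [Pi.add_apply, Pi.smul_apply, smul_eq_mul]
  linear_combination (a * sympForm m F x e * e i) * h2

/-- the transvection with centre `w + b e`. -/
theorem tGL_add_smul {e w : Fin m ⊕ Fin m → F} (h : sympForm m F e w = 0) (b d : F) :
    tGL (w + b • e) d = tGL w d * sieg e ((d * b) • w) (d * b ^ 2) := by
  apply gl_ext
  intro x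
  have h' : sympForm m F e ((d * b) • w) = 0 := by rw [sympForm_smul_right, h, mul_zero]
  have hw : sympForm m F w e = 0 := by rw [sympForm_swap, h, neg_zero]
  rw [mul_mulVec, sieg_mulVec h', tGL_mulVec, tGL_mulVec]
  simp only [sympForm_add_left, sympForm_add_right, sympForm_smul_left, sympForm_smul_right, sympForm_self, h]
  ext i
  simp only [Pi.add_apply, Pi.smul_apply, smul_eq_mul]
  ring

end sieg

/-! ### The standard subfield subgroup -/

section std

variable {F : Type*} [Field F]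

local notation "V4" => Fin 2 ⊕ Fin 2 → F
local notation "M4" => Matrix (Fin 2 ⊕ Fin 2) (Fin 2 ⊕ Fin 2) F

/-- the standard basis. -/
abbrev ea : Fin 2 ⊕ Fin 2 → F := Pi.single (Sum.inl 0) 1
/-- the standard basis. -/
abbrev eb : Fin 2 ⊕ Fin 2 → F := Pi.single (Sum.inl 1) 1
/-- the standard basis. -/
abbrev ec : Fin 2 ⊕ Fin 2 → F := Pi.single (Sum.inr 0) 1
/-- the standard basis. -/
abbrev ed : Fin 2 ⊕ Fin 2 → F := Pi.single (Sum.inr 1) 1

variable (F₀ : Subfield F)

/-- vectors with entries in `F₀`. -/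
def V0 (x : V4) : Prop := ∀ i, x i ∈ F₀

/-- symplectic matrices with entries in `F₀`. -/
def H0 : Subgroup (GL (Fin 2 ⊕ Fin 2) F) := Cfsg.Geo.subfieldSubgroup F₀ 1 ⊓ spGL 2 F

variable {F₀}

theorem V0.add {x y : V4} (hx : V0 F₀ x) (hy : V0 F₀ y) : V0 F₀ (x + y) := fun i => F₀.add_mem (hx i) (hy i)

theorem V0.smul {x : V4} (hx : V0 F₀ x) {a : F} (ha : a ∈ F₀) : V0 F₀ (a • x) := fun i => F₀.mul_mem ha (hx i)

theorem V0_single (j : Fin 2 ⊕ Fin 2) : V0 F₀ (Pi.single j 1 : V4) := by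
  intro i
  rw [Pi.single_apply]
  split_ifs
  · exact F₀.one_mem
  · exact F₀.zero_mem

theorem V0.form {x y : V4} (hx : V0 F₀ x) (hy : V0 F₀ y) : sympForm 2 F x y ∈ F₀ := by
  rw [sympForm_eq_sum]
  exact F₀.sum_mem fun i _ => F₀.sub_mem (F₀.mul_mem (hx _) (hy _)) (F₀.mul_mem (hx _) (hy _))

theorem mem_of_sq [Finite F] [CharP F 2] {a : F} (h : a ^ 2 ∈ F₀) : a ∈ F₀ := by
  have hch : CharP F₀ 2 := inferInstance
  obtain ⟨b, hb⟩ := exists_sq (⟨a ^ 2, h⟩ : F₀)
  have h1 : (b : F) ^ 2 = a ^ 2 := by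
    have := congrArg (fun z : F₀ => (z : F)) hb
    simpa using this
  rw [← sq_inj h1]
  exact b.2

theorem mem_H0 [Finite F] [CharP F 2] {g : GL (Fin 2 ⊕ Fin 2) F} :
    g ∈ H0 F₀ ↔ g ∈ spGL 2 F ∧ ∀ i j, (g : M4) i j ∈ F₀ := by
  rw [H0, Subgroup.mem_inf, Cfsg.Agent.H914.mem_subfieldSubgroup_iff]
  simp only [inv_one, one_mul, mul_one]
  constructor
  · rintro ⟨⟨c, hc, h⟩, hg⟩
    refine ⟨hg, ?_⟩
    have hV : ∀ x : V4, V0 F₀ x → V0 F₀ (c • ((g : M4) *ᵥ x)) := by
      intro x hx i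
      rw [Pi.smul_apply, Matrix.mulVec, dotProduct, smul_eq_mul, Finset.mul_sum]
      refine F₀.sum_mem fun j _ => ?_
      rw [← mul_assoc]
      exact F₀.mul_mem (h i j) (hx j)
    have h1 := (hV _ (V0_single (.inr 0))).form (hV _ (V0_single (.inl 0)))
    rw [sympForm_smul_left, sympForm_smul_right, sp_form hg, sympForm_single_inr_left, Pi.single_eq_same, mul_one,
      ← pow_two] at h1
    have h2 : c ∈ F₀ := mem_of_sq h1
    intro i j
    have h3 := F₀.mul_mem (F₀.inv_mem h2) (h i j)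
    rwa [← mul_assoc, inv_mul_cancel₀ hc, one_mul] at h3
  · rintro ⟨hg, h⟩
    exact ⟨⟨1, one_ne_zero, fun i j => by rw [one_mul]; exact h i j⟩, hg⟩

variable [Finite F] [CharP F 2]

theorem H0_mulVec {g : GL (Fin 2 ⊕ Fin 2) F} (hg : g ∈ H0 F₀) {x : V4} (hx : V0 F₀ x) :
    V0 F₀ ((g : M4) *ᵥ x) := by
  intro i
  rw [Matrix.mulVec, dotProduct]
  exact F₀.sum_mem fun j _ => F₀.mul_mem ((mem_H0.1 hg).2 i j) (hx j)

/-- an isometry mapping the standard basis into `F₀`-vectors. -/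
theorem mem_H0_of {g : GL (Fin 2 ⊕ Fin 2) F} (hg : g ∈ spGL 2 F)
    (h : ∀ j, V0 F₀ ((g : M4) *ᵥ Pi.single j 1)) : g ∈ H0 F₀ := by
  rw [mem_H0]
  refine ⟨hg, fun i j => ?_⟩
  have := h j i
  rwa [Matrix.mulVec_single_one] at this

theorem tGL_mem_H0 {v : V4} (hv : V0 F₀ v) {c : F} (hc : c ∈ F₀) : tGL v c ∈ H0 F₀ := by
  apply mem_H0_of (tGL_mem _ _)
  intro j
  rw [tGL_mulVec]
  exact (V0_single j).add (hv.smul (F₀.mul_mem hc ((V0_single j).form hv)))

theorem sieg_mem_H0 {e w : V4} (he : V0 F₀ e) (hw : V0 F₀ w) {c : F} (hc : c ∈ F₀) : sieg e w c ∈ H0 F₀ :=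
  Subgroup.mul_mem _ (Subgroup.mul_mem _ (tGL_mem_H0 (he.add hw) F₀.one_mem)
    (tGL_mem_H0 hw (F₀.neg_mem F₀.one_mem))) (tGL_mem_H0 he (F₀.sub_mem hc F₀.one_mem))

/-- `H0` is transitive on the non-zero `F₀`-vectors. -/
theorem exists_H0_mulVec {x y : V4} (hx : V0 F₀ x) (hy : V0 F₀ y) (hx0 : x ≠ 0) (hy0 : y ≠ 0) :
    ∃ g ∈ H0 F₀, (g : M4) *ᵥ x = y := by
  -- one step
  have step : ∀ a b : V4, V0 F₀ a → V0 F₀ b → sympForm 2 F a b ≠ 0 →
      ∃ g ∈ H0 F₀, (g : M4) *ᵥ a = b := by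
    intro a b ha hb hab
    refine ⟨tGL (b - a) (sympForm 2 F a b)⁻¹, tGL_mem_H0 ?_ (F₀.inv_mem (ha.form hb)), ?_⟩
    · intro i; exact F₀.sub_mem (hb i) (ha i)
    · rw [tGL_mulVec, sympForm_sub_right, sympForm_self, sub_zero, inv_mul_cancel₀ hab, one_smul]
      abel
  obtain ⟨z, hz, hxz, hyz⟩ : ∃ z : V4, V0 F₀ z ∧ sympForm 2 F x z ≠ 0 ∧ sympForm 2 F y z ≠ 0 := by
    have key : ∀ x : V4, x ≠ 0 → ∃ j, sympForm 2 F x (Pi.single j 1) ≠ 0 := by
      intro x hx
      by_contra hcon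
      push Not at hcon
      apply hx
      funext j
      rcases j with j | j
      · have := hcon (.inr j)
        rw [sympForm_single_inr_right] at this
        simpa using this
      · have := hcon (.inl j)
        rw [sympForm_single_inl_right] at this
        simpa using this
    obtain ⟨i, hi⟩ := key x hx0
    obtain ⟨j, hj⟩ := key y hy0
    by_cases ha' : sympForm 2 F y (Pi.single i 1) = 0
    · by_cases hb' : sympForm 2 F x (Pi.single j 1) = 0
      · refine ⟨Pi.single i 1 + Pi.single j 1, (V0_single i).add (V0_single j), ?_, ?_⟩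
        · rwa [sympForm_add_right, hb', add_zero]
        · rwa [sympForm_add_right, ha', zero_add]
      · exact ⟨_, V0_single j, hb', hj⟩
    · exact ⟨_, V0_single i, hi, ha'⟩
  obtain ⟨g1, hg1, h1⟩ := step x z hx hz hxz
  obtain ⟨g2, hg2, h2⟩ := step z y hz hy (by rw [sympForm_swap]; exact neg_ne_zero.2 hyz)
  refine ⟨g2 * g1, Subgroup.mul_mem _ hg2 hg1, ?_⟩
  rw [mul_mulVec, h1, h2]

end std

end Cfsg.Agent.H910
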